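import Cfsg.Agent.Lib.RootSubgroups.Basic

/-! Components of the graph `𝓕(S)`. -/

namespace Cfsg.Agent.Lib.RootSubgroups

open Cfsg
open scoped commutatorElement

variable {G : Type*} [Group G] {S : Set (Subgroup G)} {A B E : Subgroup G}

theorem commutatorElement_mul_right_of_central {x y y' : G}
    (h : ⁅x, y'⁆ * y = y * ⁅x, y'⁆) : ⁅x, y * y'⁆ = ⁅x, y⁆ * ⁅x, y'⁆ := by
  calc ⁅x, y * y'⁆ = x * y * x⁻¹ * (⁅x, y'⁆ * y⁻¹) := by simp [commutatorElement_def, mul_assoc]
    _ = x * y * x⁻¹ * (y⁻¹ * ⁅x, y'⁆) := by rw [(Commute.inv_right h).eq]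
    _ = ⁅x, y⁆ * ⁅x, y'⁆ := by simp [commutatorElement_def, mul_assoc]

namespace Root

theorem fadj_symm {X Y : Subgroup G} (h : FAdj S X Y) : FAdj S Y X :=
  ⟨h.2.1, h.1, RankOnePair_symm h.2.2⟩

theorem reach_symm {X Y : Subgroup G} (h : Relation.ReflTransGen (FAdj S) X Y) :
    Relation.ReflTransGen (FAdj S) Y X := by
  induction h with
  | refl => exact Relation.ReflTransGen.refl
  | tail _ hxy ih => exact (Relation.ReflTransGen.single (fadj_symm hxy)).trans ih

theorem componentOf_eq {X Y : Subgroup G} (h : Relation.ReflTransGen (FAdj S) X Y) :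
    componentOf (FAdj S) S X = componentOf (FAdj S) S Y := by
  ext Z
  exact ⟨fun ⟨hZ, h'⟩ => ⟨hZ, (reach_symm h).trans h'⟩, fun ⟨hZ, h'⟩ => ⟨hZ, h.trans h'⟩⟩

theorem hasPartner_of_component {A A' : Subgroup G}
    (h : A' ∈ componentOf (FAdj S) S A) (hne : A' ≠ A) : HasPartner S A := by
  rcases Relation.ReflTransGen.cases_head h.2 with e | ⟨E, he, -⟩
  · exact absurd e.symm hne
  · exact ⟨E, he.2.1, he.2.2⟩

/-- Collinear members which have partners lie in one component of `𝓕(S)`. -/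
theorem reach_of_linePartner (hS : IsRootSubgroupSet S) (hA : A ∈ S) (hpA : HasPartner S A)
    (hpB : HasPartner S B) (hB : B ∈ linePartners S A) :
    Relation.ReflTransGen (FAdj S) A B := by
  obtain ⟨E, hE, hAE⟩ := hpA
  obtain ⟨E', hE', hBE⟩ := hpB
  obtain ⟨⟨hBS, hne, hcomm⟩, hpart⟩ := hB
  by_contra hnr
  have step : ∀ X Y E : Subgroup G, X ∈ S → Y ∈ S → E ∈ S → IsRankOnePair X E →
      ¬ IsRankOnePair Y E → ∀ y ∈ Y, ⁅E, conjBy E y⁆ = ⊥ := by
    intro X Y E _ hY hE _ hne y hy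
    rcases hS.pair Y hY E hE with hc | hr | hr
    · rw [conjBy_of_comm fun x hx => comm_of_commutator_eq_bot hc hy hx]
      exact commutator_eq_bot_of_comm fun x hx x' hx' => comm_self hS hE hx hx'
    · exact absurd hr hne
    · exact rcc_conj_commute hS hE hr hy
  obtain ⟨a, ha, ha1⟩ := exists_ne_one (hS.ne_bot A hA)
  obtain ⟨b, hb, hb1⟩ := exists_ne_one (hS.ne_bot B hBS)
  have hab : a * b ≠ 1 := fun e => hne (eq_of_meet hS hA hBS ⟨E, hE, hAE⟩ ha
    (by rw [← inv_mem_iff, inv_eq_of_mul_eq_one_right e]; exact hb) ha1)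
  obtain ⟨F, ⟨hF, -⟩, hab'⟩ := hpart.2.1 (a * b)
    (mul_mem (Subgroup.mem_sup_left ha) (Subgroup.mem_sup_right hb)) hab
  have hFE : IsRankOnePair F E := rankOne_of_shift hS hE hAE hF
    (fun x hx => (comm_of_commutator_eq_bot hcomm hx hb).symm)
    (step A B E hA hBS hE hAE (fun hr => hnr
      ((Relation.ReflTransGen.single ⟨hA, hE, hAE⟩).tail ⟨hE, hBS, RankOnePair_symm hr⟩)) b hb)
    ha ha1 hab'
  have hFE' : IsRankOnePair F E' := rankOne_of_shift hS hE' hBE hF
    (fun x hx => comm_of_commutator_eq_bot hcomm ha hx)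
    (step B A E' hBS hA hE' hBE (fun hr => hnr
      ((Relation.ReflTransGen.single ⟨hA, hE', hr⟩).tail ⟨hE', hBS, RankOnePair_symm hBE⟩)) a ha)
    hb hb1 (by rw [← comm_of_commutator_eq_bot hcomm ha hb]; exact hab')
  exact hnr ((((Relation.ReflTransGen.single ⟨hA, hE, hAE⟩).tail
    ⟨hE, hF, RankOnePair_symm hFE⟩).tail ⟨hF, hE', hFE'⟩).tail ⟨hE', hBS, RankOnePair_symm hBE⟩)

theorem reach_conj (hS : IsRootSubgroupSet S) (hp : ∀ X ∈ S, HasPartner S X) (g : G) :
    ∀ A ∈ S, Relation.ReflTransGen (FAdj S) A (conjBy A g) := by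
  have gen : ∀ E ∈ S, ∀ e ∈ E, ∀ A ∈ S, Relation.ReflTransGen (FAdj S) A (conjBy A e) := by
    intro E hE e he A hA
    rcases hS.pair A hA E hE with hc | hr | hr
    · rw [conjBy_of_comm fun a ha => (comm_of_commutator_eq_bot hc ha he).symm]
    · by_cases hfix : conjBy A e = A
      · rw [hfix]
      · refine Relation.ReflTransGen.single ⟨hA, hS.conj_mem A hA e, ?_⟩
        exact (RankOne.pair_of_mem hr (RankOne.left_mem A E)
          (RankOne.conjBy_mem_unipotent (Subgroup.mem_sup_right he) (RankOne.left_mem A E))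
          (Ne.symm hfix)).1
    · have hL : ⁅conjBy A e, E⁆ = ⁅A, E⁆ := by
        calc ⁅conjBy A e, E⁆ = ⁅conjBy A e, conjBy E e⁆ := by rw [conjBy_of_mem he]
          _ = conjBy ⁅A, E⁆ e := (conjBy_commutator A E e).symm
          _ = ⁅A, E⁆ := conjBy_of_comm fun c hc =>
              (hr.2.1 c hc e (Subgroup.mem_sup_right he)).symm
      have hA' := hS.conj_mem A hA e
      have hr' := rcc_of_commutator_mem hS hA' hE (by rw [hL]; exact hr.1)
      have h1 := reach_of_linePartner hS hA (hp A hA) (hp _ hr.1)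
        (mem_linePartners' hS hA (hp A hA) hr)
      have h2 := reach_of_linePartner hS hA' (hp _ hA') (hp _ hr'.1)
        (mem_linePartners' hS hA' (hp _ hA') hr')
      rw [hL] at h2
      exact h1.trans (reach_symm h2)
  have hg : g ∈ (⊤ : Subgroup G) := trivial
  rw [← hS.generates] at hg
  induction hg using Subgroup.iSup_induction' with
  | hp E x hx =>
    by_cases hE : E ∈ S
    · rw [iSup_pos hE] at hx; exact gen E hE x hx
    · rw [iSup_neg hE, Subgroup.mem_bot] at hx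
      intro A _; rw [hx, conjBy_one]
  | h1 => intro A _; rw [conjBy_one]
  | hmul x y _ _ ihx ihy =>
    intro A hA
    rw [← conjBy_conjBy]
    exact (ihy A hA).trans (ihx _ (hS.conj_mem A hA y))

end Root

end Cfsg.Agent.Lib.RootSubgroups
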