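import Cfsg.Agent.Lib.RootSubgroups.SpecialDerived

/-! A simplicity criterion for the quotient by the centre. -/

namespace Cfsg.Agent.Lib.RootSubgroups

open Cfsg

/-- Quasisimplicity of a subgroup from the dichotomy for its normal subgroups. -/
theorem isQuasisimple_of_dichotomy {G : Type*} [Group G] {P : Subgroup G}
    (hperf : ⁅P, P⁆ = P) (hne : P ≠ ⊥)
    (h : ∀ M : Subgroup G, M ≤ P → (∀ y ∈ P, ∀ m ∈ M, y * m * y⁻¹ ∈ M) →
      (∀ m ∈ M, ∀ y ∈ P, m * y = y * m) ∨ M = P) : IsQuasisimple ↥P := by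
  have hp : Group.IsPerfect ↥P := Subgroup.isPerfect_iff.mpr hperf
  refine ⟨hp, ?_⟩
  have hnc : Subgroup.center ↥P ≠ ⊤ := by
    intro e
    apply hne
    rw [← hperf, Subgroup.commutator_eq_bot_iff_le_centralizer]
    intro x hx
    refine Subgroup.mem_centralizer_iff.mpr fun y hy => ?_
    have : (⟨x, hx⟩ : ↥P) ∈ Subgroup.center ↥P := by rw [e]; trivial
    exact congrArg Subtype.val (Subgroup.mem_center_iff.mp this ⟨y, hy⟩)
  haveI : Nontrivial (↥P ⧸ Subgroup.center ↥P) := QuotientGroup.nontrivial_iff.mpr hnc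
  constructor
  intro N hN
  set M₀ := N.comap (QuotientGroup.mk' (Subgroup.center ↥P)) with hM₀
  have hM₀n : M₀.Normal := inferInstance
  rcases h (M₀.map P.subtype) (Subgroup.map_subtype_le M₀) (by
      rintro y hy _ ⟨m, hm, rfl⟩
      exact ⟨⟨y, hy⟩ * m * ⟨y, hy⟩⁻¹, hM₀n.conj_mem m hm _, rfl⟩) with hc | htop
  · left
    rw [eq_bot_iff]
    intro z hz
    obtain ⟨x, rfl⟩ := QuotientGroup.mk'_surjective _ z
    refine (QuotientGroup.eq_one_iff x).mpr (Subgroup.mem_center_iff.mpr fun y => Subtype.ext ?_)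
    exact (hc x ⟨x, hz, rfl⟩ y y.2).symm
  · right
    rw [eq_top_iff]
    intro z _
    obtain ⟨x, rfl⟩ := QuotientGroup.mk'_surjective _ z
    have : (x : G) ∈ M₀.map P.subtype := by rw [htop]; exact x.2
    obtain ⟨x', hx', e⟩ := this
    rw [show x = x' from Subtype.ext e.symm]
    exact hx'

end Cfsg.Agent.Lib.RootSubgroups
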