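import Cfsg.Agent.Lib.RootSubgroups.Special

/-! Transferring root subgroup sets to the group they generate. -/

namespace Cfsg.Agent.Lib.RootSubgroups

open Cfsg

variable {G : Type*} [Group G] {S : Set (Subgroup G)}

theorem le_iSup_members {A : Subgroup G} (hA : A ∈ S) : A ≤ ⨆ B ∈ S, B :=
  le_biSup (fun B => B) hA

theorem commutator_subgroupOf {U A B : Subgroup G} (hA : A ≤ U) (hB : B ≤ U) :
    ⁅A.subgroupOf U, B.subgroupOf U⁆ = ⁅A, B⁆.subgroupOf U := by
  apply Subgroup.map_injective U.subtype_injective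
  rw [Subgroup.map_commutator, Subgroup.map_subgroupOf_eq_of_le hA,
    Subgroup.map_subgroupOf_eq_of_le hB, Subgroup.map_subgroupOf_eq_of_le
      (Subgroup.commutator_le.mpr fun a ha b hb => by
        rw [commutatorElement_def]
        exact mul_mem (mul_mem (mul_mem (hA ha) (hB hb)) (inv_mem (hA ha))) (inv_mem (hB hb)))]

theorem isRootSubgroupSet_subgroupOf (hcomm : ∀ A ∈ S, IsMulCommutative A)
    (hne : ∀ A ∈ S, A ≠ ⊥) (hconj : ∀ A ∈ S, ∀ g ∈ ⨆ B ∈ S, B, conjBy A g ∈ S)
    (hpair : ∀ A ∈ S, ∀ B ∈ S, ⁅A, B⁆ = ⊥ ∨ IsRankOnePair A B ∨ RootCommutatorCase S A B) :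
    IsRootSubgroupSet ((fun A : Subgroup G => A.subgroupOf (⨆ B ∈ S, B)) '' S) := by
  set U := ⨆ B ∈ S, B with hU
  have hle : ∀ A ∈ S, A ≤ U := fun A hA => le_iSup_members hA
  constructor
  · rintro _ ⟨A, hA, rfl⟩
    refine ⟨⟨fun a b => ?_⟩⟩
    have h := congrArg Subtype.val ((hcomm A hA).is_comm.comm
      (⟨((a : U) : G), a.2⟩ : A) ⟨((b : U) : G), b.2⟩)
    apply Subtype.ext
    apply Subtype.ext
    exact h
  · rintro _ ⟨A, hA, rfl⟩ h
    exact hne A hA (by rw [← Subgroup.map_subgroupOf_eq_of_le (hle A hA), show A.subgroupOf U = ⊥ from h,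
      Subgroup.map_bot])
  · apply Subgroup.map_injective U.subtype_injective
    rw [← MonoidHom.range_eq_map, Subgroup.range_subtype, Subgroup.map_iSup]
    refine le_antisymm (iSup_le fun A' => ?_) (iSup₂_le fun A hA => ?_)
    · rw [Subgroup.map_iSup]
      refine iSup_le ?_
      rintro ⟨A, hA, rfl⟩
      rw [Subgroup.map_subgroupOf_eq_of_le (hle A hA)]
      exact hle A hA
    · refine le_trans ?_ (le_iSup _ (A.subgroupOf U))
      rw [Subgroup.map_iSup]
      refine le_trans ?_ (le_iSup _ ⟨A, hA, rfl⟩)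
      rw [Subgroup.map_subgroupOf_eq_of_le (hle A hA)]
  · rintro _ ⟨A, hA, rfl⟩ g
    refine ⟨conjBy A g, hconj A hA g g.2, ?_⟩
    apply Subgroup.map_injective U.subtype_injective
    rw [RootSubgroups.map_conjBy, Subgroup.map_subgroupOf_eq_of_le (hle A hA),
      Subgroup.map_subgroupOf_eq_of_le (hle _ (hconj A hA g g.2))]
    rfl
  · rintro _ ⟨A, hA, rfl⟩ _ ⟨B, hB, rfl⟩
    rcases hpair A hA B hB with h | h | h
    · left
      rw [commutator_subgroupOf (hle A hA) (hle B hB), h, Subgroup.bot_subgroupOf]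
    · exact Or.inr (Or.inl (RankOne.subgroupOf h (hle A hA) (hle B hB)))
    · refine Or.inr (Or.inr ?_)
      obtain ⟨h1, h2, h3, h4⟩ := h
      have e := commutator_subgroupOf (hle A hA) (hle B hB)
      have hsup : A ⊔ B ≤ U := sup_le (hle A hA) (hle B hB)
      refine ⟨e ▸ ⟨_, h1, rfl⟩, fun c hc x hx => ?_, fun a ha ha1 => ?_, fun b hb hb1 => ?_⟩
      · rw [e] at hc
        rw [RankOne.sup_subgroupOf (hle A hA) (hle B hB)] at hx
        exact Subtype.ext (h2 _ hc _ hx)
      · apply Subgroup.map_injective U.subtype_injective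
        rw [e, Subgroup.map_subgroupOf_eq_of_le (hle _ h1), MonoidHom.map_closure, ← Set.image_comp,
          ← h3 a ha fun z => ha1 (Subtype.ext z)]
        congr 1
        ext z
        constructor
        · rintro ⟨b, hb, rfl⟩; exact ⟨b, hb, rfl⟩
        · rintro ⟨b, hb, rfl⟩; exact ⟨⟨b, hle B hB hb⟩, hb, rfl⟩
      · apply Subgroup.map_injective U.subtype_injective
        rw [e, Subgroup.map_subgroupOf_eq_of_le (hle _ h1), MonoidHom.map_closure, ← Set.image_comp,
          ← h4 b hb fun z => hb1 (Subtype.ext z)]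
        congr 1
        ext z
        constructor
        · rintro ⟨a, ha, rfl⟩; exact ⟨a, ha, rfl⟩
        · rintro ⟨a, ha, rfl⟩; exact ⟨⟨a, hle A hA ha⟩, ha, rfl⟩

end Cfsg.Agent.Lib.RootSubgroups
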