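import Cfsg.Prelude.Def_RootSubgroups

/-! Elementary lemmas about `Cfsg.conjBy`. -/

namespace Cfsg.Agent.Lib.RootSubgroups

open Cfsg

variable {G H : Type*} [Group G] [Group H]

theorem mem_conjBy {A : Subgroup G} {g x : G} : x ∈ conjBy A g ↔ g⁻¹ * x * g ∈ A := by
  rw [Subgroup.mem_map_equiv]
  simp [MulAut.conj_symm_apply]

theorem conj_mem_conjBy {A : Subgroup G} {g x : G} (hx : x ∈ A) : g * x * g⁻¹ ∈ conjBy A g := by
  rw [mem_conjBy]
  simpa [mul_assoc] using hx

theorem conjBy_conjBy (A : Subgroup G) (g h : G) : conjBy (conjBy A g) h = conjBy A (h * g) := by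
  ext x
  simp only [mem_conjBy, mul_inv_rev, mul_assoc]

@[simp] theorem conjBy_one (A : Subgroup G) : conjBy A 1 = A := by
  ext x
  simp [mem_conjBy]

theorem conjBy_inv_cancel (A : Subgroup G) (g : G) : conjBy (conjBy A g) g⁻¹ = A := by
  rw [conjBy_conjBy, inv_mul_cancel, conjBy_one]

theorem conjBy_cancel (A : Subgroup G) (g : G) : conjBy (conjBy A g⁻¹) g = A := by
  rw [conjBy_conjBy, mul_inv_cancel, conjBy_one]

theorem conjBy_eq_iff {A B : Subgroup G} {g : G} : conjBy A g = B ↔ A = conjBy B g⁻¹ :=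
  ⟨fun h => by rw [← h, conjBy_inv_cancel], fun h => by rw [h, conjBy_cancel]⟩

theorem conjBy_inj {A B : Subgroup G} {g : G} (h : conjBy A g = conjBy B g) : A = B := by
  rw [← conjBy_inv_cancel A g, h, conjBy_inv_cancel]

theorem conjBy_eq_self_iff {A : Subgroup G} {g : G} :
    conjBy A g = A ↔ g ∈ Subgroup.normalizer (A : Set G) :=
  Subgroup.mem_normalizer_iff_map_conj_eq.symm

theorem conjBy_of_mem {A : Subgroup G} {g : G} (h : g ∈ A) : conjBy A g = A :=
  conjBy_eq_self_iff.mpr (Subgroup.le_normalizer h)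

theorem conjBy_of_comm {A : Subgroup G} {g : G} (h : ∀ a ∈ A, g * a = a * g) :
    conjBy A g = A := by
  ext x
  rw [mem_conjBy]
  constructor
  · intro hx
    have h1 := h _ hx
    have h2 : x = g⁻¹ * x * g := by
      have h3 : x * g = g⁻¹ * x * g * g := by rw [← h1]; group
      exact mul_right_cancel h3
    rwa [h2]
  · intro hx
    rwa [mul_assoc, ← h x hx, inv_mul_cancel_left]

theorem conjBy_mono {A B : Subgroup G} (g : G) (h : A ≤ B) : conjBy A g ≤ conjBy B g :=
  Subgroup.map_mono h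

theorem conjBy_sup (A B : Subgroup G) (g : G) : conjBy (A ⊔ B) g = conjBy A g ⊔ conjBy B g :=
  Subgroup.map_sup _ _ _

theorem conjBy_inf (A B : Subgroup G) (g : G) : conjBy (A ⊓ B) g = conjBy A g ⊓ conjBy B g :=
  Subgroup.map_inf _ _ _ (MulAut.conj g).injective

theorem conjBy_commutator (A B : Subgroup G) (g : G) :
    conjBy ⁅A, B⁆ g = ⁅conjBy A g, conjBy B g⁆ :=
  Subgroup.map_commutator _ _ _

theorem conjBy_bot (g : G) : conjBy (⊥ : Subgroup G) g = ⊥ := Subgroup.map_bot _

theorem conjBy_eq_bot_iff {A : Subgroup G} {g : G} : conjBy A g = ⊥ ↔ A = ⊥ :=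
  ⟨fun h => conjBy_inj (h.trans (conjBy_bot g).symm), fun h => by rw [h, conjBy_bot]⟩

theorem conjBy_le_of_mem {A U : Subgroup G} {g : G} (hA : A ≤ U) (hg : g ∈ U) : conjBy A g ≤ U :=
  (conjBy_mono g hA).trans_eq (conjBy_of_mem hg)

theorem map_conjBy (f : G →* H) (A : Subgroup G) (g : G) :
    (conjBy A g).map f = conjBy (A.map f) (f g) := by
  simp only [conjBy, Subgroup.map_map]
  congr 1
  ext x
  simp

/-- Elementwise commutation from a trivial commutator subgroup. -/
theorem comm_of_commutator_eq_bot {A B : Subgroup G} (h : ⁅A, B⁆ = ⊥) {a b : G} (ha : a ∈ A)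
    (hb : b ∈ B) : a * b = b * a :=
  (Subgroup.mem_centralizer_iff.mp (Subgroup.commutator_eq_bot_iff_le_centralizer.mp h ha) b hb).symm

theorem commutator_eq_bot_of_comm {A B : Subgroup G} (h : ∀ a ∈ A, ∀ b ∈ B, a * b = b * a) :
    ⁅A, B⁆ = ⊥ :=
  Subgroup.commutator_eq_bot_iff_le_centralizer.mpr
    fun a ha => Subgroup.mem_centralizer_iff.mpr fun b hb => (h a ha b hb).symm

theorem commutator_comm_eq_bot {A B : Subgroup G} : ⁅A, B⁆ = ⊥ ↔ ⁅B, A⁆ = ⊥ := by
  rw [Subgroup.commutator_comm]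

theorem exists_ne_one {A : Subgroup G} (h : A ≠ ⊥) : ∃ a ∈ A, a ≠ 1 := by
  by_contra hc
  push Not at hc
  exact h (A.eq_bot_iff_forall.mpr hc)

/-- An element commuting with the members of two generating subgroups commutes with their join. -/
theorem comm_sup {A B : Subgroup G} {z : G} (hA : ∀ a ∈ A, z * a = a * z)
    (hB : ∀ b ∈ B, z * b = b * z) : ∀ y ∈ A ⊔ B, z * y = y * z := by
  intro y hy
  have h : A ⊔ B ≤ Subgroup.centralizer ({z} : Set G) := by
    apply sup_le
    · intro a ha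
      exact Subgroup.mem_centralizer_iff.mpr fun w hw => by
        rw [Set.mem_singleton_iff.mp hw]; exact hA a ha
    · intro b hb
      exact Subgroup.mem_centralizer_iff.mpr fun w hw => by
        rw [Set.mem_singleton_iff.mp hw]; exact hB b hb
  exact Subgroup.mem_centralizer_iff.mp (h hy) z rfl

theorem isNilpotent_of_comm {G : Type*} [Group G] (h : IsMulCommutative G) : Group.IsNilpotent G :=
  (Group.isNilpotent_iff G).mpr ⟨1, by
    rw [Subgroup.upperCentralSeries_one, eq_top_iff]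
    exact fun x _ => Subgroup.mem_center_iff.mpr fun g => h.is_comm.comm g x⟩

end Cfsg.Agent.Lib.RootSubgroups
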