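import Cfsg.Prelude.Def_RootSubgroups
import Cfsg.Agent.Lib.RootSubgroups.Conj

/-! Unipotent linear groups, through the span of the endomorphisms `g - 1`. -/

namespace Cfsg.Agent.Lib.RootSubgroups.Unipotent

open Cfsg

variable {k : Type*} [Field k] {M : Type*} [AddCommGroup M] [Module k M]

/-- The span of the endomorphisms `g - 1`, `g ∈ H`. -/
def aug (H : Subgroup (LinearMap.GeneralLinearGroup k M)) : Submodule k (Module.End k M) :=
  Submodule.span k ((fun g : LinearMap.GeneralLinearGroup k M => (g : Module.End k M) - 1) '' (H : Set _))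

variable {H K : Subgroup (LinearMap.GeneralLinearGroup k M)}

theorem sub_one_mem {g : LinearMap.GeneralLinearGroup k M} (hg : g ∈ H) :
    (g : Module.End k M) - 1 ∈ aug H := Submodule.subset_span ⟨g, hg, rfl⟩

theorem aug_le {N : Submodule k (Module.End k M)}
    (h : ∀ g ∈ H, (g : Module.End k M) - 1 ∈ N) : aug H ≤ N :=
  Submodule.span_le.mpr fun _ ⟨g, hg, e⟩ => e ▸ h g hg

theorem aug_mono (h : H ≤ K) : aug H ≤ aug K := aug_le fun _ hg => sub_one_mem (h hg)

theorem mul_aug_le : aug H * aug H ≤ aug H := by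
  rw [aug, Submodule.span_mul_span, Submodule.span_le]
  rintro _ ⟨_, ⟨g, hg, rfl⟩, _, ⟨g', hg', rfl⟩, rfl⟩
  have e : ((g : Module.End k M) - 1) * ((g' : Module.End k M) - 1) =
      ((↑(g * g') : Module.End k M) - 1) - ((g : Module.End k M) - 1) - ((g' : Module.End k M) - 1) := by
    rw [Units.val_mul]; noncomm_ring
  show ((g : Module.End k M) - 1) * ((g' : Module.End k M) - 1) ∈ _
  rw [e]
  exact Submodule.sub_mem _ (Submodule.sub_mem _ (Submodule.subset_span ⟨_, mul_mem hg hg', rfl⟩)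
    (Submodule.subset_span ⟨g, hg, rfl⟩)) (Submodule.subset_span ⟨g', hg', rfl⟩)

theorem list_prod_mem (l : List (LinearMap.GeneralLinearGroup k M)) (hl : ∀ g ∈ l, g ∈ H) :
    (l.map fun g : LinearMap.GeneralLinearGroup k M => ((g : Module.End k M) - 1)).prod ∈ aug H ^ l.length := by
  induction l with
  | nil => simp [Submodule.one_eq_span]
  | cons g l ih =>
    rw [List.map_cons, List.prod_cons, List.length_cons, pow_succ']
    exact Submodule.mul_mem_mul (sub_one_mem (hl g List.mem_cons_self))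
      (ih fun g' hg' => hl g' (List.mem_cons_of_mem _ hg'))

theorem pow_aug_le (n : ℕ) : aug H ^ n ≤ Submodule.span k {e : Module.End k M |
    ∃ l : List (LinearMap.GeneralLinearGroup k M), (∀ g ∈ l, g ∈ H) ∧ l.length = n ∧
      e = (l.map fun g : LinearMap.GeneralLinearGroup k M => ((g : Module.End k M) - 1)).prod} := by
  induction n with
  | zero =>
    rw [pow_zero, Submodule.one_eq_span, Submodule.span_le]
    rintro _ rfl
    exact Submodule.subset_span ⟨[], by simp, rfl, by simp⟩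
  | succ n ih =>
    rw [pow_succ']
    refine (mul_le_mul_right ih (aug H)).trans ?_
    rw [aug, Submodule.span_mul_span, Submodule.span_le]
    rintro _ ⟨_, ⟨g, hg, rfl⟩, _, ⟨l, hl, rfl, rfl⟩, rfl⟩
    refine Submodule.subset_span ⟨g :: l, ?_, rfl, by simp⟩
    intro g' hg'
    rcases List.mem_cons.mp hg' with rfl | hg'
    exacts [hg, hl g' hg']

theorem isUnipotentOn_iff : IsUnipotentOn H ↔ ∃ n : ℕ, aug H ^ n = ⊥ := by
  constructor
  · rintro ⟨n, hn⟩
    refine ⟨n, le_bot_iff.mp ((pow_aug_le n).trans (Submodule.span_le.mpr ?_))⟩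
    rintro _ ⟨l, hl, hlen, rfl⟩
    have := hn l hl hlen
    simp [List.map_flatMap, ← List.map_eq_flatMap, List.map_map, Function.comp_def] at this ⊢
    exact this
  · rintro ⟨n, hn⟩
    refine ⟨n, fun l hl hlen => ?_⟩
    have := list_prod_mem l hl
    rw [hlen, hn] at this
    simp [List.map_flatMap, ← List.map_eq_flatMap, List.map_map, Function.comp_def] at this ⊢
    exact this

theorem isUnipotentOn_mono (h : H ≤ K) (hK : IsUnipotentOn K) : IsUnipotentOn H := by
  obtain ⟨n, hn⟩ := hK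
  exact ⟨n, fun l hl => hn l fun g hg => h (hl g hg)⟩

theorem isUnipotentOn_bot : IsUnipotentOn (⊥ : Subgroup (LinearMap.GeneralLinearGroup k M)) := by
  refine ⟨1, fun l hl hlen => ?_⟩
  obtain ⟨g, rfl⟩ := List.length_eq_one_iff.mp hlen
  simp [Subgroup.mem_bot.mp (hl g List.mem_cons_self)]

/-- A unipotent group normalized by a unipotent group gives a unipotent product. -/
theorem isUnipotentOn_sup (hH : IsUnipotentOn H) (hK : IsUnipotentOn K)
    (hn : ∀ g ∈ K, ∀ h ∈ H, g * h * g⁻¹ ∈ H) : IsUnipotentOn (H ⊔ K) := by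
  obtain ⟨m, hm⟩ := isUnipotentOn_iff.mp hH
  obtain ⟨n, hn'⟩ := isUnipotentOn_iff.mp hK
  set P := aug H
  set Q := aug K
  set E : Submodule k (Module.End k M) := 1 + Q with hE
  have hQQ : Q * Q ≤ Q := mul_aug_le
  have hEE : E * E ≤ E := by
    simp only [hE, Submodule.add_eq_sup, Submodule.mul_sup, Submodule.sup_mul, one_mul, mul_one]
    exact sup_le (sup_le le_sup_left le_sup_right) (sup_le le_sup_right (hQQ.trans le_sup_right))
  have h1E : (1 : Submodule k (Module.End k M)) ≤ E := le_sup_left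
  have hQP : Q * P ≤ P * E := by
    simp only [Q, P, aug]
    rw [Submodule.span_mul_span, Submodule.span_le]
    rintro _ ⟨_, ⟨g, hg, rfl⟩, _, ⟨h, hh, rfl⟩, rfl⟩
    show ((g : Module.End k M) - 1) * ((h : Module.End k M) - 1) ∈ P * E
    have hgi : ((g⁻¹ : LinearMap.GeneralLinearGroup k M) : Module.End k M) * (g : Module.End k M) = 1 :=
      Units.inv_mul g
    have e : ((g : Module.End k M) - 1) * ((h : Module.End k M) - 1) =
        ((↑(g * h * g⁻¹) : Module.End k M) - 1) * (((g : Module.End k M) - 1) + 1) -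
          ((h : Module.End k M) - 1) * 1 := by
      rw [sub_add_cancel, sub_mul (↑(g * h * g⁻¹) : Module.End k M), one_mul, mul_one, Units.val_mul,
        Units.val_mul, mul_assoc _ _ (g : Module.End k M), hgi, mul_one]
      noncomm_ring
    rw [e]
    refine Submodule.sub_mem _ (Submodule.mul_mem_mul (sub_one_mem (hn g hg h hh))
      (Submodule.add_mem _ (Submodule.mem_sup_right (sub_one_mem hg))
        (h1E (Submodule.one_le.mp le_rfl)))) ?_
    exact Submodule.mul_mem_mul (sub_one_mem hh) (h1E (Submodule.one_le.mp le_rfl))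
  have hEP : E * P ≤ P * E := by
    simp only [hE, Submodule.add_eq_sup, Submodule.sup_mul, one_mul] at hQP ⊢
    refine sup_le ?_ hQP
    calc P = P * 1 := (mul_one P).symm
      _ ≤ P * (1 ⊔ Q) := mul_le_mul_right le_sup_left P
  set I := P * E with hI
  set Z := I + Q with hZ
  have hEI : E * I ≤ I := by
    calc E * I = E * P * E := (mul_assoc _ _ _).symm
      _ ≤ P * E * E := mul_le_mul_left hEP E
      _ = P * (E * E) := mul_assoc _ _ _
      _ ≤ I := mul_le_mul_right hEE P
  have hIE : I * E ≤ I := (mul_assoc P E E).le.trans (mul_le_mul_right hEE P)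
  have hQE : Q ≤ E := le_sup_right
  have hQI : Q * I ≤ I := (mul_le_mul_left hQE I).trans hEI
  have hIQ : I * Q ≤ I := (mul_le_mul_right hQE I).trans hIE
  have hII : I * I ≤ I := by
    calc I * I = P * (E * I) := mul_assoc _ _ _
      _ ≤ P * I := mul_le_mul_right hEI P
      _ = P * P * E := (mul_assoc _ _ _).symm
      _ ≤ I := mul_le_mul_left mul_aug_le E
  have hZn : ∀ j, Z ^ (j + 1) ≤ I + Q ^ (j + 1) := by
    intro j
    induction j with
    | zero => simp [hZ]
    | succ j ih =>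
      rw [pow_succ, pow_succ Q (j + 1)]
      refine (mul_le_mul_left ih Z).trans ?_
      simp only [hZ, Submodule.add_eq_sup, Submodule.mul_sup, Submodule.sup_mul]
      refine sup_le (sup_le (hII.trans le_sup_left) (le_trans ?_ le_sup_left))
        (sup_le (hIQ.trans le_sup_left) le_sup_right)
      have : ∀ i, Q ^ (i + 1) ≤ Q := by
        intro i; induction i with
        | zero => simp
        | succ i ih => rw [pow_succ]; exact (mul_le_mul_left ih Q).trans hQQ
      exact (mul_le_mul_left (this j) I).trans hQI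
  have hIm : ∀ j, I ^ (j + 1) ≤ P ^ (j + 1) * E := by
    intro j
    induction j with
    | zero => simp [hI]
    | succ j ih =>
      rw [pow_succ, pow_succ P (j + 1)]
      calc I ^ (j + 1) * I ≤ P ^ (j + 1) * E * I := mul_le_mul_left ih I
        _ = P ^ (j + 1) * (E * I) := mul_assoc _ _ _
        _ ≤ P ^ (j + 1) * I := mul_le_mul_right hEI _
        _ = _ := (mul_assoc _ _ _).symm
  have hI0 : I ^ (m + 1) = ⊥ := le_bot_iff.mp ((hIm m).trans (by
    rw [pow_succ, hm, Submodule.bot_mul, Submodule.bot_mul]))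
  have hZI : Z ^ (n + 1) ≤ I := (hZn n).trans (by
    rw [pow_succ, hn', Submodule.bot_mul, Submodule.add_eq_sup, sup_bot_eq])
  have hsup : aug (H ⊔ K) ≤ Z := by
    refine aug_le fun g hg => ?_
    have hnK : K ≤ Subgroup.normalizer (H : Set (LinearMap.GeneralLinearGroup k M)) := by
      intro x hx
      rw [Subgroup.mem_normalizer_iff]
      refine fun y => ⟨hn x hx y, fun hy => ?_⟩
      have := hn x⁻¹ (inv_mem hx) _ hy
      simpa [mul_assoc] using this
    rw [← SetLike.mem_coe, Subgroup.coe_mul_of_right_le_normalizer_left H K hnK] at hg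
    obtain ⟨h, hh, x, hx, rfl⟩ := hg
    have e : ((↑(h * x) : Module.End k M) - 1) =
        ((h : Module.End k M) - 1) * (((x : Module.End k M) - 1) + 1) + ((x : Module.End k M) - 1) := by
      rw [Units.val_mul]; noncomm_ring
    rw [e]
    exact Submodule.add_mem _ (Submodule.mem_sup_left (Submodule.mul_mem_mul (sub_one_mem hh)
      (Submodule.add_mem _ (hQE (sub_one_mem hx)) (h1E (Submodule.one_le.mp le_rfl)))))
      (Submodule.mem_sup_right (sub_one_mem hx))
  refine isUnipotentOn_iff.mpr ⟨(n + 1) * (m + 1), le_bot_iff.mp ?_⟩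
  calc aug (H ⊔ K) ^ ((n + 1) * (m + 1)) ≤ Z ^ ((n + 1) * (m + 1)) := pow_le_pow_left' hsup _
    _ = (Z ^ (n + 1)) ^ (m + 1) := pow_mul _ _ _
    _ ≤ I ^ (m + 1) := pow_le_pow_left' hZI _
    _ = ⊥ := hI0

variable [FiniteDimensional k M] {G : Subgroup (LinearMap.GeneralLinearGroup k M)}
  {W : Set (Subgroup (LinearMap.GeneralLinearGroup k M))}

/-- A pairwise unipotent invariant family generates a unipotent group. -/
theorem isUnipotentOn_iSup (hWG : ∀ A ∈ W, A ≤ G)
    (hWW : ∀ A ∈ W, ∀ B ∈ W, IsUnipotentOn (A ⊔ B))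
    (hWconj : ∀ A ∈ W, ∀ g ∈ G, conjBy A g ∈ W) : IsUnipotentOn (⨆ A ∈ W, A) := by
  classical
  let inN : Submodule k (Module.End k M) → Set (Subgroup (LinearMap.GeneralLinearGroup k M)) :=
    fun N => {A | A ∈ W ∧ ∀ g ∈ A, (g : Module.End k M) - 1 ∈ N}
  let gen : Set (Subgroup (LinearMap.GeneralLinearGroup k M)) → Submodule k (Module.End k M) :=
    fun T => aug (⨆ A ∈ T, A)
  let good : Set (Submodule k (Module.End k M)) :=
    {N | ∃ T, T ⊆ W ∧ IsUnipotentOn (⨆ A ∈ T, A) ∧ N = gen T}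
  -- closure properties of `inN`
  have hsat : ∀ T, T ⊆ W → IsUnipotentOn (⨆ A ∈ T, A) →
      T ⊆ inN (gen T) ∧ IsUnipotentOn (⨆ A ∈ inN (gen T), A) ∧ gen (inN (gen T)) = gen T := by
    intro T hT hu
    have h1 : T ⊆ inN (gen T) := fun A hA =>
      ⟨hT hA, fun g hg => sub_one_mem (le_biSup (fun A => A) hA hg)⟩
    have h2 : gen (inN (gen T)) ≤ gen T := by
      refine aug_le fun g hg => ?_
      rw [iSup_subtype'] at hg
      induction hg using Subgroup.iSup_induction' with
      | hp A x hx => exact A.2.2 x hx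
      | h1 => simp
      | hmul x y _ _ hx hy =>
        have e : (↑(x * y) : Module.End k M) - 1 = ((x : Module.End k M) - 1) * ((y : Module.End k M) - 1) +
            ((x : Module.End k M) - 1) + ((y : Module.End k M) - 1) := by
          rw [Units.val_mul]; noncomm_ring
        rw [e]
        exact Submodule.add_mem _ (Submodule.add_mem _ (mul_aug_le (Submodule.mul_mem_mul hx hy)) hx) hy
    have h3 : (⨆ A ∈ T, A) ≤ ⨆ A ∈ inN (gen T), A := biSup_mono h1
    refine ⟨h1, ?_, le_antisymm h2 (aug_mono h3)⟩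
    obtain ⟨n, hn⟩ := isUnipotentOn_iff.mp hu
    exact isUnipotentOn_iff.mpr ⟨n, le_bot_iff.mp ((pow_le_pow_left' h2 n).trans hn.le)⟩
  have maxabove : ∀ T, T ⊆ W → IsUnipotentOn (⨆ A ∈ T, A) →
      ∃ N ∈ good, gen T ≤ N ∧ ∀ N' ∈ good, N ≤ N' → N' = N := by
    intro T hT hu
    obtain ⟨N, ⟨hN, hle⟩, hmax⟩ := (wellFounded_gt (α := Submodule k (Module.End k M))).has_min
      {N | N ∈ good ∧ gen T ≤ N} ⟨gen T, ⟨T, hT, hu, rfl⟩, le_rfl⟩
    refine ⟨N, hN, hle, fun N' hN' h => ?_⟩
    by_contra hne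
    exact hmax N' ⟨hN', hle.trans h⟩ (lt_of_le_of_ne h (Ne.symm hne))
  have goodI : ∀ N ∈ good, IsUnipotentOn (⨆ A ∈ inN N, A) ∧ gen (inN N) = N := by
    rintro _ ⟨T, hT, hu, rfl⟩
    exact ⟨(hsat T hT hu).2.1, (hsat T hT hu).2.2⟩
  have leI : ∀ T N, gen T ≤ N → T ⊆ W → T ⊆ inN N := fun T N h hT A hA =>
    ⟨hT hA, fun g hg => h (sub_one_mem (le_biSup (fun A => A) hA hg))⟩
  -- growing an intersection
  have grow : ∀ N₁ ∈ good, ∀ T : Set _, T ⊆ inN N₁ → ¬ inN N₁ ⊆ inN (gen T) →
      ∃ B ∈ inN N₁, B ∉ inN (gen T) ∧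
        ∀ b ∈ B, ∀ A ∈ inN (gen T), conjBy A b ∈ inN (gen T) := by
    intro N₁ hN₁ T hT hne
    obtain ⟨hu₁, he₁⟩ := goodI N₁ hN₁
    have hTW : T ⊆ W := fun A hA => (hT hA).1
    set N₀ := gen T with hN₀
    have h0 : N₀ * N₀ ≤ N₀ := mul_aug_le
    have h01 : N₀ ≤ N₁ := by
      rw [← he₁]; exact aug_mono (biSup_mono hT)
    have h11 : N₁ * N₁ ≤ N₁ := by
      rw [← he₁]; exact mul_aug_le
    obtain ⟨m, hm⟩ := isUnipotentOn_iff.mp hu₁
    replace hm : N₁ ^ m = ⊥ := by rw [← he₁]; exact hm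
    by_contra hc
    push Not at hc
    have step : ∀ i : ℕ, ∃ B ∈ inN N₁, B ∉ inN N₀ ∧
        ∀ g ∈ B, (g : Module.End k M) - 1 ∈ N₀ ⊔ N₁ ^ (i + 1) := by
      intro i
      induction i with
      | zero =>
        obtain ⟨B, hB, hB0⟩ := Set.not_subset.mp hne
        exact ⟨B, hB, hB0, fun g hg => Submodule.mem_sup_right (by simpa using hB.2 g hg)⟩
      | succ i ih =>
        obtain ⟨B, hB, hB0, hBi⟩ := ih
        obtain ⟨b, hb, A, hA, hAb⟩ := hc B hB hB0
        have hW' : conjBy A b ∈ W := hWconj A hA.1 b (hWG B hB.1 hb)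
        set X := N₀ ⊔ N₁ ^ (i + 1) with hX
        set Y := N₀ ⊔ N₁ ^ (i + 2) with hY
        have hpow : ∀ j, N₁ ^ (j + 1) ≤ N₁ := by
          intro j; induction j with
          | zero => simp
          | succ j ih => rw [pow_succ]; exact (mul_le_mul_left ih N₁).trans h11
        have hXN : X * N₀ ≤ Y := by
          rw [hX, Submodule.sup_mul]
          refine sup_le (h0.trans le_sup_left) (le_trans ?_ le_sup_right)
          rw [pow_succ N₁ (i + 1)]
          exact mul_le_mul_right h01 _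
        have hNX : N₀ * X ≤ Y := by
          rw [hX, Submodule.mul_sup]
          refine sup_le (h0.trans le_sup_left) (le_trans ?_ le_sup_right)
          rw [pow_succ' N₁ (i + 1)]
          exact mul_le_mul_left h01 _
        have hYX : Y * X ≤ Y := by
          rw [hY, Submodule.sup_mul]
          refine sup_le hNX ((mul_le_mul_right (sup_le h01 (hpow i)) _).trans (le_trans ?_ le_sup_right))
          rw [← pow_succ, pow_succ' N₁ (i + 2), pow_succ N₁ (i + 1), ← mul_assoc, ← pow_succ']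
          exact mul_le_mul_left (by
            rw [pow_succ' N₁ (i + 1), pow_succ' N₁ i, ← mul_assoc]; exact mul_le_mul_left h11 _) N₁
        have hin : ∀ g ∈ conjBy A b, (g : Module.End k M) - 1 ∈ Y := by
          rintro _ ⟨a, ha, rfl⟩
          show (↑(b * a * b⁻¹) : Module.End k M) - 1 ∈ Y
          have hbi : (b : Module.End k M) * ((b⁻¹ : LinearMap.GeneralLinearGroup k M) : Module.End k M) = 1 :=
            Units.mul_inv b
          have e : (↑(b * a * b⁻¹) : Module.End k M) - 1 = ((a : Module.End k M) - 1) +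
              ((((b : Module.End k M) - 1) * ((a : Module.End k M) - 1) -
                ((a : Module.End k M) - 1) * ((b : Module.End k M) - 1)) *
                  (((b⁻¹ : LinearMap.GeneralLinearGroup k M) : Module.End k M) - 1) +
              (((b : Module.End k M) - 1) * ((a : Module.End k M) - 1) -
                ((a : Module.End k M) - 1) * ((b : Module.End k M) - 1))) := by
            rw [Units.val_mul, Units.val_mul]
            simp only [mul_sub, sub_mul, mul_one, one_mul, mul_assoc, hbi]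
            abel
          have hd := Submodule.sub_mem Y (hXN (Submodule.mul_mem_mul (hBi b hb) (hA.2 a ha)))
            (hNX (Submodule.mul_mem_mul (hA.2 a ha) (hBi b hb)))
          rw [e]
          exact Submodule.add_mem _ (Submodule.mem_sup_left (hA.2 a ha)) (Submodule.add_mem _
            (hYX (Submodule.mul_mem_mul hd (hBi _ (inv_mem hb)))) hd)
        exact ⟨conjBy A b, ⟨hW', fun g hg => (sup_le h01 (hpow (i + 1)) : Y ≤ N₁) (hin g hg)⟩,
          hAb, hin⟩
    obtain ⟨B, hB, hB0, hBm⟩ := step m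
    refine hB0 ⟨hB.1, fun g hg => ?_⟩
    simpa [pow_succ, hm] using hBm g hg
  obtain ⟨N₀, hN₀g, -, hN₀max⟩ := maxabove ∅ (Set.empty_subset _) (by simpa using isUnipotentOn_bot)
  suffices hall : W ⊆ inN N₀ from
    isUnipotentOn_mono (biSup_mono hall) (goodI N₀ hN₀g).1
  by_contra hnot
  obtain ⟨A, hA, hA0⟩ := Set.not_subset.mp hnot
  obtain ⟨N₁, hN₁g, hAN₁, hN₁max⟩ := maxabove {A} (Set.singleton_subset_iff.mpr hA)
    (by simpa using hWW A hA A hA)
  have hne01 : N₀ ≠ N₁ := fun e => hA0 (e ▸ leI {A} N₁ hAN₁ (Set.singleton_subset_iff.mpr hA) rfl)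
  let pairs : Set (Submodule k (Module.End k M)) :=
    {X | ∃ P Q, P ∈ good ∧ Q ∈ good ∧ (∀ N' ∈ good, P ≤ N' → N' = P) ∧
      (∀ N' ∈ good, Q ≤ N' → N' = Q) ∧ P ≠ Q ∧ X = gen (inN P ∩ inN Q)}
  obtain ⟨X, ⟨P, Q, hP, hQ, hPm, hQm, hPQ, rfl⟩, hXmax⟩ :=
    (wellFounded_gt (α := Submodule k (Module.End k M))).has_min pairs
      ⟨_, N₀, N₁, hN₀g, hN₁g, hN₀max, hN₁max, hne01, rfl⟩
  set T := inN P ∩ inN Q with hTdef
  have hTW : T ⊆ W := fun A hA => hA.1.1
  have hTu : IsUnipotentOn (⨆ A ∈ T, A) :=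
    isUnipotentOn_mono (biSup_mono Set.inter_subset_left) (goodI P hP).1
  have notle : ∀ P Q, P ∈ good → Q ∈ good → (∀ N' ∈ good, P ≤ N' → N' = P) → P ≠ Q →
      ∀ T, T ⊆ inN Q → ¬ inN P ⊆ inN (gen T) := by
    intro P Q hP hQ hPm hPQ T hT hsub
    refine hPQ (hPm Q hQ ?_).symm
    calc P = gen (inN P) := (goodI P hP).2.symm
      _ ≤ gen (inN (gen T)) := aug_mono (biSup_mono hsub)
      _ ≤ gen (inN Q) := by
        rw [(hsat T (fun A hA => (hT hA).1) (isUnipotentOn_mono (biSup_mono hT) (goodI Q hQ).1)).2.2]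
        exact aug_mono (biSup_mono hT)
      _ = Q := (goodI Q hQ).2
  obtain ⟨B, hB, hB0, hBn⟩ := grow P hP T Set.inter_subset_left
    (notle P Q hP hQ hPm hPQ T Set.inter_subset_right)
  obtain ⟨C, hC, hC0, hCn⟩ := grow Q hQ T Set.inter_subset_right
    (notle Q P hQ hP hQm hPQ.symm T Set.inter_subset_left)
  set U := ⨆ A ∈ inN (gen T), A with hU
  have hnorm : ∀ g ∈ B ⊔ C, ∀ u ∈ U, g * u * g⁻¹ ∈ U := by
    have key : ∀ D : Subgroup _, (∀ b ∈ D, ∀ A ∈ inN (gen T), conjBy A b ∈ inN (gen T)) →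
        D ≤ Subgroup.normalizer (U : Set (LinearMap.GeneralLinearGroup k M)) := by
      intro D hD b hb
      have hle : ∀ b ∈ D, conjBy U b ≤ U := fun b hb => by
        simp only [hU, conjBy, Subgroup.map_iSup]
        exact iSup₂_le fun A hA => le_biSup (fun A => A) (hD b hb A hA)
      refine conjBy_eq_self_iff.mp (le_antisymm (hle b hb) ?_)
      have := conjBy_mono b (hle b⁻¹ (inv_mem hb))
      rwa [conjBy_cancel] at this
    intro g hg u hu
    exact ((Subgroup.mem_normalizer_iff.mp (sup_le (key B hBn) (key C hCn) hg)) u).mp hu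
  have hu3 := isUnipotentOn_sup (hsat T hTW hTu).2.1 (hWW B hB.1 C hC.1) hnorm
  set T3 : Set (Subgroup (LinearMap.GeneralLinearGroup k M)) := inN (gen T) ∪ {B, C} with hT3
  have hT3W : T3 ⊆ W := by
    rintro D (hD | rfl | rfl)
    exacts [hD.1, hB.1, hC.1]
  have hT3u : IsUnipotentOn (⨆ A ∈ T3, A) := by
    rw [hT3, iSup_union, iSup_pair]; exact hu3
  obtain ⟨R, hR, hle3, hRm⟩ := maxabove T3 hT3W hT3u
  have hR3 : T3 ⊆ inN R := leI T3 R hle3 hT3W
  have finish : ∀ P B, P ∈ good → (∀ N' ∈ good, P ≤ N' → N' = P) → P ≠ R → T ⊆ inN P →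
      B ∈ inN P → B ∈ inN R → B ∉ inN (gen T) → False := by
    intro P B hP hPm hPR hTP hBP hBR hB0
    refine hXmax _ ⟨P, R, hP, hR, hPm, hRm, hPR, rfl⟩ (lt_of_le_of_ne ?_ fun e => hB0 ?_)
    · exact aug_mono (biSup_mono fun A hA =>
        ⟨hTP hA, hR3 (Or.inl ((hsat T hTW hTu).1 hA))⟩)
    · rw [e]
      exact leI (inN P ∩ inN R) _ le_rfl (fun A hA => hA.1.1) ⟨hBP, hBR⟩
  by_cases hPR : P = R
  · exact finish Q C hQ hQm (fun e => hPQ (hPR.trans e.symm)) Set.inter_subset_right hC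
      (hR3 (Or.inr (Or.inr rfl))) hC0
  · exact finish P B hP hPm hPR Set.inter_subset_left hB (hR3 (Or.inr (Or.inl rfl))) hB0

end Cfsg.Agent.Lib.RootSubgroups.Unipotent
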