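import Cfsg.Agent.Lib.RootSubgroups.RankOne

/-! Abstract root subgroups: basic case analysis and lines (Timmesfeld, II.2). -/

namespace Cfsg.Agent.Lib.RootSubgroups

open Cfsg
open scoped commutatorElement

variable {G : Type*} [Group G] {S : Set (Subgroup G)} {A B C D E F : Subgroup G}

/-- `A` has a rank one partner in `S`. -/
def HasPartner (S : Set (Subgroup G)) (A : Subgroup G) : Prop := ∃ E ∈ S, IsRankOnePair A E

/-- An element of the commutator subgroup of a pair in the commutator case written as commutator. -/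
theorem exists_commutatorElement_eq {a : G}
    (hc : ∀ c ∈ ⁅A, B⁆, ∀ x ∈ A ⊔ B, c * x = x * c) (ha : a ∈ A)
    (hgen : Subgroup.closure ((fun b : G => a * b * a⁻¹ * b⁻¹) '' (B : Set G)) = ⁅A, B⁆)
    {c : G} (hcm : c ∈ ⁅A, B⁆) : ∃ b ∈ B, ⁅a, b⁆ = c := by
  have mul : ∀ b ∈ B, ∀ b' ∈ B, ⁅a, b⁆ * ⁅a, b'⁆ = ⁅a, b * b'⁆ := by
    intro b hb b' hb'
    have h1 := hc _ (Subgroup.commutator_mem_commutator ha hb') b (Subgroup.mem_sup_right hb)
    calc ⁅a, b⁆ * ⁅a, b'⁆ = a * b * a⁻¹ * b⁻¹ * (⁅a, b'⁆ * b) * b⁻¹ := by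
          simp [commutatorElement_def, mul_assoc]
      _ = a * b * a⁻¹ * b⁻¹ * (b * ⁅a, b'⁆) * b⁻¹ := by rw [h1]
      _ = ⁅a, b * b'⁆ := by simp [commutatorElement_def, mul_assoc]
  rw [← hgen] at hcm
  induction hcm using Subgroup.closure_induction with
  | mem x hx => obtain ⟨b, hb, rfl⟩ := hx; exact ⟨b, hb, rfl⟩
  | one => exact ⟨1, one_mem _, commutatorElement_one_right a⟩
  | mul x y _ _ hx hy =>
    obtain ⟨b, hb, rfl⟩ := hx
    obtain ⟨b', hb', rfl⟩ := hy
    exact ⟨b * b', mul_mem hb hb', (mul b hb b' hb').symm⟩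
  | inv x _ hx =>
    obtain ⟨b, hb, rfl⟩ := hx
    refine ⟨b⁻¹, inv_mem hb, ?_⟩
    apply eq_inv_of_mul_eq_one_left
    rw [mul b⁻¹ (inv_mem hb) b hb, inv_mul_cancel, commutatorElement_one_right]

namespace Root

variable (hS : IsRootSubgroupSet S)

theorem comm_self (hS : IsRootSubgroupSet S) (hA : A ∈ S) {a a' : G} (ha : a ∈ A) (ha' : a' ∈ A) :
    a * a' = a' * a :=
  congrArg Subtype.val ((hS.commutative A hA).is_comm.comm (⟨a, ha⟩ : A) ⟨a', ha'⟩)

theorem conjBy_fix_of_mem (hS : IsRootSubgroupSet S) (hA : A ∈ S) {x : G} (hx : x ∈ A) :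
    ∀ a ∈ A, x * a = a * x := fun _ ha => comm_self hS hA hx ha

theorem rcc_symm (h : RootCommutatorCase S A B) : RootCommutatorCase S B A := by
  obtain ⟨hm, hc, h1, h2⟩ := h
  have flip : ∀ (b : G) (X : Set G) (L : Subgroup G),
      Subgroup.closure ((fun a : G => a * b * a⁻¹ * b⁻¹) '' X) = L →
      Subgroup.closure ((fun a : G => b * a * b⁻¹ * a⁻¹) '' X) = L := by
    intro b X L hL
    rw [← hL, ← Subgroup.closure_inv ((fun a : G => a * b * a⁻¹ * b⁻¹) '' X)]
    congr 1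
    ext x
    simp only [Set.mem_inv, Set.mem_image]
    constructor
    · rintro ⟨a, ha, rfl⟩; exact ⟨a, ha, by group⟩
    · rintro ⟨a, ha, e⟩; exact ⟨a, ha, by rw [← inv_inv x, ← e]; group⟩
  have flip' : ∀ (b : G) (X : Set G) (L : Subgroup G),
      Subgroup.closure ((fun a : G => b * a * b⁻¹ * a⁻¹) '' X) = L →
      Subgroup.closure ((fun a : G => a * b * a⁻¹ * b⁻¹) '' X) = L := by
    intro b X L hL
    rw [← hL, ← Subgroup.closure_inv ((fun a : G => b * a * b⁻¹ * a⁻¹) '' X)]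
    congr 1
    ext x
    simp only [Set.mem_inv, Set.mem_image]
    constructor
    · rintro ⟨a, ha, rfl⟩; exact ⟨a, ha, by group⟩
    · rintro ⟨a, ha, e⟩; exact ⟨a, ha, by rw [← inv_inv x, ← e]; group⟩
  rw [RootCommutatorCase, Subgroup.commutator_comm B A, sup_comm B A]
  exact ⟨hm, hc, fun b hb hb1 => flip b _ _ (h2 b hb hb1),
    fun a ha ha1 => flip' a _ _ (h1 a ha ha1)⟩

theorem exists_eq_left (h : RootCommutatorCase S A B) {a c : G} (ha : a ∈ A) (ha1 : a ≠ 1)
    (hc : c ∈ ⁅A, B⁆) : ∃ b ∈ B, ⁅a, b⁆ = c :=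
  exists_commutatorElement_eq h.2.1 ha (h.2.2.1 a ha ha1) hc

theorem exists_eq_right (h : RootCommutatorCase S A B) {b c : G} (hb : b ∈ B) (hb1 : b ≠ 1)
    (hc : c ∈ ⁅A, B⁆) : ∃ a ∈ A, ⁅a, b⁆ = c := by
  obtain ⟨a, ha, e⟩ := exists_eq_left (rcc_symm h) hb hb1 (c := c⁻¹)
    (by rw [Subgroup.commutator_comm]; exact inv_mem hc)
  exact ⟨a, ha, by rw [← commutatorElement_inv, e, inv_inv]⟩

/-- In the commutator case the conjugates of `B` under `A` commute with `B`. -/
theorem rcc_conj_commute (hS : IsRootSubgroupSet S) (hB : B ∈ S) (h : RootCommutatorCase S A B)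
    {x : G} (hx : x ∈ A) : ⁅B, conjBy B x⁆ = ⊥ := by
  refine commutator_eq_bot_of_comm fun b hb y hy => ?_
  obtain ⟨b', hb', rfl⟩ := hy
  have hc := h.2.1 _ (Subgroup.commutator_mem_commutator hx hb') b (Subgroup.mem_sup_right hb)
  simp only [MulEquiv.coe_toMonoidHom, MulAut.conj_apply]
  rw [show x * b' * x⁻¹ = ⁅x, b'⁆ * b' by simp [commutatorElement_def, mul_assoc],
    ← mul_assoc b, ← hc, mul_assoc, comm_self hS hB hb hb', ← mul_assoc]

theorem translate_not_commute (h : IsRankOnePair A B) {a : G} (ha : a ∈ A) (ha1 : a ≠ 1) :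
    ⁅B, conjBy B a⁆ ≠ ⊥ :=
  RankOne.not_commute (RankOne.pair_of_mem h (RankOne.right_mem h)
    (RankOne.conjBy_mem_unipotent (Subgroup.mem_sup_left ha) (RankOne.right_mem h))
    fun e => ha1 (RankOne.eq_one_of_normalizes h ha e.symm)).1

theorem not_commutatorCase (hS : IsRootSubgroupSet S) (hB : B ∈ S) (h : IsRankOnePair A B) :
    ¬ RootCommutatorCase S A B := by
  intro hr
  obtain ⟨a, ha, ha1⟩ := exists_ne_one (RankOne.left_ne_bot h)
  exact translate_not_commute h ha ha1 (rcc_conj_commute hS hB hr ha)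

theorem not_commute_and_rcc (hS : IsRootSubgroupSet S) (h : RootCommutatorCase S A B) :
    ⁅A, B⁆ ≠ ⊥ := hS.ne_bot _ h.1

/-- A member meeting a member that has a partner equals it. -/
theorem eq_of_meet (hS : IsRootSubgroupSet S) (hA : A ∈ S) (hB : B ∈ S) (hp : HasPartner S A)
    {x : G} (hxA : x ∈ A) (hxB : x ∈ B) (hx : x ≠ 1) : B = A := by
  obtain ⟨D, hD, h⟩ := hp
  rcases hS.pair B hB D hD with hc | hr | hr
  · exact absurd (RankOne.eq_one_of_centralizes h hxA
      fun d hd => comm_of_commutator_eq_bot hc hxB hd) hx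
  · have h' := RankOnePair_symm h
    have hr' := RankOnePair_symm hr
    have hne : ∀ {X : Subgroup G}, IsRankOnePair X D → x ∈ X → conjBy D x ≠ D :=
      fun hX hxX e => hx (RankOne.eq_one_of_normalizes hX hxX e)
    obtain ⟨d, hd, e⟩ := RankOne.eq_translate h'
      (by rw [RankOne.unipotent_symm h]
          exact RankOne.conjBy_mem_unipotent (Subgroup.mem_sup_left hxA) (RankOne.right_mem h))
      (hne h hxA)
    obtain ⟨d', hd', e'⟩ := RankOne.eq_translate hr'
      (by rw [RankOne.unipotent_symm hr]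
          exact RankOne.conjBy_mem_unipotent (Subgroup.mem_sup_left hxB) (RankOne.right_mem hr))
      (hne hr hxB)
    have hmem : d' * x * d'⁻¹ ∈ conjBy A d := by
      rw [← e, e']; exact conj_mem_conjBy hxB
    have heq : conjBy A d' = conjBy A d := by
      refine RankOne.eq_of_mem_both h' ?_ ?_ (conj_mem_conjBy hxA) hmem (by simpa using hx)
      · exact RankOne.conjBy_mem_unipotent (Subgroup.mem_sup_left hd') (RankOne.right_mem h')
      · exact RankOne.conjBy_mem_unipotent (Subgroup.mem_sup_left hd) (RankOne.right_mem h')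
    rw [← heq, e'] at e
    exact conjBy_inj e
  · exact absurd (rcc_conj_commute hS hD hr hxB) (translate_not_commute h hxA hx)

theorem inf_eq_bot (hS : IsRootSubgroupSet S) (hA : A ∈ S) (hB : B ∈ S) (hp : HasPartner S A)
    (hne : B ≠ A) : A ⊓ B = ⊥ :=
  (Subgroup.eq_bot_iff_forall _).mpr fun _ hx =>
    by_contra fun h1 => hne (eq_of_meet hS hA hB hp hx.1 hx.2 h1)

theorem hasPartner_conjBy (hS : IsRootSubgroupSet S) (hp : HasPartner S A) (g : G) :
    HasPartner S (conjBy A g) := by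
  obtain ⟨E, hE, h⟩ := hp
  exact ⟨conjBy E g, hS.conj_mem E hE g, RankOne.conj h g⟩

theorem hasPartner_iff (hA : A ∈ S) : HasPartner S A ↔ ¬ IsIsolatedIn (FAdj S) S A := by
  constructor
  · rintro ⟨E, hE, h⟩ ⟨-, hi⟩
    exact (hi E).1 ⟨hA, hE, h⟩
  · intro hi
    by_contra hp
    exact hi ⟨hA, fun E => ⟨fun h => hp ⟨E, h.2.1, h.2.2⟩,
      fun h => hp ⟨E, h.1, RankOnePair_symm h.2.2⟩⟩⟩

/-- Timmesfeld II.2.?: central shifts of root elements are not root elements. -/
theorem eq_one_of_central_shift (hS : IsRootSubgroupSet S) (hB : B ∈ S) (h : IsRankOnePair A B)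
    (hE : E ∈ S) {a z : G} (ha : a ∈ A) (ha1 : a ≠ 1) (hzA : ∀ x ∈ A, z * x = x * z)
    (hzB : ∀ x ∈ B, z * x = x * z) (hmem : z * a ∈ E) : z = 1 := by
  have hz : ∀ y ∈ A ⊔ B, z * y = y * z := comm_sup hzA hzB
  have hconj : conjBy B (z * a) = conjBy B a := by
    rw [← conjBy_conjBy]
    exact conjBy_of_comm fun y hy =>
      hz y (conjBy_le_of_mem le_sup_right (Subgroup.mem_sup_left ha) hy)
  rcases hS.pair E hE B hB with hc | hr | hr
  · refine absurd (RankOne.eq_one_of_centralizes h ha fun b hb => ?_) ha1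
    have h1 := comm_of_commutator_eq_bot hc hmem hb
    rw [mul_assoc, ← mul_assoc b, ← hzB b hb, mul_assoc] at h1
    exact mul_left_cancel h1
  · have h' := RankOnePair_symm h
    have hr' := RankOnePair_symm hr
    have hne : conjBy B a ≠ B := fun e => ha1 (RankOne.eq_one_of_normalizes h ha e)
    obtain ⟨b, hb, e⟩ := RankOne.eq_translate h'
      (by rw [RankOne.unipotent_symm h]
          exact RankOne.conjBy_mem_unipotent (Subgroup.mem_sup_left ha) (RankOne.right_mem h)) hne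
    obtain ⟨b', hb', e'⟩ := RankOne.eq_translate hr'
      (by rw [RankOne.unipotent_symm hr, ← hconj]
          exact RankOne.conjBy_mem_unipotent (Subgroup.mem_sup_left hmem) (RankOne.right_mem hr)) hne
    have hEA : E = conjBy A (b'⁻¹ * b) := by
      rw [← conjBy_conjBy, ← e, e', conjBy_inv_cancel]
    have hEA' : E = A := by
      by_contra hEA'
      have h1 : z * a = 1 := RankOne.eq_one_of_fix_point h (C := E) (D := A)
        (by rw [hEA]; exact RankOne.conjBy_mem_unipotent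
              (Subgroup.mem_sup_right (mul_mem (inv_mem hb') hb)) (RankOne.left_mem A B))
        (RankOne.left_mem A B) hEA' hmem
        (by rw [← conjBy_conjBy, conjBy_of_mem ha, conjBy_of_comm hzA])
      refine ha1 (RankOne.eq_one_of_centralizes h ha fun b hb => ?_)
      rw [eq_inv_of_mul_eq_one_right h1]
      exact (Commute.inv_left (hzB b hb)).eq
    rw [hEA'] at hmem
    exact RankOne.eq_one_of_centralizes h (by simpa using mul_mem hmem (inv_mem ha)) hzB
  · exact absurd (hconj ▸ rcc_conj_commute hS hB hr hmem) (translate_not_commute h ha ha1)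

/-- A member inside a rank one group of `S` is a point or is central. -/
theorem mem_points_or_comm (hS : IsRootSubgroupSet S) (hC : C ∈ S) (hD : D ∈ S)
    (h : IsRankOnePair C D) (hA : A ∈ S) (hle : A ≤ C ⊔ D) :
    A ∈ unipotentSubgroups C D ∨ ∀ a ∈ A, ∀ y ∈ C ⊔ D, a * y = y * a := by
  by_cases hP : A ∈ unipotentSubgroups C D
  · exact Or.inl hP
  refine Or.inr fun a ha => RankOne.comm_of_fixes h fun P hPm => ?_
  have hPS : P ∈ S := by obtain ⟨x, -, rfl⟩ := hPm; exact hS.conj_mem C hC x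
  rcases hS.pair A hA P hPS with hc | hr | hr
  · exact conjBy_of_comm fun p hp => comm_of_commutator_eq_bot hc ha hp
  · by_cases ha1 : a = 1
    · rw [ha1, conjBy_one]
    · exfalso
      apply hP
      have hr' := RankOnePair_symm hr
      obtain ⟨p, hp, e⟩ := RankOne.eq_translate hr'
        (by rw [RankOne.unipotent_symm hr]
            exact RankOne.conjBy_mem_unipotent (Subgroup.mem_sup_left ha) (RankOne.right_mem hr))
        (fun e => ha1 (RankOne.eq_one_of_normalizes hr ha e))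
      rw [conjBy_eq_iff.mp e.symm]
      exact RankOne.conjBy_mem_unipotent (inv_mem (RankOne.le_of_mem hPm hp))
        (RankOne.conjBy_mem_unipotent (hle ha) hPm)
  · by_contra hne
    exact RankOne.not_commute (RankOne.pair_of_mem h hPm
      (RankOne.conjBy_mem_unipotent (hle ha) hPm) (Ne.symm hne)).1
      (rcc_conj_commute hS hPS hr ha)

/-- If `⁅A, B⁆` is a member then the commutator case holds. -/
theorem rcc_of_commutator_mem (hS : IsRootSubgroupSet S) (hA : A ∈ S) (hB : B ∈ S)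
    (hC : ⁅A, B⁆ ∈ S) : RootCommutatorCase S A B := by
  rcases hS.pair A hA B hB with hc | hr | hr
  · exact absurd hc (hS.ne_bot _ hC)
  · exfalso
    have hle : ⁅A, B⁆ ≤ A ⊔ B :=
      Subgroup.commutator_le.mpr fun a ha b hb =>
        mul_mem (mul_mem (mul_mem (Subgroup.mem_sup_left ha) (Subgroup.mem_sup_right hb))
          (Subgroup.mem_sup_left (inv_mem ha))) (Subgroup.mem_sup_right (inv_mem hb))
    rcases mem_points_or_comm hS hA hB hr hC hle with hP | hc
    · have hn : ∀ y ∈ A ⊔ B, conjBy ⁅A, B⁆ y = ⁅A, B⁆ := by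
        intro y hy
        exact conjBy_eq_self_iff.mpr (sup_le (Subgroup.normalizer_commutator_ge_left A B)
        (Subgroup.normalizer_commutator_ge_right A B) hy)
      obtain ⟨x, hx, e⟩ := hP
      have h1 : A = ⁅A, B⁆ := by
        rw [← hn x⁻¹ (inv_mem hx), e, conjBy_inv_cancel]
      obtain ⟨y, hy, e'⟩ := RankOne.exists_swap_left hr
      apply hr.ne
      rw [← e', h1, hn y hy]
    · obtain ⟨a, ha, ha1⟩ := exists_ne_one (RankOne.left_ne_bot hr)
      refine translate_not_commute hr ha ha1 (commutator_eq_bot_of_comm fun b hb y hy => ?_)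
      obtain ⟨b', hb', rfl⟩ := hy
      simp only [MulEquiv.coe_toMonoidHom, MulAut.conj_apply]
      rw [show a * b' * a⁻¹ = ⁅a, b'⁆ * b' by simp [commutatorElement_def, mul_assoc], ← mul_assoc b,
        ← hc _ (Subgroup.commutator_mem_commutator ha hb') b (Subgroup.mem_sup_right hb),
        mul_assoc, comm_self hS hB hb hb', ← mul_assoc]
  · exact hr

theorem sup_mem_of_comm {x : G} (h : ∀ a ∈ A, ∀ c ∈ C, a * c = c * a) (hx : x ∈ A ⊔ C) :
    ∃ a ∈ A, ∃ c ∈ C, x = a * c := by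
  have hn : A ≤ Subgroup.normalizer (C : Set G) := fun a ha =>
    conjBy_eq_self_iff.mp (conjBy_of_comm (h a ha))
  rw [← SetLike.mem_coe, Subgroup.coe_mul_of_left_le_normalizer_right A C hn] at hx
  obtain ⟨a, ha, c, hc, rfl⟩ := hx
  exact ⟨a, ha, c, hc, rfl⟩

section Line

variable {a b : G}

/-- Commutators of non-trivial elements are non-trivial in the commutator case. -/
theorem commutatorElement_ne_one (hS : IsRootSubgroupSet S) (hA : A ∈ S)
    (hp : HasPartner S A) (h : RootCommutatorCase S A B) (ha : a ∈ A) (ha1 : a ≠ 1)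
    (hb : b ∈ B) (hb1 : b ≠ 1) : ⁅a, b⁆ ≠ 1 := by
  intro e
  have hab := commutatorElement_eq_one_iff_mul_comm.mp e
  have hfix : conjBy A b = A := eq_of_meet hS hA (hS.conj_mem A hA b) hp ha
    (mem_conjBy.mpr (by rw [mul_assoc, hab, inv_mul_cancel_left]; exact ha)) ha1
  have hle : ⁅A, B⁆ ≤ A := by
    rw [← h.2.2.2 b hb hb1, Subgroup.closure_le]
    rintro _ ⟨a', ha', rfl⟩
    show a' * b * a'⁻¹ * b⁻¹ ∈ A
    have : b * a'⁻¹ * b⁻¹ ∈ A := by
      have := conj_mem_conjBy (g := b) (inv_mem ha')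
      rwa [hfix] at this
    simpa [mul_assoc] using mul_mem ha' this
  obtain ⟨c, hc, hc1⟩ := exists_ne_one (hS.ne_bot _ h.1)
  have hCA := eq_of_meet hS hA h.1 hp (hle hc) hc hc1
  apply hS.ne_bot _ h.1
  exact commutator_eq_bot_of_comm fun a ha b hb =>
    h.2.1 a (by rw [hCA]; exact ha) b (Subgroup.mem_sup_right hb)

theorem commutator_ne_left (hS : IsRootSubgroupSet S) (h : RootCommutatorCase S A B) :
    ⁅A, B⁆ ≠ A := by
  intro e
  apply hS.ne_bot _ h.1
  exact commutator_eq_bot_of_comm fun a ha b hb =>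
    h.2.1 a (by rw [e]; exact ha) b (Subgroup.mem_sup_right hb)

theorem comm_left_commutator (h : RootCommutatorCase S A B) :
    ∀ a ∈ A, ∀ c ∈ ⁅A, B⁆, a * c = c * a :=
  fun a ha c hc => (h.2.1 c hc a (Subgroup.mem_sup_left ha)).symm

theorem conjBy_inf_commutator (hS : IsRootSubgroupSet S) (hA : A ∈ S) (hp : HasPartner S A)
    (h : RootCommutatorCase S A B) (hb : b ∈ B) : conjBy A b ⊓ ⁅A, B⁆ = ⊥ := by
  have hC : conjBy ⁅A, B⁆ b = ⁅A, B⁆ :=
    conjBy_of_comm fun c hc => (h.2.1 c hc b (Subgroup.mem_sup_right hb)).symm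
  rw [← hC, ← conjBy_inf, inf_eq_bot hS hA h.1 hp (commutator_ne_left hS h), conjBy_bot]

/-- The element `x` of `A ⊔ ⁅A,B⁆` lies in a conjugate `A^b` or in `⁅A,B⁆`. -/
theorem line_cover (h : RootCommutatorCase S A B) {x : G} (hx : x ∈ A ⊔ ⁅A, B⁆)
    (hxC : x ∉ ⁅A, B⁆) : ∃ b ∈ B, x ∈ conjBy A b := by
  obtain ⟨a, ha, c, hc, rfl⟩ := sup_mem_of_comm (comm_left_commutator h) hx
  have ha1 : a ≠ 1 := fun e => hxC (by rw [e, one_mul]; exact hc)
  obtain ⟨b, hb, e⟩ := exists_eq_left h ha ha1 (inv_mem hc)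
  refine ⟨b, hb, ?_⟩
  have h1 : a * c = b * a * b⁻¹ := by
    rw [show b * a * b⁻¹ = ⁅a, b⁆⁻¹ * a by simp [commutatorElement_def, mul_assoc], e, inv_inv]
    exact comm_left_commutator h a ha c hc
  rw [h1]
  exact conj_mem_conjBy ha

theorem conjBy_le_line (h : RootCommutatorCase S A B) (hb : b ∈ B) :
    conjBy A b ≤ A ⊔ ⁅A, B⁆ := by
  rintro _ ⟨a, ha, rfl⟩
  show b * a * b⁻¹ ∈ A ⊔ ⁅A, B⁆
  rw [show b * a * b⁻¹ = ⁅a, b⁆⁻¹ * a by simp [commutatorElement_def, mul_assoc]]
  exact mul_mem (Subgroup.mem_sup_right (inv_mem (Subgroup.commutator_mem_commutator ha hb)))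
    (Subgroup.mem_sup_left ha)

theorem eq_of_le_commutator (hS : IsRootSubgroupSet S) (hA : A ∈ S)
    (hp : HasPartner S A) (h : RootCommutatorCase S A B) (hF : F ∈ S) (hle : F ≤ ⁅A, B⁆) :
    F = ⁅A, B⁆ := by
  obtain ⟨E, hE, hAE⟩ := hp
  obtain ⟨a, ha, ha1⟩ := exists_ne_one (RankOne.left_ne_bot hAE)
  obtain ⟨f, hf, hf1⟩ := exists_ne_one (hS.ne_bot F hF)
  have noncomm : ∀ X : Subgroup G, X ∈ S → X ≤ ⁅A, B⁆ → f ∈ X → ⁅X, E⁆ ≠ ⊥ := by
    intro X _ hXle hfX hc
    obtain ⟨b, hb, e⟩ := exists_eq_left h ha ha1 (hle hf)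
    refine hf1 (inv_eq_one.mp (eq_one_of_central_shift hS hE hAE (hS.conj_mem A hA b) ha ha1
      (fun x hx => (Commute.inv_left (h.2.1 f (hle hf) x (Subgroup.mem_sup_left hx))).eq)
      (fun x hx => (Commute.inv_left (comm_of_commutator_eq_bot hc hfX hx)).eq) ?_))
    have : f⁻¹ * a = b * a * b⁻¹ := by rw [← e]; simp [commutatorElement_def, mul_assoc]
    rw [this]
    exact conj_mem_conjBy ha
  rcases hS.pair F hF E hE with hc | hr | hrF
  · exact absurd hc (noncomm F hF hle hf)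
  · exact (eq_of_meet hS hF h.1 ⟨E, hE, hr⟩ hf (hle hf) hf1).symm
  rcases hS.pair _ h.1 E hE with hc | hr | hrC
  · exact absurd hc (noncomm _ h.1 le_rfl (hle hf))
  · exact eq_of_meet hS h.1 hF ⟨E, hE, hr⟩ (hle hf) hf hf1
  refine le_antisymm hle fun c hc => ?_
  obtain ⟨e, he, he1⟩ := exists_ne_one (RankOne.right_ne_bot hAE)
  have hsame : ⁅F, E⁆ = ⁅⁅A, B⁆, E⁆ := (hrF.2.2.1 f hf hf1).symm.trans (hrC.2.2.1 f (hle hf) hf1)
  obtain ⟨f', hf', heq⟩ := exists_eq_right hrF he he1 (c := ⁅c, e⁆)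
    (by rw [hsame]; exact Subgroup.commutator_mem_commutator hc he)
  have hEp : HasPartner S E := ⟨A, hA, RankOnePair_symm hAE⟩
  by_contra hcF
  refine commutatorElement_ne_one hS hE hEp (rcc_symm hrC) he he1
    (mul_mem (inv_mem (hle hf')) hc)
    (fun e1 => hcF (by rw [← inv_mul_eq_one.mp e1]; exact hf')) ?_
  rw [commutatorElement_eq_one_iff_mul_comm]
  have h1 : c * e * c⁻¹ = f' * e * f'⁻¹ := by
    simpa [commutatorElement_def] using congrArg (· * e) heq.symm
  calc e * (f'⁻¹ * c) = f'⁻¹ * (f' * e * f'⁻¹) * c := by group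
    _ = f'⁻¹ * (c * e * c⁻¹) * c := by rw [h1]
    _ = f'⁻¹ * c * e := by group

theorem membersIn_line (hS : IsRootSubgroupSet S) (hA : A ∈ S) (hp : HasPartner S A)
    (h : RootCommutatorCase S A B) :
    membersIn S (A ⊔ ⁅A, B⁆) = (fun b : G => conjBy A b) '' (B : Set G) ∪ {⁅A, B⁆} := by
  ext F
  constructor
  · rintro ⟨hF, hle⟩
    by_cases hFC : F ≤ ⁅A, B⁆
    · exact Or.inr (eq_of_le_commutator hS hA hp h hF hFC)
    · obtain ⟨x, hx, hxC⟩ := SetLike.not_le_iff_exists.mp hFC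
      obtain ⟨b, hb, hxb⟩ := line_cover h (hle hx) hxC
      exact Or.inl ⟨b, hb, (eq_of_meet hS (hS.conj_mem A hA b) hF
        (hasPartner_conjBy hS hp b) hxb hx (fun e => hxC (by rw [e]; exact one_mem _))).symm⟩
  · rintro (⟨b, hb, rfl⟩ | rfl)
    · exact ⟨hS.conj_mem A hA b, conjBy_le_line h hb⟩
    · exact ⟨h.1, le_sup_right⟩

theorem partition_line (hS : IsRootSubgroupSet S) (hA : A ∈ S) (hp : HasPartner S A)
    (h : RootCommutatorCase S A B) :
    IsSubgroupPartition (A ⊔ ⁅A, B⁆) (membersIn S (A ⊔ ⁅A, B⁆)) := by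
  refine ⟨fun _ hC => hC.2, fun x hx hx1 => ?_, fun C₁ h₁ C₂ h₂ hne => ?_⟩
  · rw [membersIn_line hS hA hp h]
    by_cases hxC : x ∈ ⁅A, B⁆
    · exact ⟨_, Or.inr rfl, hxC⟩
    · obtain ⟨b, hb, hxb⟩ := line_cover h hx hxC
      exact ⟨_, Or.inl ⟨b, hb, rfl⟩, hxb⟩
  · rw [membersIn_line hS hA hp h] at h₁ h₂
    rcases h₁ with ⟨b, hb, rfl⟩ | rfl <;> rcases h₂ with ⟨b', hb', rfl⟩ | rfl
    · exact inf_eq_bot hS (hS.conj_mem A hA b) (hS.conj_mem A hA b')
        (hasPartner_conjBy hS hp b) hne.symm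
    · exact conjBy_inf_commutator hS hA hp h hb
    · rw [inf_comm]; exact conjBy_inf_commutator hS hA hp h hb'
    · exact absurd rfl hne

theorem mem_linePartners (hS : IsRootSubgroupSet S) (hA : A ∈ S) (hp : HasPartner S A)
    (h : RootCommutatorCase S A B) : A ∈ linePartners S ⁅A, B⁆ := by
  refine ⟨⟨hA, (commutator_ne_left hS h).symm, ?_⟩, ?_⟩
  · exact commutator_eq_bot_of_comm fun c hc a ha => (comm_left_commutator h a ha c hc).symm
  · rw [sup_comm]; exact partition_line hS hA hp h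

theorem mem_linePartners' (hS : IsRootSubgroupSet S) (hA : A ∈ S) (hp : HasPartner S A)
    (h : RootCommutatorCase S A B) : ⁅A, B⁆ ∈ linePartners S A :=
  ⟨⟨h.1, commutator_ne_left hS h,
    commutator_eq_bot_of_comm (comm_left_commutator h)⟩, partition_line hS hA hp h⟩

/-- A root element `a * c` with `c` almost commuting with the partner `E` stays a partner of it. -/
theorem rankOne_of_shift (hS : IsRootSubgroupSet S) (hE : E ∈ S) (hAE : IsRankOnePair A E)
    (hF : F ∈ S) {c : G} (hcA : ∀ x ∈ A, c * x = x * c) (hcE : ⁅E, conjBy E c⁆ = ⊥)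
    (ha : a ∈ A) (ha1 : a ≠ 1) (hac : a * c ∈ F) : IsRankOnePair F E := by
  have main : ⁅E, conjBy E (a * c)⁆ ≠ ⊥ := by
    intro hc
    have h1 : ⁅conjBy E a⁻¹, conjBy E c⁆ = ⊥ := by
      have := congrArg (fun X => conjBy X a⁻¹) hc
      simp only [conjBy_commutator, conjBy_bot, conjBy_conjBy, inv_mul_cancel_left] at this
      exact this
    have hgen : E ⊔ conjBy E a⁻¹ = A ⊔ E :=
      (RankOne.pair_of_mem hAE (RankOne.right_mem hAE)
        (RankOne.conjBy_mem_unipotent (Subgroup.mem_sup_left (inv_mem ha))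
          (RankOne.right_mem hAE))
        fun e => ha1 (inv_eq_one.mp
          (RankOne.eq_one_of_normalizes hAE (inv_mem ha) e.symm))).2
    apply RankOne.not_commute hAE
    refine commutator_eq_bot_of_comm fun x hx e he => ?_
    have h2 : c * e * c⁻¹ * x = x * (c * e * c⁻¹) :=
      comm_sup (fun e' he' => (comm_of_commutator_eq_bot hcE he' (conj_mem_conjBy he)).symm)
        (fun e' he' => (comm_of_commutator_eq_bot h1 he' (conj_mem_conjBy he)).symm) x
        (by rw [hgen]; exact Subgroup.mem_sup_left hx)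
    calc x * e = c⁻¹ * (c * x) * e := by group
      _ = c⁻¹ * (x * (c * e * c⁻¹)) * c := by rw [hcA x hx]; group
      _ = c⁻¹ * (c * e * c⁻¹ * x) * c := by rw [h2]
      _ = e * (c⁻¹ * (x * c)) := by group
      _ = e * x := by rw [← hcA x hx]; group
  rcases hS.pair F hF E hE with hc | hr | hr
  · refine absurd ?_ main
    rw [conjBy_of_comm fun x hx => comm_of_commutator_eq_bot hc hac hx]
    exact commutator_eq_bot_of_comm fun x hx y hy => comm_self hS hE hx hy
  · exact hr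
  · exact absurd (rcc_conj_commute hS hE hr hac) main

/-- On a line through `A` some member is in the commutator case with a given partner of `A`. -/
theorem exists_commutator_member (hS : IsRootSubgroupSet S) (hA : A ∈ S) (hB : B ∈ S)
    (hE : E ∈ S) (hAE : IsRankOnePair A E) (hne' : B ≠ A) (hcomm : ⁅A, B⁆ = ⊥)
    (hroot : ∀ x ∈ A ⊔ B, x ≠ 1 → ∃ F ∈ membersIn S (A ⊔ B), x ∈ F) {c : G} (hc : c ∈ B)
    (hc1 : c ≠ 1) :
    ∃ F ∈ membersIn S (A ⊔ B), RootCommutatorCase S F E ∧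
      (F = B ∨ ∃ a' ∈ A, a' ≠ 1 ∧ a'⁻¹ * c ∈ F) := by
  have hcA : ∀ x ∈ A, c * x = x * c := fun x hx => (comm_of_commutator_eq_bot hcomm hx hc).symm
  rcases hS.pair B hB E hE with hbe | hbe | hbe
  · exfalso
    obtain ⟨a, ha, ha1⟩ := exists_ne_one (RankOne.left_ne_bot hAE)
    have hne : c * a ≠ 1 := fun e => ha1
      (RankOne.eq_one_of_centralizes hAE ha fun x hx => by
        rw [eq_inv_of_mul_eq_one_right e]
        exact (Commute.inv_left (comm_of_commutator_eq_bot hbe hc hx)).eq)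
    obtain ⟨F, hF, hca⟩ := hroot (c * a)
      (mul_mem (Subgroup.mem_sup_right hc) (Subgroup.mem_sup_left ha)) hne
    exact hc1 (eq_one_of_central_shift hS hE hAE hF.1 ha ha1 hcA
      (fun x hx => comm_of_commutator_eq_bot hbe hc hx) hca)
  · have hEA := RankOnePair_symm hAE
    have hEB := RankOnePair_symm hbe
    obtain ⟨ε, hε, e⟩ := RankOne.eq_translate hEB
      (by rw [RankOne.unipotent_symm hbe]
          exact RankOne.conjBy_mem_unipotent (Subgroup.mem_sup_left hc) (RankOne.right_mem hbe))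
      (fun e => hc1 (RankOne.eq_one_of_normalizes hbe hc e))
    have hε1 : ε ≠ 1 := by
      intro h1
      rw [h1, conjBy_one] at e
      exact RankOne.translate_ne hbe hc e
    obtain ⟨a', ha', e'⟩ := RankOne.eq_translate hAE
      (RankOne.conjBy_mem_unipotent (Subgroup.mem_sup_right hε) (RankOne.left_mem A E))
      (fun e => hε1 (RankOne.eq_one_of_normalizes hEA hε e))
    have ha'1 : a' ≠ 1 := by
      intro h1
      rw [h1, conjBy_one] at e'
      exact hAE.ne (conjBy_inj (e'.trans (conjBy_of_mem hε).symm))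
    have h1 : ⁅E, conjBy E (a'⁻¹ * c)⁆ = ⊥ := by
      have h2 : ⁅conjBy E a', conjBy E c⁆ = ⊥ := by
        rw [← e', e, ← conjBy_commutator, hcomm, conjBy_bot]
      have := congrArg (fun X => conjBy X a'⁻¹) h2
      simp only [conjBy_commutator, conjBy_bot, conjBy_conjBy, inv_mul_cancel, conjBy_one] at this
      exact this
    have hne : a'⁻¹ * c ≠ 1 := by
      intro h1
      rw [← inv_mul_eq_one.mp h1] at hc
      exact hne' (eq_of_meet hS hA hB ⟨E, hE, hAE⟩ ha' hc ha'1)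
    obtain ⟨F, hF, hf⟩ := hroot (a'⁻¹ * c)
      (mul_mem (Subgroup.mem_sup_left (inv_mem ha')) (Subgroup.mem_sup_right hc)) hne
    refine ⟨F, hF, ?_, Or.inr ⟨a', ha', ha'1, hf⟩⟩
    rcases hS.pair F hF.1 E hE with hc' | hr | hr
    · exfalso
      have := eq_one_of_central_shift hS hE hAE hB (z := a'⁻¹ * c) ha' ha'1
        (fun x hx => ((Commute.inv_left (comm_self hS hA ha' hx)).mul_left (hcA x hx)).eq)
        (fun x hx => comm_of_commutator_eq_bot hc' hf hx)
        (by rw [mul_assoc, hcA a' ha', inv_mul_cancel_left]; exact hc)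
      exact hne this
    · exact absurd h1 (translate_not_commute hr hf hne)
    · exact hr
  · exact ⟨B, ⟨hB, le_sup_right⟩, hbe, Or.inl rfl⟩

end Line

end Root

end Cfsg.Agent.Lib.RootSubgroups
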