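import Cfsg.Agent.Lib.RootSubgroups.RankOne

/-! `SL₂(k)` as a special rank one group on its unitriangular subgroups. -/

namespace Cfsg.Agent.Lib.RootSubgroups.SL2

open Cfsg Matrix

variable {k : Type*} [Field k]

/-- The lower unitriangular element. -/
def low (t : k) : SpecialLinearGroup (Fin 2) k := ⟨!![1, 0; t, 1], by simp [det_fin_two]⟩

/-- The upper unitriangular element. -/
def up (t : k) : SpecialLinearGroup (Fin 2) k := ⟨!![1, t; 0, 1], by simp [det_fin_two]⟩

@[simp] theorem coe_low (t : k) :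
    ((low t : SpecialLinearGroup (Fin 2) k) : Matrix (Fin 2) (Fin 2) k) = !![1, 0; t, 1] := rfl

@[simp] theorem coe_up (t : k) :
    ((up t : SpecialLinearGroup (Fin 2) k) : Matrix (Fin 2) (Fin 2) k) = !![1, t; 0, 1] := rfl

theorem low_mul (s t : k) : low s * low t = low (s + t) := by
  apply Subtype.ext; simp [Matrix.mul_fin_two]

theorem up_mul (s t : k) : up s * up t = up (s + t) := by
  apply Subtype.ext; simp [Matrix.mul_fin_two, add_comm]

@[simp] theorem low_zero : low (0 : k) = 1 := by apply Subtype.ext; simp [Matrix.one_fin_two]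

@[simp] theorem up_zero : up (0 : k) = 1 := by apply Subtype.ext; simp [Matrix.one_fin_two]

theorem low_inv (t : k) : (low t)⁻¹ = low (-t) := by
  apply inv_eq_of_mul_eq_one_right; rw [low_mul]; simp

theorem up_inv (t : k) : (up t)⁻¹ = up (-t) := by
  apply inv_eq_of_mul_eq_one_right; rw [up_mul]; simp

theorem low_injective : Function.Injective (low : k → SpecialLinearGroup (Fin 2) k) := by
  intro s t h; simpa using congrArg (fun g : SpecialLinearGroup (Fin 2) k => (g : Matrix (Fin 2) (Fin 2) k) 1 0) h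

theorem up_injective : Function.Injective (up : k → SpecialLinearGroup (Fin 2) k) := by
  intro s t h; simpa using congrArg (fun g : SpecialLinearGroup (Fin 2) k => (g : Matrix (Fin 2) (Fin 2) k) 0 1) h

theorem up_eq_one {t : k} (h : up t = 1) : t = 0 := up_injective (h.trans up_zero.symm)

theorem low_eq_one {t : k} (h : low t = 1) : t = 0 := low_injective (h.trans low_zero.symm)

theorem mem_upper {g : SpecialLinearGroup (Fin 2) k} :
    g ∈ upperUnipotentSL2 k ↔ ∃ t, g = up t := by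
  constructor
  · intro h
    induction h using Subgroup.closure_induction with
    | mem x hx =>
      refine ⟨(x : Matrix (Fin 2) (Fin 2) k) 0 1, Subtype.ext ?_⟩
      ext i j
      fin_cases i <;> fin_cases j <;> simp [hx.1, hx.2.1, hx.2.2]
    | one => exact ⟨0, up_zero.symm⟩
    | mul x y _ _ hx hy =>
      obtain ⟨s, rfl⟩ := hx; obtain ⟨t, rfl⟩ := hy
      exact ⟨s + t, up_mul s t⟩
    | inv x _ hx => obtain ⟨s, rfl⟩ := hx; exact ⟨-s, up_inv s⟩
  · rintro ⟨t, rfl⟩
    exact Subgroup.subset_closure ⟨by simp, by simp, by simp⟩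

theorem mem_lower {g : SpecialLinearGroup (Fin 2) k} :
    g ∈ lowerUnipotentSL2 k ↔ ∃ t, g = low t := by
  constructor
  · intro h
    induction h using Subgroup.closure_induction with
    | mem x hx =>
      refine ⟨(x : Matrix (Fin 2) (Fin 2) k) 1 0, Subtype.ext ?_⟩
      ext i j
      fin_cases i <;> fin_cases j <;> simp [hx.1, hx.2.1, hx.2.2]
    | one => exact ⟨0, low_zero.symm⟩
    | mul x y _ _ hx hy =>
      obtain ⟨s, rfl⟩ := hx; obtain ⟨t, rfl⟩ := hy
      exact ⟨s + t, low_mul s t⟩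
    | inv x _ hx => obtain ⟨s, rfl⟩ := hx; exact ⟨-s, low_inv s⟩
  · rintro ⟨t, rfl⟩
    exact Subgroup.subset_closure ⟨by simp, by simp, by simp⟩

theorem decomp (g : SpecialLinearGroup (Fin 2) k)
    (h : (g : Matrix (Fin 2) (Fin 2) k) 1 0 ≠ 0) :
    g = up (((g : Matrix (Fin 2) (Fin 2) k) 0 0 - 1) / (g : Matrix (Fin 2) (Fin 2) k) 1 0) *
      low ((g : Matrix (Fin 2) (Fin 2) k) 1 0) *
      up (((g : Matrix (Fin 2) (Fin 2) k) 1 1 - 1) / (g : Matrix (Fin 2) (Fin 2) k) 1 0) := by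
  have hd := g.det_coe
  rw [det_fin_two] at hd
  apply Subtype.ext
  ext i j
  fin_cases i <;> fin_cases j <;> simp [Matrix.mul_fin_two] <;> field_simp <;>
    first | linear_combination hd | linear_combination -hd | linear_combination (0:k)

theorem generated : lowerUnipotentSL2 k ⊔ upperUnipotentSL2 k = ⊤ := by
  rw [eq_top_iff]
  intro g _
  have hl : ∀ t : k, low t ∈ lowerUnipotentSL2 k ⊔ upperUnipotentSL2 k :=
    fun t => Subgroup.mem_sup_left (mem_lower.mpr ⟨t, rfl⟩)
  have hu : ∀ t : k, up t ∈ lowerUnipotentSL2 k ⊔ upperUnipotentSL2 k :=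
    fun t => Subgroup.mem_sup_right (mem_upper.mpr ⟨t, rfl⟩)
  have main : ∀ g : SpecialLinearGroup (Fin 2) k, (g : Matrix (Fin 2) (Fin 2) k) 1 0 ≠ 0 →
      g ∈ lowerUnipotentSL2 k ⊔ upperUnipotentSL2 k := by
    intro g hg
    rw [decomp g hg]
    exact mul_mem (mul_mem (hu _) (hl _)) (hu _)
  by_cases hg : (g : Matrix (Fin 2) (Fin 2) k) 1 0 = 0
  · have ha : (g : Matrix (Fin 2) (Fin 2) k) 0 0 ≠ 0 := by
      intro ha
      have hd := g.det_coe
      rw [det_fin_two, ha, hg] at hd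
      simp at hd
    have : low 1 * g ∈ lowerUnipotentSL2 k ⊔ upperUnipotentSL2 k := by
      apply main
      simp [Matrix.mul_apply, Fin.sum_univ_two, hg, ha]
    simpa using mul_mem (inv_mem (hl 1)) this
  · exact main g hg

theorem eq_of_mul_eq (s t : k) (h : s * t = 1) :
    conjBy (lowerUnipotentSL2 k) (up t)⁻¹ = conjBy (upperUnipotentSL2 k) (low s)⁻¹ := by
  ext g
  simp only [mem_conjBy, inv_inv, mem_lower, mem_upper, up_inv, low_inv]
  constructor
  · rintro ⟨x, hx⟩
    refine ⟨-(t ^ 2 * x), ?_⟩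
    have : g = up (-t) * low x * up t := by
      rw [← hx, ← up_inv]; group
    rw [this]
    apply Subtype.ext
    ext i j
    fin_cases i <;> fin_cases j <;> simp [Matrix.mul_fin_two] <;> grind
  · rintro ⟨x, hx⟩
    refine ⟨-(s ^ 2 * x), ?_⟩
    have : g = low (-s) * up x * low s := by
      rw [← hx, ← low_inv]; group
    rw [this]
    apply Subtype.ext
    ext i j
    fin_cases i <;> fin_cases j <;> simp [Matrix.mul_fin_two] <;> grind

theorem special_identity (s t : k) (h : s * t = 1) :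
    (up t)⁻¹ * low s * up t = (low s)⁻¹ * (up t)⁻¹ * low s := by
  rw [up_inv, low_inv]
  apply Subtype.ext
  ext i j
  fin_cases i <;> fin_cases j <;> simp [Matrix.mul_fin_two] <;> grind

theorem comm_lower : IsMulCommutative (lowerUnipotentSL2 k) := by
  refine ⟨⟨fun x y => Subtype.ext ?_⟩⟩
  obtain ⟨s, hs⟩ := mem_lower.mp x.2
  obtain ⟨t, ht⟩ := mem_lower.mp y.2
  simp [hs, ht, low_mul, add_comm]

theorem comm_upper : IsMulCommutative (upperUnipotentSL2 k) := by
  refine ⟨⟨fun x y => Subtype.ext ?_⟩⟩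
  obtain ⟨s, hs⟩ := mem_upper.mp x.2
  obtain ⟨t, ht⟩ := mem_upper.mp y.2
  simp [hs, ht, up_mul, add_comm]

theorem rankOne : IsRankOnePair (lowerUnipotentSL2 k) (upperUnipotentSL2 k) := by
  refine ⟨?_, ?_, ?_, ?_, ?_⟩
  · intro e
    have h : low (1 : k) ∈ upperUnipotentSL2 k := e ▸ mem_lower.mpr ⟨1, rfl⟩
    obtain ⟨t, ht⟩ := mem_upper.mp h
    simpa using congrArg (fun g : SpecialLinearGroup (Fin 2) k => (g : Matrix (Fin 2) (Fin 2) k) 1 0) ht
  · exact isNilpotent_of_comm comm_lower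
  · exact isNilpotent_of_comm comm_upper
  · intro a ha ha1
    obtain ⟨s, rfl⟩ := mem_lower.mp ha
    have hs : s ≠ 0 := fun e => ha1 (by rw [e, low_zero])
    exact ⟨up s⁻¹, mem_upper.mpr ⟨_, rfl⟩, fun e => hs (inv_eq_zero.mp (up_eq_one e)),
      eq_of_mul_eq _ _ (mul_inv_cancel₀ hs)⟩
  · intro b hb hb1
    obtain ⟨t, rfl⟩ := mem_upper.mp hb
    have ht : t ≠ 0 := fun e => hb1 (by rw [e, up_zero])
    exact ⟨low t⁻¹, mem_lower.mpr ⟨_, rfl⟩, fun e => ht (inv_eq_zero.mp (low_eq_one e)),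
      (eq_of_mul_eq _ _ (inv_mul_cancel₀ ht)).symm⟩

theorem special : IsSpecialRankOnePair (lowerUnipotentSL2 k) (upperUnipotentSL2 k) := by
  refine ⟨rankOne, fun a ha ha1 b hb hb1 e => ?_⟩
  obtain ⟨s, rfl⟩ := mem_lower.mp ha
  have hs : s ≠ 0 := fun e => ha1 (by rw [e, low_zero])
  have r : Rel (lowerUnipotentSL2 k) (upperUnipotentSL2 k) (low s) b :=
    ⟨ha, ha1, hb, hb1, e⟩
  have r' : Rel (lowerUnipotentSL2 k) (upperUnipotentSL2 k) (low s) (up s⁻¹) :=
    ⟨ha, ha1, mem_upper.mpr ⟨_, rfl⟩, fun e => hs (inv_eq_zero.mp (up_eq_one e)),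
      eq_of_mul_eq _ _ (mul_inv_cancel₀ hs)⟩
  rw [RankOne.rel_unique_right rankOne r r']
  exact special_identity _ _ (mul_inv_cancel₀ hs)

end Cfsg.Agent.Lib.RootSubgroups.SL2
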