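import Cfsg.Agent.Lib.RootSubgroups.RankOne

/-! Special rank one pairs: the element `μ`, powers, and quadratic modules (Timmesfeld, I.5). -/

namespace Cfsg.Agent.Lib.RootSubgroups

open Cfsg

variable {G H : Type*} [Group G] [Group H] {A B : Subgroup G}

/-- The element `a * b(a)⁻¹ * a` interchanging `A` and `B`. -/
def mu (a b : G) : G := a * b⁻¹ * a

namespace RankOne

theorem of_map (f : G →* H) (hf : Function.Injective f)
    (h : IsRankOnePair (A.map f) (B.map f)) : IsRankOnePair A B := by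
  have nil : ∀ A : Subgroup G, Group.IsNilpotent ↥(A.map f) → Group.IsNilpotent A := by
    intro A hA
    exact Group.nilpotent_of_mulEquiv (Subgroup.equivMapOfInjective A f hf).symm
  have cond : ∀ A B : Subgroup G, RankOneCondition (A.map f) (B.map f) →
      RankOneCondition A B := by
    intro A B hc a ha ha1
    obtain ⟨_, ⟨b, hb, rfl⟩, hb1, e⟩ :=
      hc (f a) ⟨a, ha, rfl⟩ fun e => ha1 (hf (e.trans (map_one f).symm))
    refine ⟨b, hb, fun e => hb1 (by rw [e, map_one]), Subgroup.map_injective hf ?_⟩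
    rw [map_conjBy, map_conjBy, map_inv, map_inv, e]
  exact ⟨fun e => h.ne (by rw [e]), nil A h.nilpotent_left, nil B h.nilpotent_right,
    cond A B h.cond_left, cond B A h.cond_right⟩

theorem subgroupOf {U : Subgroup G} (h : IsRankOnePair A B) (hA : A ≤ U) (hB : B ≤ U) :
    IsRankOnePair (A.subgroupOf U) (B.subgroupOf U) := by
  apply of_map U.subtype U.subtype_injective
  rwa [Subgroup.map_subgroupOf_eq_of_le hA, Subgroup.map_subgroupOf_eq_of_le hB]

theorem sup_subgroupOf {U : Subgroup G} (hA : A ≤ U) (hB : B ≤ U) :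
    A.subgroupOf U ⊔ B.subgroupOf U = (A ⊔ B).subgroupOf U := by
  apply Subgroup.map_injective U.subtype_injective
  rw [Subgroup.map_sup, Subgroup.map_subgroupOf_eq_of_le hA, Subgroup.map_subgroupOf_eq_of_le hB,
    Subgroup.map_subgroupOf_eq_of_le (sup_le hA hB)]

theorem isRankOneGroup_self (h : IsRankOnePair A B) :
    IsRankOneGroup ↥(A ⊔ B) (A.subgroupOf (A ⊔ B)) (B.subgroupOf (A ⊔ B)) :=
  ⟨by rw [sup_subgroupOf le_sup_left le_sup_right, Subgroup.subgroupOf_self],
    subgroupOf h le_sup_left le_sup_right⟩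

theorem special_of_map (f : G →* H) (hf : Function.Injective f)
    (h : IsSpecialRankOnePair (A.map f) (B.map f)) : IsSpecialRankOnePair A B := by
  refine ⟨of_map f hf h.1, fun a ha ha1 b hb hb1 e => hf ?_⟩
  have := h.2 (f a) ⟨a, ha, rfl⟩ (fun e => ha1 (hf (e.trans (map_one f).symm)))
    (f b) ⟨b, hb, rfl⟩ (fun e => hb1 (hf (e.trans (map_one f).symm)))
    (by rw [← map_inv, ← map_inv, ← map_conjBy, ← map_conjBy, e])
  simpa using this

theorem special_map_of_injective (f : G →* H) (hf : Function.Injective f)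
    (h : IsSpecialRankOnePair A B) : IsSpecialRankOnePair (A.map f) (B.map f) := by
  refine ⟨map_of_injective f hf h.1, ?_⟩
  rintro _ ⟨a, ha, rfl⟩ ha1 _ ⟨b, hb, rfl⟩ hb1 e
  have := h.2 a ha (fun e => ha1 (by rw [e, map_one])) b hb (fun e => hb1 (by rw [e, map_one]))
    (Subgroup.map_injective hf (by rw [map_conjBy, map_conjBy, map_inv, map_inv, e]))
  simpa using congrArg f this

theorem special_symm (h : IsSpecialRankOnePair A B) : IsSpecialRankOnePair B A := by
  refine ⟨RankOnePair_symm h.1, fun b hb hb1 a ha ha1 e => ?_⟩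
  have := congrArg (·⁻¹) (h.2 a ha ha1 b hb hb1 e.symm)
  simpa [mul_assoc] using this.symm

theorem special_eq (h : IsSpecialRankOnePair A B) {a b : G} (r : Rel A B a b) :
    b⁻¹ * a * b = a⁻¹ * b⁻¹ * a :=
  h.2 a r.memA r.neA b r.memB r.neB r.eq

theorem braid (h : IsSpecialRankOnePair A B) {a b : G} (r : Rel A B a b) :
    a * b⁻¹ * a = b⁻¹ * a * b⁻¹ := by
  have e := special_eq h r
  calc a * b⁻¹ * a = a * (b⁻¹ * a * b) * b⁻¹ := by group
    _ = a * (a⁻¹ * b⁻¹ * a) * b⁻¹ := by rw [e]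
    _ = b⁻¹ * a * b⁻¹ := by group

theorem mu_conj_right (h : IsSpecialRankOnePair A B) {a b : G} (r : Rel A B a b) :
    mu a b * a * (mu a b)⁻¹ = b⁻¹ := by
  have e := braid h r
  calc mu a b * a * (mu a b)⁻¹ = (a * b⁻¹ * a) * b * a⁻¹ := by unfold mu; group
    _ = (b⁻¹ * a * b⁻¹) * b * a⁻¹ := by rw [e]
    _ = b⁻¹ := by group

theorem mu_conj_left (h : IsSpecialRankOnePair A B) {a b : G} (r : Rel A B a b) :
    mu a b * b⁻¹ * (mu a b)⁻¹ = a := by
  have e := braid h r
  calc mu a b * b⁻¹ * (mu a b)⁻¹ = a * (b⁻¹ * a * b⁻¹) * a⁻¹ * b * a⁻¹ := by unfold mu; group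
    _ = a * (a * b⁻¹ * a) * a⁻¹ * b * a⁻¹ := by rw [e]
    _ = a := by group

theorem mu_mem {a b : G} (r : Rel A B a b) : mu a b ∈ A ⊔ B :=
  mul_mem (mul_mem (Subgroup.mem_sup_left r.memA) (Subgroup.mem_sup_right (inv_mem r.memB)))
    (Subgroup.mem_sup_left r.memA)

theorem conjBy_mu_left (h : IsSpecialRankOnePair A B) {a b : G} (r : Rel A B a b) :
    conjBy A (mu a b) = B :=
  eq_of_mem_both h.1 (conjBy_mem_unipotent (mu_mem r) (left_mem A B)) (right_mem h.1)
    (conj_mem_conjBy r.memA) (by rw [mu_conj_right h r]; exact inv_mem r.memB)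
    (by rw [mu_conj_right h r]; simpa using r.neB)

theorem conjBy_mu_right (h : IsSpecialRankOnePair A B) {a b : G} (r : Rel A B a b) :
    conjBy B (mu a b) = A :=
  eq_of_mem_both h.1 (conjBy_mem_unipotent (mu_mem r) (right_mem h.1)) (left_mem A B)
    (conj_mem_conjBy (inv_mem r.memB)) (by rw [mu_conj_left h r]; exact r.memA)
    (by rw [mu_conj_left h r]; exact r.neA)

theorem conjBy_mu_inv_left (h : IsSpecialRankOnePair A B) {a b : G} (r : Rel A B a b) :
    conjBy A (mu a b)⁻¹ = B := (conjBy_eq_iff.mp (conjBy_mu_right h r)).symm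

theorem conjBy_mu_inv_right (h : IsSpecialRankOnePair A B) {a b : G} (r : Rel A B a b) :
    conjBy B (mu a b)⁻¹ = A := (conjBy_eq_iff.mp (conjBy_mu_left h r)).symm

theorem rel_inv (h : IsSpecialRankOnePair A B) {a b : G} (r : Rel A B a b) :
    Rel A B a⁻¹ b⁻¹ := by
  refine ⟨inv_mem r.memA, by simpa using r.neA, inv_mem r.memB, by simpa using r.neB, ?_⟩
  rw [inv_inv, inv_inv]
  have e := conjBy_mu_right h r
  have e' : mu a b = b⁻¹ * a * b⁻¹ := braid h r
  rw [e', ← conjBy_conjBy, conjBy_of_mem (inv_mem r.memB), ← conjBy_conjBy] at e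
  rw [← e, conjBy_cancel]

theorem conj_pow_eq (h : IsSpecialRankOnePair A B) {a b : G} (r : Rel A B a b) (n : ℕ) :
    b⁻¹ * a ^ n * b = a⁻¹ * b⁻¹ ^ n * a := by
  have h1 : (b⁻¹ * a * b⁻¹⁻¹) ^ n = b⁻¹ * a ^ n * b⁻¹⁻¹ := conj_pow
  have h2 : (a⁻¹ * b⁻¹ * a⁻¹⁻¹) ^ n = a⁻¹ * b⁻¹ ^ n * a⁻¹⁻¹ := conj_pow
  simp only [inv_inv] at h1 h2
  rw [← h1, ← h2, special_eq h r]

/-- The `n`-th power lemma for special rank one pairs. -/
theorem pow_aux (n : ℕ) : ∀ (A B : Subgroup G), IsSpecialRankOnePair A B → ∀ a b, Rel A B a b →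
    (b ^ n = 1 → a ^ n = 1) ∧ ∀ f, Rel A B f (b ^ n) → f ^ n = a := by
  induction n with
  | zero =>
    intro A B _ a b _
    exact ⟨fun _ => pow_zero a, fun f rf => absurd (pow_zero b) rf.neB⟩
  | succ n ih =>
    intro A B h a b r
    obtain ⟨ihsw, ihsw'⟩ := ih B A (special_symm h) b a r.symm
    by_cases hc : a ^ n = 1
    · have hb : b ^ (n + 1) = b := by rw [pow_succ, ihsw hc, one_mul]
      refine ⟨fun h1 => absurd (hb.symm.trans h1) r.neB, fun f rf => ?_⟩
      rw [hb] at rf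
      rw [rel_unique_left h.1 rf r, pow_succ, hc, one_mul]
    · obtain ⟨d, rd⟩ := exists_rel h.1 (pow_mem r.memA n) hc
      have hd : d ^ n = b := ihsw' d rd.symm
      -- the image of the point `B` under `(a ^ n * b)⁻¹`, computed twice
      have e1 : conjBy B (a ^ n * b)⁻¹ = conjBy A (d ^ (n + 1))⁻¹ := by
        rw [mul_inv_rev, ← conjBy_conjBy, ← rd.eq, conjBy_conjBy, pow_succ', mul_inv_rev, hd]
      have hq : a ^ n * b = b * (a⁻¹ * b⁻¹ ^ n * a) := by
        rw [← conj_pow_eq h r n]; group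
      have e2 : conjBy B (a ^ n * b)⁻¹ = conjBy A (a⁻¹ * b ^ (n + 1)) := by
        rw [hq, show (b * (a⁻¹ * b⁻¹ ^ n * a))⁻¹ = (a⁻¹ * b ^ n) * (a * b⁻¹) by group,
          ← conjBy_conjBy, ← conjBy_conjBy B b⁻¹, conjBy_of_mem (inv_mem r.memB)]
        have := (rel_inv h r).eq
        rw [inv_inv, inv_inv] at this
        rw [← this, conjBy_conjBy, pow_succ, mul_assoc]
      have e := e1.symm.trans e2
      constructor
      · intro hb1
        rw [hb1, mul_one, conjBy_of_mem (inv_mem r.memA)] at e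
        have hd1 : d ^ (n + 1) = 1 := inv_eq_one.mp
          (eq_one_of_normalizes' h.1 (inv_mem (pow_mem rd.memB _)) e)
        have hdb : d = b⁻¹ := by
          rw [pow_succ, hd] at hd1
          exact eq_inv_of_mul_eq_one_right hd1
        rw [hdb] at rd
        have := rel_unique_left h.1 rd (rel_inv h r)
        rw [pow_succ, this, inv_mul_cancel]
      · intro f rf
        have hv : conjBy A (d ^ (n + 1))⁻¹ = conjBy B (f⁻¹ * a)⁻¹ := by
          have rinv := (rel_inv h rf).eq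
          rw [inv_inv, inv_inv] at rinv
          rw [e, ← conjBy_conjBy, rinv, conjBy_conjBy]
          simp
        have hd1 : d ^ (n + 1) ≠ 1 := by
          intro h1
          rw [h1, inv_one, conjBy_one] at hv
          exact translate_ne h.1 (inv_mem (mul_mem (inv_mem rf.memA) r.memA)) hv.symm
        have hu1 : f⁻¹ * a ≠ 1 := by
          intro h1
          rw [h1, inv_one, conjBy_one] at hv
          exact translate_ne (RankOnePair_symm h.1) (inv_mem (pow_mem rd.memB _)) hv
        have ru : Rel A B (f⁻¹ * a) (d ^ (n + 1)) :=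
          ⟨mul_mem (inv_mem rf.memA) r.memA, hu1, pow_mem rd.memB _, hd1, hv⟩
        have := (ih A B h _ _ ru).2 f (by rwa [← pow_mul, Nat.mul_comm, pow_mul, hd])
        rw [pow_succ', this, mul_inv_cancel_left]

theorem pow_eq_one_iff (h : IsSpecialRankOnePair A B) {a b : G} (r : Rel A B a b) (n : ℕ) :
    b ^ n = 1 ↔ a ^ n = 1 :=
  ⟨(pow_aux n A B h a b r).1, (pow_aux n B A (special_symm h) b a r.symm).1⟩

theorem pow_partner (h : IsSpecialRankOnePair A B) {a b d : G} (r : Rel A B a b) {n : ℕ}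
    (rd : Rel A B (a ^ n) d) : d ^ n = b :=
  (pow_aux n B A (special_symm h) b a r.symm).2 d rd.symm

theorem exists_root (h : IsSpecialRankOnePair A B) {a : G} (ha : a ∈ A) {n : ℕ}
    (hn : a ^ n ≠ 1) : ∃ c ∈ A, c ^ n = a := by
  obtain ⟨b, r⟩ := exists_rel h.1 ha fun h1 => hn (by rw [h1, one_pow])
  obtain ⟨f, rf⟩ := exists_rel' h.1 (pow_mem r.memB n) fun e => hn ((pow_eq_one_iff h r n).mp e)
  exact ⟨f, rf.memA, (pow_aux n A B h a b r).2 f rf⟩

theorem pow_injective_of_ne (h : IsSpecialRankOnePair A B) {x y : G} (hx : x ∈ A) (hy : y ∈ A)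
    {n : ℕ} (e : x ^ n = y ^ n) (hn : x ^ n ≠ 1) : x = y := by
  obtain ⟨b, r⟩ := exists_rel h.1 hx fun h1 => hn (by rw [h1, one_pow])
  obtain ⟨b', r'⟩ := exists_rel h.1 hy fun h1 => hn (by rw [e, h1, one_pow])
  obtain ⟨d, rd⟩ := exists_rel h.1 (pow_mem hx n) hn
  have h1 := pow_partner h r rd
  have h2 := pow_partner h r' (e ▸ rd)
  rw [← h1.symm.trans h2] at r'
  exact rel_unique_left h.1 r r'

theorem elementary_or_divisible (h : IsSpecialRankOnePair A B) (hA : IsMulCommutative A) :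
    (∃ p : ℕ, p.Prime ∧ IsMulCommutative A ∧ ∀ a ∈ A, a ^ p = 1) ∨
    ((∀ a ∈ A, a ≠ 1 → ¬ IsOfFinOrder a) ∧
      ∀ a ∈ A, ∀ n : ℕ, 0 < n → ∃ c ∈ A, c ^ n = a) := by
  by_cases htf : ∀ a ∈ A, a ≠ 1 → ¬ IsOfFinOrder a
  · refine Or.inr ⟨htf, fun a ha n hn => ?_⟩
    by_cases ha1 : a = 1
    · exact ⟨1, one_mem _, by simp [ha1]⟩
    · exact exists_root h ha fun e => htf a ha ha1 (isOfFinOrder_iff_pow_eq_one.mpr ⟨n, hn, e⟩)
  · push Not at htf
    obtain ⟨a, ha, ha1, hfin⟩ := htf
    have hne : orderOf a ≠ 1 := fun e => ha1 (orderOf_eq_one_iff.mp e)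
    obtain ⟨p, hp, hpd⟩ := Nat.exists_prime_and_dvd hne
    refine Or.inl ⟨p, hp, hA, fun y hy => ?_⟩
    by_contra hyp
    obtain ⟨m, hm⟩ := hpd
    have hm0 : 0 < m := by
      rcases Nat.eq_zero_or_pos m with rfl | h0
      · exact absurd (by simpa using hm) (orderOf_pos_iff.mpr hfin).ne'
      · exact h0
    have hx : (a ^ m) ^ p = 1 := by rw [← pow_mul, mul_comm, ← hm, pow_orderOf_eq_one]
    have hcomm : Commute y (a ^ m) :=
      congrArg Subtype.val (hA.is_comm.comm (⟨y, hy⟩ : A) ⟨a ^ m, pow_mem ha m⟩)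
    have hxy : (y * a ^ m) ^ p = y ^ p := by rw [hcomm.mul_pow, hx, mul_one]
    have := pow_injective_of_ne h (mul_mem hy (pow_mem ha m)) hy hxy (hxy ▸ hyp)
    have : a ^ m = 1 := by simpa using this
    have := Nat.le_of_dvd hm0 (orderOf_dvd_of_pow_eq_one this)
    have := hp.two_le
    nlinarith

/-- A rank one group with a module on which both members act quadratically, but not the whole
group, is special. -/
theorem special_of_quadratic {A B : Subgroup G} (hgen : A ⊔ B = ⊤) (h : IsRankOnePair A B)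
    {N : Type*} [AddCommGroup N] [DistribMulAction G N]
    (hq : ∀ a ∈ A, ∀ a' ∈ A, ∀ n : N, a' • (a • n - n) = a • n - n)
    (hX : ∃ x y : G, ∃ n : N, y • (x • n - n) ≠ x • n - n) : IsSpecialRankOnePair A B := by
  obtain ⟨x, -, hx⟩ := exists_swap_left h
  have hqB : ∀ b ∈ B, ∀ b' ∈ B, ∀ n : N, b' • (b • n - n) = b • n - n := by
    intro b hb b' hb' n
    rw [← hx] at hb hb'
    obtain ⟨a, ha, rfl⟩ := hb
    obtain ⟨a', ha', rfl⟩ := hb'
    simp only [MulEquiv.coe_toMonoidHom, MulAut.conj_apply, mul_smul]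
    have e : x • a • x⁻¹ • n - n = x • (a • (x⁻¹ • n) - x⁻¹ • n) := by
      rw [smul_sub x, smul_inv_smul]
    rw [e, inv_smul_smul, hq a ha a' ha']
  have fixed : ∀ z : N, (∀ a ∈ A, a • z = z) → (∀ b ∈ B, b • z = z) → ∀ g : G, g • z = z := by
    intro z h1 h2 g
    have : A ⊔ B ≤ MulAction.stabilizer G z :=
      sup_le (fun a ha => h1 a ha) (fun b hb => h2 b hb)
    exact this (by rw [hgen]; trivial)
  let K : Subgroup G :=
    { carrier := {g | ∀ n : N, ∀ y : G, y • (g • n - n) = g • n - n}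
      one_mem' := by intro n y; simp
      mul_mem' := by
        intro g k hg hk n y
        have e : (g * k) • n - n = (k • n - n) + (g • n - n) := by
          rw [mul_smul]
          conv_lhs => rw [show g • k • n - n = g • (k • n - n) + (g • n - n) by
            rw [smul_sub]; abel]
          rw [hk n g]
        rw [e, smul_add, hg n y, hk n y]
      inv_mem' := by
        intro g hg n y
        have := hg (g⁻¹ • n) y
        rw [smul_inv_smul] at this
        rw [← neg_sub n (g⁻¹ • n), smul_neg, this] }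
  have hKnorm : ∀ y : G, ∀ k ∈ K, y * k * y⁻¹ ∈ K := by
    intro y k hk n z
    have e : (y * k * y⁻¹) • n - n = k • (y⁻¹ • n) - y⁻¹ • n := by
      rw [mul_smul, mul_smul]
      conv_lhs => rw [show y • k • y⁻¹ • n - n = y • (k • (y⁻¹ • n) - y⁻¹ • n) by
        rw [smul_sub y (k • y⁻¹ • n), smul_inv_smul]]
      exact hk _ y
    rw [e, hk _ z]
  have hKc : ∀ k ∈ K, ∀ y : G, k * y = y * k := by
    rcases central_or_supplement h (N := K) (by rw [hgen]; exact le_top)
      (fun y _ => hKnorm y) with hc | hsup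
    · exact fun k hk y => hc k hk y (by rw [hgen]; trivial)
    · exfalso
      have : K.Normal := ⟨fun k hk y => hKnorm y k hk⟩
      have hBK : B ≤ K := by
        intro b hb n
        have hb' : b ∈ K ⊔ A := by rw [hsup]; exact Subgroup.mem_sup_right hb
        rw [← SetLike.mem_coe, Subgroup.normal_mul] at hb'
        obtain ⟨k, hk, a, ha, rfl⟩ := hb'
        apply fixed
        · intro a' ha'
          have e : (k * a) • n - n =
              (k • (a • n - n) - (a • n - n)) + ((a • n - n) + (k • n - n)) := by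
            rw [mul_smul, smul_sub k]; abel
          simp only [e, smul_add]
          rw [hk (a • n - n) a', hq a ha a' ha', hk n a']
        · intro b' hb'
          exact hqB _ hb b' hb' n
      have hAK : A ≤ K := by
        obtain ⟨y, -, hy⟩ := exists_swap_left h
        intro a ha
        rw [conjBy_eq_iff.mp hy] at ha
        obtain ⟨b, hb, rfl⟩ := ha
        simpa using hKnorm y⁻¹ b (hBK hb)
      obtain ⟨u, v, n, hne⟩ := hX
      have hu : u ∈ A ⊔ B := by rw [hgen]; trivial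
      exact hne (sup_le hAK hBK hu n v)
  refine ⟨h, fun a ha ha1 b hb hb1 e => ?_⟩
  let fA : N → N := fun n => a • n - n
  let fB : N → N := fun n => b • n - n
  have hα : ∀ n, a • n = n + fA n := fun n => (add_sub_cancel n (a • n)).symm
  have hβ : ∀ n, b • n = n + fB n := fun n => (add_sub_cancel n (b • n)).symm
  have hαadd : ∀ m n, fA (m + n) = fA m + fA n := fun m n => by
    simp only [fA, smul_add]; abel
  have hβadd : ∀ m n, fB (m + n) = fB m + fB n := fun m n => by
    simp only [fB, smul_add]; abel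
  have hαα : ∀ n, fA (fA n) = 0 := fun n => sub_eq_zero.mpr (hq a ha a ha n)
  have hββ : ∀ n, fB (fB n) = 0 := fun n => sub_eq_zero.mpr (hqB b hb b hb n)
  have hai : ∀ n, a⁻¹ • n = n - fA n := fun n => by
    rw [inv_smul_eq_iff, smul_sub, hα n, show a • fA n = fA n from hq a ha a ha n]; abel
  have hbi : ∀ n, b⁻¹ • n = n - fB n := fun n => by
    rw [inv_smul_eq_iff, smul_sub, hβ n, show b • fB n = fB n from hqB b hb b hb n]; abel
  have key : ∀ v u : N, (∀ a' ∈ A, a' • v = v) → (∀ b' ∈ B, b' • u = u) →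
      b⁻¹ • v = a⁻¹ • u →
      (∀ g : G, g • (v - fA (fB v)) = v - fA (fB v)) ∧
        ∀ g : G, g • (u - fB (fA u)) = u - fB (fA u) := by
    intro v u hv hu huv
    rw [hbi, hai] at huv
    have hz : v + fA u = u + fB v := by
      rw [sub_eq_sub_iff_add_eq_add] at huv; exact huv
    have hzfix : ∀ g : G, g • (v + fA u) = v + fA u := by
      apply fixed
      · intro a' ha'; rw [smul_add, hv a' ha', show a' • fA u = fA u from hq a ha a' ha' u]
      · intro b' hb'
        rw [hz, smul_add, hu b' hb', show b' • fB v = fB v from hqB b hb b' hb' v]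
    have hαv : fA v = 0 := sub_eq_zero.mpr (hv a ha)
    have hβu : fB u = 0 := sub_eq_zero.mpr (hu b hb)
    have h1 : fA u + fA (fB v) = 0 := by
      rw [← hαadd, ← hz, hαadd, hαv, hαα, add_zero]
    have h2 : fB v + fB (fA u) = 0 := by
      rw [← hβadd, hz, hβadd, hβu, hββ, add_zero]
    constructor
    · rw [show v - fA (fB v) = v + fA u by
        rw [eq_neg_of_add_eq_zero_right h1]; abel]
      exact hzfix
    · rw [show u - fB (fA u) = v + fA u by
        rw [hz, eq_neg_of_add_eq_zero_right h2]; abel]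
      exact hzfix
  have hU : ∀ n, ∀ g : G, g • (fA n - fA (fB (fA n))) = fA n - fA (fB (fA n)) := by
    intro n
    have hm : b⁻¹ * a * b ∈ conjBy B a⁻¹ := by
      rw [← e, mem_conjBy]; simpa [mul_assoc] using ha
    obtain ⟨b', hb', hbe⟩ := hm
    refine (key (fA n) (b' • (a • b⁻¹ • n) - a • b⁻¹ • n) (fun a' ha' => hq a ha a' ha' n)
      (fun b'' hb'' => hqB b' hb' b'' hb'' _) ?_).1
    have hbe' : a⁻¹ * b' * a = b⁻¹ * a * b := by simpa using hbe
    have h1 := congrArg (fun g : G => g • (b⁻¹ • n)) hbe'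
    simp only [mul_smul, smul_inv_smul] at h1
    simp only [fA, smul_sub, inv_smul_smul, h1]
  have hV : ∀ n, ∀ g : G, g • (fB n - fB (fA (fB n))) = fB n - fB (fA (fB n)) := by
    intro n
    have hm : a⁻¹ * b * a ∈ conjBy A b⁻¹ := by
      rw [e, mem_conjBy]; simpa [mul_assoc] using hb
    obtain ⟨a', ha', hae⟩ := hm
    refine (key (a' • (b • a⁻¹ • n) - b • a⁻¹ • n) (fB n) (fun a'' ha'' => hq a' ha' a'' ha'' _)
      (fun b' hb' => hqB b hb b' hb' n) ?_).2
    have hae' : b⁻¹ * a' * b = a⁻¹ * b * a := by simpa using hae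
    have h1 := congrArg (fun g : G => g • (a⁻¹ • n)) hae'
    simp only [mul_smul, smul_inv_smul] at h1
    simp only [fB, smul_sub, inv_smul_smul, h1]
  have hmem : (a⁻¹ * b⁻¹ * a)⁻¹ * (b⁻¹ * a * b) ∈ conjBy A b⁻¹ := by
    refine mul_mem (inv_mem ?_) ?_
    · rw [e, mem_conjBy]; simpa [mul_assoc] using hb
    · rw [mem_conjBy]; simpa [mul_assoc] using ha
  have hK : (a⁻¹ * b⁻¹ * a)⁻¹ * (b⁻¹ * a * b) ∈ K := by
    intro n g
    have hd : (b⁻¹ * a * b) • n = (a⁻¹ * b⁻¹ * a) • n +
        ((fA n - fA (fB (fA n))) + (fB n - fB (fA (fB n)))) := by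
      simp only [mul_smul]
      rw [hβ n, hα (n + fB n), hbi (n + fB n + fA (n + fB n)),
        hα n, hbi (n + fA n), hai (n + fA n - fB (n + fA n))]
      have hα0 : ∀ m n, fA (m - n) = fA m - fA n := fun m n => by
        simp only [fA, smul_sub]; abel
      simp only [hαadd, hβadd, hα0, hαα, hββ]
      abel
    have hfix : ∀ g : G, g • ((fA n - fA (fB (fA n))) + (fB n - fB (fA (fB n)))) =
        (fA n - fA (fB (fA n))) + (fB n - fB (fA (fB n))) := fun g => by
      rw [smul_add, hU n g, hV n g]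
    rw [mul_smul, hd, smul_add, inv_smul_smul, add_sub_cancel_left, hfix, hfix]
  have h1 : (a⁻¹ * b⁻¹ * a)⁻¹ * (b⁻¹ * a * b) = 1 := by
    refine eq_one_of_fix_point h
      (conjBy_mem_unipotent (by rw [hgen]; trivial) (left_mem A B)) (left_mem A B)
      (fun h1 => hb1 (inv_eq_one.mp (eq_one_of_normalizes' h (inv_mem hb) h1))) hmem
      (conjBy_of_comm fun a' _ => hKc _ hK a')
  exact (inv_mul_eq_one.mp h1).symm

end RankOne

end Cfsg.Agent.Lib.RootSubgroups
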