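import Cfsg.Agent.Lib.RootSubgroups.NonDegenerate

/-! Inclusions between `C_S(A)` and between `Ω_A` (Timmesfeld, II.3). -/

namespace Cfsg.Agent.Lib.RootSubgroups.Root

open Cfsg
open scoped commutatorElement

variable {G : Type*} [Group G] {S : Set (Subgroup G)} {A B C D E F : Subgroup G}

theorem le_centralizer_iff_comm {X U : Subgroup G} :
    X ≤ Subgroup.centralizer (U : Set G) ↔ ⁅U, X⁆ = ⊥ := by
  rw [commutator_comm_eq_bot, Subgroup.commutator_eq_bot_iff_le_centralizer]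

theorem rankOne_not_commute (hAB : IsRankOnePair A B) : ⁅A, B⁆ ≠ ⊥ := RankOne.not_commute hAB

/-- The shift contradiction: `C` centralizes `G₀ = ⁅B, A⁆`, so it cannot be a partner of `B`. -/
theorem no_partner_of_commutator (hS : IsRootSubgroupSet S) (hA : A ∈ S) (hB : B ∈ S) (hC : C ∈ S)
    (hBC : IsRankOnePair B C) (hr : RootCommutatorCase S B A) (hc : ⁅⁅B, A⁆, C⁆ = ⊥) : False := by
  obtain ⟨b, hb, hb1⟩ := exists_ne_one (hS.ne_bot B hB)
  obtain ⟨a, ha, ha1⟩ := exists_ne_one (hS.ne_bot A hA)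
  have hm : ⁅a, b⁆ ∈ ⁅B, A⁆ := by
    rw [Subgroup.commutator_comm]; exact Subgroup.commutator_mem_commutator ha hb
  have h1 : ⁅a, b⁆ = 1 := eq_one_of_central_shift hS hC hBC (hS.conj_mem B hB a) hb hb1
    (fun x hx => hr.2.1 _ hm x (Subgroup.mem_sup_left hx))
    (fun x hx => comm_of_commutator_eq_bot hc hm hx)
    (by rw [commutatorElement_def, inv_mul_cancel_right]; exact conj_mem_conjBy hb)
  refine commutatorElement_ne_one hS hB ⟨C, hC, hBC⟩ hr hb hb1 ha ha1 ?_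
  rw [← commutatorElement_inv, h1, inv_one]

theorem degenerate_centralizing (hS : IsRootSubgroupSet S) (hdeg : IsDegenerateRootSet S)
    (hA : A ∈ S) (hC : C ∈ S) (hpC : HasPartner S C) (hAC : ⁅A, C⁆ = ⊥)
    (hsub : ∀ X ∈ S, ⁅A, X⁆ = ⊥ → ⁅C, X⁆ = ⊥) : ∀ X ∈ S, ⁅C, X⁆ = ⊥ → ⁅A, X⁆ = ⊥ := by
  intro B hB hCB
  by_contra hne
  have cases : ∀ X ∈ S, ∀ Y ∈ S, ⁅X, Y⁆ ≠ ⊥ → IsRankOnePair X Y := fun X hX Y hY h =>
    ((hS.pair X hX Y hY).resolve_left h).resolve_right (hdeg X hX Y hY)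
  have hAB : IsRankOnePair A B := cases A hA B hB hne
  obtain ⟨E, hE, hCE⟩ := hpC
  have hEC := RankOnePair_symm hCE
  obtain ⟨c, hc, hc1⟩ := exists_ne_one (RankOne.left_ne_bot hCE)
  have hcY : ∀ y ∈ A ⊔ B, c * y = y * c := comm_sup
    (fun a ha => (comm_of_commutator_eq_bot hAC ha hc).symm)
    (fun b hb => comm_of_commutator_eq_bot hCB hc hb)
  have hCY : ∀ y ∈ A ⊔ B, conjBy C y = C := fun y hy => conjBy_of_comm fun z hz =>
    ((comm_sup (z := z) (fun a ha => (comm_of_commutator_eq_bot hAC ha hz).symm)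
      (fun b hb => comm_of_commutator_eq_bot hCB hz hb)) y hy).symm
  -- every point of `⟨A, B⟩` has the same property as `A`
  have prop : ∀ F ∈ unipotentSubgroups A B, F ∈ S ∧ ⁅F, C⁆ = ⊥ ∧
      ∀ X ∈ S, ⁅F, X⁆ = ⊥ → ⁅C, X⁆ = ⊥ := by
    rintro _ ⟨y, hy, rfl⟩
    refine ⟨hS.conj_mem A hA y, ?_, fun X hX h => ?_⟩
    · rw [← hCY y hy, ← conjBy_commutator, hAC, conjBy_bot]
    · have h1 : ⁅A, conjBy X y⁻¹⁆ = ⊥ := by
        rw [← conjBy_inv_cancel A y, ← conjBy_commutator, h, conjBy_bot]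
      have h2 := hsub _ (hS.conj_mem X hX y⁻¹) h1
      rw [← hCY y⁻¹ (inv_mem hy), ← conjBy_commutator, conjBy_eq_bot_iff] at h2
      exact h2
  have hEF : ∀ F ∈ unipotentSubgroups A B, IsRankOnePair F E := fun F hF =>
    cases F (prop F hF).1 E hE fun h => RankOne.not_commute hCE ((prop F hF).2.2 E hE h)
  obtain ⟨ε, hε, he⟩ := RankOne.eq_translate hEC
    (by rw [RankOne.unipotent_symm hCE]
        exact RankOne.conjBy_mem_unipotent (Subgroup.mem_sup_left hc) (RankOne.right_mem hCE))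
    (fun e => hc1 (RankOne.eq_one_of_normalizes hCE hc e))
  have hε1 : ε ≠ 1 := by
    intro h1; rw [h1, conjBy_one] at he; exact RankOne.translate_ne hCE hc he
  -- the translates of `E`
  have step : ∀ F ∈ unipotentSubgroups A B, ∃ f ∈ F, f ≠ 1 ∧
      ⁅E, conjBy E (c * f⁻¹)⁆ = ⊥ ∧
      (∀ X ∈ S, ⁅E, X⁆ = ⊥ → ⁅conjBy E (c * f⁻¹), X⁆ = ⊥) := by
    intro F hF
    obtain ⟨hFS, hFC, hFsub⟩ := prop F hF
    obtain ⟨f, hf, hfe⟩ := RankOne.eq_translate (hEF F hF)
      (RankOne.conjBy_mem_unipotent (Subgroup.mem_sup_right hε) (RankOne.left_mem F E))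
      (fun e => hε1 (RankOne.eq_one_of_normalizes' (hEF F hF) hε e))
    have hf1 : f ≠ 1 := by
      intro h1
      rw [h1, conjBy_one] at hfe
      exact (hEF F hF).ne (conjBy_inj (hfe.trans (conjBy_of_mem hε).symm))
    have hcf : c * f⁻¹ = f⁻¹ * c := hcY f⁻¹ (inv_mem (RankOne.le_of_mem hF hf))
    have main : ∀ X ∈ S, ⁅E, X⁆ = ⊥ → ⁅conjBy E (c * f⁻¹), X⁆ = ⊥ := by
      intro X hX h
      have h1 : ⁅F, conjBy X (ε⁻¹ * f)⁆ = ⊥ := by
        rw [← conjBy_conjBy, ← conjBy_inv_cancel F ε, hfe, ← conjBy_commutator,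
          ← conjBy_commutator, h, conjBy_bot, conjBy_bot]
      have h2 := hFsub _ (hS.conj_mem X hX _) h1
      have h3 : ⁅conjBy E c, conjBy X f⁆ = ⊥ := by
        rw [he, ← conjBy_cancel (conjBy X f) ε, conjBy_conjBy X, conjBy_conjBy _ _ ε,
          ← conjBy_conjBy X (ε⁻¹ * f) ε, ← conjBy_commutator, h2, conjBy_bot]
      have h4 : ⁅conjBy (conjBy E c) f⁻¹, X⁆ = ⊥ := by
        rw [← conjBy_inv_cancel X f, ← conjBy_commutator, h3, conjBy_bot]
      rwa [conjBy_conjBy, ← hcf] at h4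
    refine ⟨f, hf, hf1, ?_, main⟩
    have h1 : ⁅conjBy E f, conjBy E c⁆ = ⊥ := by
      rw [he, ← hfe, ← conjBy_commutator, hFC, conjBy_bot]
    have h2 : ⁅E, conjBy (conjBy E c) f⁻¹⁆ = ⊥ := by
      rw [show ⁅E, conjBy (conjBy E c) f⁻¹⁆ = conjBy ⁅conjBy E f, conjBy E c⁆ f⁻¹ by
        rw [conjBy_commutator, conjBy_inv_cancel], h1, conjBy_bot]
    rwa [conjBy_conjBy, ← hcf] at h2
  obtain ⟨a, ha, ha1, -, hPA⟩ := step A (RankOne.left_mem A B)
  obtain ⟨b, hb, hb1, hPB, -⟩ := step B (RankOne.right_mem hAB)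
  have hcomm : ⁅conjBy E a⁻¹, conjBy E b⁻¹⁆ = ⊥ := by
    have h := hPA _ (hS.conj_mem E hE _) hPB
    rw [← conjBy_conjBy, ← conjBy_conjBy, ← conjBy_commutator, conjBy_eq_bot_iff] at h
    exact h
  have hEA := RankOnePair_symm (hEF A (RankOne.left_mem A B))
  have hEB := RankOnePair_symm (hEF B (RankOne.right_mem hAB))
  obtain ⟨δ, hδ, eA⟩ := RankOne.eq_translate hEA
    (RankOne.conjBy_mem_unipotent (Subgroup.mem_sup_right (inv_mem ha)) (RankOne.left_mem E A))
    (fun e => ha1 (inv_eq_one.mp (RankOne.eq_one_of_normalizes' hEA (inv_mem ha) e)))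
  obtain ⟨δ', hδ', eB⟩ := RankOne.eq_translate hEB
    (RankOne.conjBy_mem_unipotent (Subgroup.mem_sup_right (inv_mem hb)) (RankOne.left_mem E B))
    (fun e => hb1 (inv_eq_one.mp (RankOne.eq_one_of_normalizes' hEB (inv_mem hb) e)))
  rw [eA, eB] at hcomm
  have hη : ⁅A, conjBy B (δ⁻¹ * δ')⁆ = ⊥ := by
    conv_lhs => rw [← conjBy_inv_cancel A δ, ← conjBy_conjBy]
    rw [← conjBy_commutator, hcomm, conjBy_bot]
  set η := δ⁻¹ * δ'
  have hηE : η ∈ E := mul_mem (inv_mem hδ) hδ'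
  have hη1 : η ≠ 1 := by
    intro h1; rw [h1, conjBy_one] at hη; exact hne hη
  have h1 := hsub _ (hS.conj_mem B hB η) hη
  have h2 : ⁅conjBy C η⁻¹, B⁆ = ⊥ := by
    rw [← conjBy_inv_cancel B η, ← conjBy_commutator, h1, conjBy_bot]
  obtain ⟨c₂, hc₂, e₂⟩ := RankOne.eq_translate hCE
    (RankOne.conjBy_mem_unipotent (Subgroup.mem_sup_right (inv_mem hηE)) (RankOne.left_mem C E))
    (fun e => hη1 (inv_eq_one.mp (RankOne.eq_one_of_normalizes' hCE (inv_mem hηE) e)))
  rw [e₂] at h2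
  have h3 : ⁅E, B⁆ = ⊥ := by
    have hBc : conjBy B c₂⁻¹ = B := conjBy_of_comm fun x hx =>
      comm_of_commutator_eq_bot hCB (inv_mem hc₂) hx
    rw [← conjBy_inv_cancel E c₂, ← hBc, ← conjBy_commutator, h2, conjBy_bot]
  exact RankOne.not_commute hEB h3

theorem nondegenerate_centralizing (hS : IsRootSubgroupClass S) (hnd : IsNondegenerateRootSet S)
    (hA : A ∈ S) (hC : C ∈ S) (hne : A ≠ C)
    (hsub : ∀ X ∈ S, ⁅A, X⁆ = ⊥ → ⁅C, X⁆ = ⊥) : ∀ X ∈ S, ⁅C, X⁆ = ⊥ → ⁅A, X⁆ = ⊥ := by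
  intro Q hQ hCQ
  by_contra hAQ
  have hp : ∀ X ∈ S, HasPartner S X := fun X hX => hasPartner_of_class hS hnd hX
  obtain ⟨P, hP, hCP⟩ := hp C hC
  have hAC : ⁅A, C⁆ = ⊥ := commutator_comm_eq_bot.mp
    (hsub A hA (commutator_eq_bot_of_comm fun a ha a' ha' => comm_self hS.1 hA ha ha'))
  -- `C` is not central
  have notTop : ∀ B ∈ S, IsRankOnePair A B → ⁅C, B⁆ ≠ ⊥ := by
    intro B hB hAB hCB
    apply RankOne.not_commute hCP
    rw [Subgroup.commutator_eq_bot_iff_le_centralizer]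
    have hle : (⊤ : Subgroup G) ≤ Subgroup.centralizer (C : Set G) := by
      rw [← generated_line_partner hS hnd hA hB hAB]
      exact sup_le (iSup₂_le fun X hX => le_centralizer_iff_comm.mpr (hsub X hX.1.1 hX.1.2.2))
        (le_centralizer_iff_comm.mpr hCB)
    rw [Subgroup.le_centralizer_iff]
    exact le_trans le_top hle
  have hr : RootCommutatorCase S A Q := by
    rcases hS.1.pair A hA Q hQ with h | h | h
    · exact absurd h hAQ
    · exact absurd hCQ (notTop Q hQ h)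
    · exact h
  obtain ⟨T, hT, hrT, hTe⟩ := exists_centre_mover hS.1 hA (hp A hA) hr (hp _ hr.1)
  have hAT : ⁅A, T⁆ = ⊥ := commutator_eq_bot_of_comm fun x hx t ht =>
    hrT.2.1 x (by rw [hTe]; exact hx) t (Subgroup.mem_sup_right ht)
  have hCT := hsub T hT hAT
  -- members of the line of `A` and `Q` inherit the property
  have conjprop : ∀ g, conjBy C g = C → ∀ X ∈ S, ⁅conjBy A g, X⁆ = ⊥ → ⁅C, X⁆ = ⊥ := by
    intro g hg X hX h
    have h1 : ⁅A, conjBy X g⁻¹⁆ = ⊥ := by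
      rw [← conjBy_inv_cancel A g, ← conjBy_commutator, h, conjBy_bot]
    have h2 := congrArg (fun Y => conjBy Y g) (hsub _ (hS.1.conj_mem X hX _) h1)
    simp only [conjBy_commutator, conjBy_bot, hg, conjBy_cancel] at h2
    exact h2
  have fixC : ∀ R : Subgroup G, ⁅C, R⁆ = ⊥ → ∀ r ∈ R, conjBy C r = C := fun R h r hr =>
    conjBy_of_comm fun x hx => (comm_of_commutator_eq_bot h hx hr).symm
  have lineprop : ∀ F ∈ membersIn S (A ⊔ ⁅A, Q⁆), ∀ X ∈ S, ⁅F, X⁆ = ⊥ → ⁅C, X⁆ = ⊥ := by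
    intro F hF
    have hF' := hF
    rw [membersIn_line hS.1 hA (hp A hA) hr] at hF
    rcases hF with ⟨q, hq, rfl⟩ | hFL
    · exact conjprop q (fixC Q hCQ q hq)
    · rw [Set.mem_singleton_iff] at hFL
      obtain ⟨t, ht, ht1⟩ := exists_ne_one (hS.1.ne_bot T hT)
      have hm : conjBy ⁅A, Q⁆ t ∈ membersIn S (A ⊔ ⁅A, Q⁆) := by
        refine ⟨hS.1.conj_mem _ hr.1 t, ?_⟩
        have := conjBy_le_line hrT ht
        rwa [hTe, sup_comm] at this
      rw [membersIn_line hS.1 hA (hp A hA) hr] at hm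
      obtain ⟨q, hq, e⟩ := hm.resolve_right fun e =>
        conjBy_ne_self hS.1 hr.1 (hp _ hr.1) hrT ht ht1 (Set.mem_singleton_iff.mp e)
      simp only at e
      rw [hFL, ← conjBy_inv_cancel ⁅A, Q⁆ t, ← e, conjBy_conjBy]
      refine conjprop _ ?_
      rw [← conjBy_conjBy, fixC Q hCQ q hq, fixC T hCT _ (inv_mem ht)]
  -- every partner of `A` is in the commutator case with `C`
  have notC : ∀ B ∈ S, IsRankOnePair A B → ¬ IsRankOnePair C B := by
    intro B hB hAB hCB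
    obtain ⟨F, hF, hq, hq', heq, hline, -⟩ := line_structure hS.1 hA hB hAB
      (mem_linePartners' hS.1 hA (hp A hA) hr)
    have hFm : F ∈ membersIn S (A ⊔ ⁅A, Q⁆) := ⟨hF, by rw [hline]; exact le_sup_right⟩
    have hD : ⁅C, ⁅F, B⁆⁆ = ⊥ := lineprop F hFm _ hq.1
      (commutator_eq_bot_of_comm fun f hf d hd =>
        (hq.2.1 d hd f (Subgroup.mem_sup_left hf)).symm)
    refine no_partner_of_commutator hS.1 hF hB hC (RankOnePair_symm hCB) (rcc_symm hq) ?_
    rw [Subgroup.commutator_comm B F, commutator_comm_eq_bot]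
    exact hD
  -- but partners of `C` are partners of `A`
  have hPA : IsRankOnePair A P := by
    rcases hS.1.pair A hA P hP with h | h | h
    · exact absurd (hsub P hP h) (RankOne.not_commute hCP)
    · exact h
    · refine (no_partner_of_commutator hS.1 hA hP hC (RankOnePair_symm hCP) (rcc_symm h) ?_).elim
      rw [Subgroup.commutator_comm P A, commutator_comm_eq_bot]
      exact hsub _ h.1 (commutator_eq_bot_of_comm fun a ha g hg =>
        (h.2.1 g hg a (Subgroup.mem_sup_left ha)).symm)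
  exact notC P hP hPA hCP

/-- Second part: the partners. -/
theorem nondegenerate_partners_commute (hS : IsRootSubgroupClass S) (hnd : IsNondegenerateRootSet S)
    (hA : A ∈ S) (hC : C ∈ S)
    (hsub : ∀ X ∈ S, IsRankOnePair A X → IsRankOnePair C X) : ⁅A, C⁆ = ⊥ := by
  have hp : ∀ X ∈ S, HasPartner S X := fun X hX => hasPartner_of_class hS hnd hX
  rcases hS.1.pair A hA C hC with h | h | h
  · exact h
  · exact absurd rfl (hsub C hC h).ne
  exfalso
  obtain ⟨B, hB, hAB⟩ := hp A hA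
  have hcs : ∀ B ∈ S, IsRankOnePair A B → RootCommutatorCase S ⁅A, C⁆ B := by
    intro B hB hAB
    have hl : ⁅C, A⁆ ∈ linePartners S C := mem_linePartners' hS.1 hC (hp C hC) (rcc_symm h)
    obtain ⟨F, hF, hq, -, -, hline, -⟩ := line_structure hS.1 hC hB (hsub B hB hAB) hl
    have hFm : F ∈ membersIn S (C ⊔ ⁅C, A⁆) := ⟨hF, by rw [hline]; exact le_sup_right⟩
    rw [membersIn_line hS.1 hC (hp C hC) (rcc_symm h)] at hFm
    rcases hFm with ⟨a, ha, rfl⟩ | hFm
    · refine absurd hq (not_commutatorCase hS.1 hB ?_)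
      have h1 := hsub (conjBy B a⁻¹) (hS.1.conj_mem B hB _) (by
        have := RankOne.conj hAB a⁻¹
        rwa [conjBy_of_mem (inv_mem ha)] at this)
      have h2 := RankOne.conj h1 a
      rwa [conjBy_cancel] at h2
    · rw [Subgroup.commutator_comm A C, ← Set.mem_singleton_iff.mp hFm]; exact hq
  obtain ⟨T, hT, hrT, hTe⟩ := exists_centre_mover hS.1 hA (hp A hA) h (hp _ h.1)
  obtain ⟨t, ht, ht1⟩ := exists_ne_one (hS.1.ne_bot T hT)
  have hAt : conjBy A t = A := conjBy_of_comm fun a ha =>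
    (hrT.2.1 a (by rw [hTe]; exact ha) t (Subgroup.mem_sup_right ht)).symm
  have hB' : IsRankOnePair A (conjBy B t⁻¹) := by
    have := RankOne.conj hAB t⁻¹
    rwa [← conjBy_eq_iff.mp hAt] at this
  have h1 := hcs _ (hS.1.conj_mem B hB _) hB'
  -- `⁅A,C⁆^t` is another member of the line in the commutator case with `B`
  have hm : conjBy ⁅A, C⁆ t ∈ membersIn S (A ⊔ ⁅A, C⁆) := by
    refine ⟨hS.1.conj_mem _ h.1 t, ?_⟩
    have := conjBy_le_line hrT ht
    rwa [hTe, sup_comm] at this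
  have h2 : RootCommutatorCase S (conjBy ⁅A, C⁆ t) B := by
    refine rcc_of_commutator_mem hS.1 hm.1 hB ?_
    rw [← conjBy_cancel B t, ← conjBy_commutator]
    exact hS.1.conj_mem _ h1.1 t
  obtain ⟨F, hF, hq, hq', heq, hline, -⟩ := line_structure hS.1 hA hB hAB
    (mem_linePartners' hS.1 hA (hp A hA) h)
  have only : ∀ M ∈ membersIn S (A ⊔ ⁅A, C⁆), RootCommutatorCase S M B → M = F := by
    intro M hM hMB
    rw [hline, ← heq, membersIn_line hS.1 hA (hp A hA) hq', heq] at hM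
    rcases hM with ⟨d, hd, rfl⟩ | hM
    · exact absurd hMB (not_commutatorCase hS.1 hB (line_member_rankOne hAB hq hd))
    · exact Set.mem_singleton_iff.mp hM
  exact conjBy_ne_self hS.1 h.1 (hp _ h.1) hrT ht ht1
    ((only _ hm h2).trans (only _ ⟨h.1, le_sup_right⟩ (hcs B hB hAB)).symm)

theorem nondegenerate_line_commute (hS : IsRootSubgroupClass S) (hnd : IsNondegenerateRootSet S)
    (hA : A ∈ S) (hC : C ∈ S) (hsub : ∀ X ∈ S, IsRankOnePair A X → IsRankOnePair C X)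
    (hAC : ⁅A, C⁆ = ⊥) {R : Subgroup G} (hR : R ∈ linePartners S A) : ⁅C, R⁆ = ⊥ := by
  have hp : ∀ X ∈ S, HasPartner S X := fun X hX => hasPartner_of_class hS hnd hX
  obtain ⟨⟨hRS, hRA, hcAR⟩, hpart⟩ := id hR
  have hroot : ∀ r ∈ R, r ≠ 1 → ∀ a ∈ A,
      ∃ F₁ ∈ S, r * a ∈ F₁ ∧ ∀ x ∈ F₁, r * x = x * r := by
    intro r hr hr1 a ha
    have hne : r * a ≠ 1 := fun e => hRA (eq_of_meet hS.1 hA hRS (hp A hA) (inv_mem ha)
      (by rw [← eq_inv_of_mul_eq_one_left e]; exact hr)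
      (fun e' => hr1 (by rw [eq_inv_of_mul_eq_one_left e, e'])))
    obtain ⟨F₁, hF₁, hm⟩ := hpart.2.1 (r * a)
      (mul_mem (Subgroup.mem_sup_right hr) (Subgroup.mem_sup_left ha)) hne
    exact ⟨F₁, hF₁.1, hm, fun x hx => comm_sup
      (fun a' ha' => (comm_of_commutator_eq_bot hcAR ha' hr).symm)
      (fun r' hr' => comm_self hS.1 hRS hr hr') x (hF₁.2 hx)⟩
  obtain ⟨a, ha, ha1⟩ := exists_ne_one (hS.1.ne_bot A hA)
  rcases hS.1.pair C hC R hRS with h | h | h
  · exact h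
  · exfalso
    obtain ⟨r, hr, hr1⟩ := exists_ne_one (hS.1.ne_bot R hRS)
    obtain ⟨F₁, hF₁, hm, -⟩ := hroot r hr hr1 a ha
    refine ha1 (eq_one_of_central_shift hS.1 hC (RankOnePair_symm h) hF₁ hr hr1
      (fun x hx => comm_of_commutator_eq_bot hcAR ha hx)
      (fun x hx => comm_of_commutator_eq_bot hAC ha hx) ?_)
    rwa [comm_of_commutator_eq_bot hcAR ha hr]
  exfalso
  have hN := h.1
  set N₀ := ⁅C, R⁆ with hN₀
  obtain ⟨T, hT, hrT, hTe⟩ := exists_centre_mover hS.1 hC (hp C hC) h (hp _ hN)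
  have hTC : ∀ t ∈ T, ∀ x ∈ C, t * x = x * t := fun t ht x hx =>
    (hrT.2.1 x (by rw [hTe]; exact hx) t (Subgroup.mem_sup_right ht)).symm
  have hRT : IsRankOnePair R T := movers_rankOne hS.1 hC hRS hN hT
    (by rw [Subgroup.commutator_comm]; exact hTe)
  have hrAT : RootCommutatorCase S A T := by
    rcases hS.1.pair A hA T hT with h' | h' | h'
    · exfalso
      obtain ⟨r, hr, hr1⟩ := exists_ne_one (hS.1.ne_bot R hRS)
      obtain ⟨F₁, hF₁, hm, -⟩ := hroot r hr hr1 a ha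
      refine ha1 (eq_one_of_central_shift hS.1 hT hRT hF₁ hr hr1
        (fun x hx => comm_of_commutator_eq_bot hcAR ha hx)
        (fun x hx => comm_of_commutator_eq_bot h' ha hx) ?_)
      rwa [comm_of_commutator_eq_bot hcAR ha hr]
    · exfalso
      refine no_partner_of_commutator hS.1 hN hT hA (RankOnePair_symm h') (rcc_symm hrT) ?_
      rw [Subgroup.commutator_comm T, hTe]
      exact commutator_comm_eq_bot.mp hAC
    · exact h'
  obtain ⟨hrW, hWe⟩ := mover hS.1 hRS hT hA hRT (commutator_comm_eq_bot.mp hcAR) hrAT hroot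
  have hRfixA : ∀ r ∈ R, conjBy A r = A := fun r hr => conjBy_of_comm fun x hx =>
    (comm_of_commutator_eq_bot hcAR hx hr).symm
  -- partners of `C` via the line through `A`
  have lineA : ∀ M ∈ membersIn S (A ⊔ ⁅A, T⁆), ∀ B' ∈ S,
      IsRankOnePair M B' → IsRankOnePair C B' := by
    intro M hM B' hB' hMB
    have viaT : ∀ t ∈ T, IsRankOnePair (conjBy A t) B' → IsRankOnePair C B' := by
      intro t ht h'
      have h1 := RankOne.conj h' t⁻¹
      rw [conjBy_inv_cancel] at h1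
      have h2 := RankOne.conj (hsub _ (hS.1.conj_mem B' hB' _) h1) t
      rwa [conjBy_cancel, conjBy_of_comm (hTC t ht)] at h2
    rw [membersIn_line hS.1 hA (hp A hA) hrAT] at hM
    rcases hM with ⟨t, ht, rfl⟩ | hM
    · exact viaT t ht hMB
    rw [Set.mem_singleton_iff] at hM
    subst hM
    obtain ⟨F, hF, hq, hq', heq, hline, -⟩ := line_structure hS.1 hrAT.1 hB' hMB
      (mem_linePartners hS.1 hA (hp A hA) hrAT)
    have rk : ∀ M ∈ membersIn S (A ⊔ ⁅A, T⁆), M ≠ F → IsRankOnePair M B' := by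
      intro M hM hne
      rw [sup_comm, hline] at hM
      have := membersIn_line hS.1 hrAT.1 (hp _ hrAT.1) hq'
      rw [heq] at this
      rw [this] at hM
      obtain ⟨d, hd, rfl⟩ := hM.resolve_right fun e => hne (Set.mem_singleton_iff.mp e)
      exact line_member_rankOne hMB hq hd
    obtain ⟨t, ht, ht1⟩ := exists_ne_one (hS.1.ne_bot T hT)
    by_cases hAF : A = F
    · refine viaT t ht (rk _ ⟨hS.1.conj_mem A hA t, conjBy_le_line hrAT ht⟩ ?_)
      rw [← hAF]
      exact conjBy_ne_self hS.1 hA (hp A hA) hrAT ht ht1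
    · exact hsub B' hB' (by simpa using rk A ⟨hA, le_sup_left⟩ hAF)
  -- an element moving `C` to `N₀`
  obtain ⟨t, ht, ht1⟩ := exists_ne_one (hS.1.ne_bot T hT)
  have hm : conjBy N₀ t ∈ membersIn S (C ⊔ N₀) := by
    refine ⟨hS.1.conj_mem _ hN t, ?_⟩
    have := conjBy_le_line hrT ht
    rwa [hTe, sup_comm] at this
  rw [membersIn_line hS.1 hC (hp C hC) h] at hm
  obtain ⟨r₀, hr₀, e₀⟩ := hm.resolve_right fun e =>
    conjBy_ne_self hS.1 hN (hp _ hN) hrT ht ht1 (Set.mem_singleton_iff.mp e)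
  simp only at e₀
  have hxC : conjBy C (t⁻¹ * r₀) = N₀ := by rw [← conjBy_conjBy, e₀, conjBy_inv_cancel]
  have hxA : conjBy A (t⁻¹ * r₀)⁻¹ ∈ membersIn S (A ⊔ ⁅A, T⁆) := by
    refine ⟨hS.1.conj_mem A hA _, ?_⟩
    rw [mul_inv_rev, inv_inv, ← conjBy_conjBy]
    refine (conjBy_mono r₀⁻¹ (conjBy_le_line hrAT ht)).trans ?_
    rw [conjBy_sup, hRfixA _ (inv_mem hr₀)]
    refine sup_le le_sup_left ((conjBy_le_line (rcc_symm hrW) (inv_mem hr₀)).trans ?_)
    rw [Subgroup.commutator_comm _ R, hWe, sup_comm]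
  obtain ⟨B, hB, hAB⟩ := hp A hA
  have hall : ∀ M ∈ membersIn S (C ⊔ N₀), IsRankOnePair M B := by
    intro M hM
    rw [membersIn_line hS.1 hC (hp C hC) h] at hM
    rcases hM with ⟨r, hr, rfl⟩ | hM
    · have h1 := RankOne.conj hAB r⁻¹
      rw [hRfixA _ (inv_mem hr)] at h1
      have h2 := RankOne.conj (hsub _ (hS.1.conj_mem B hB _) h1) r
      rwa [conjBy_cancel] at h2
    · rw [Set.mem_singleton_iff] at hM
      have h1 := lineA _ hxA _ (hS.1.conj_mem B hB _) (RankOne.conj hAB (t⁻¹ * r₀)⁻¹)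
      have h2 := RankOne.conj h1 (t⁻¹ * r₀)
      rw [conjBy_cancel, hxC] at h2
      rw [hM]
      exact h2
  obtain ⟨F, hF, hq, -, -, hline, -⟩ := line_structure hS.1 hC hB (hsub B hB hAB)
    (mem_linePartners' hS.1 hC (hp C hC) h)
  exact not_commutatorCase hS.1 hB (hall F ⟨hF, by rw [hline]; exact le_sup_right⟩) hq

theorem nondegenerate_partners (hS : IsRootSubgroupClass S) (hnd : IsNondegenerateRootSet S)
    (hA : A ∈ S) (hC : C ∈ S) (hsub : ∀ X ∈ S, IsRankOnePair A X → IsRankOnePair C X)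
    (hAC : ⁅A, C⁆ = ⊥) (hB : B ∈ S) (hCB : IsRankOnePair C B) : IsRankOnePair A B := by
  have hp : ∀ X ∈ S, HasPartner S X := fun X hX => hasPartner_of_class hS hnd hX
  rcases hS.1.pair A hA B hB with hAB | hAB | hAB
  · exfalso
    -- some member collinear with `C` does not commute with `A`
    obtain ⟨R, hR, hne⟩ : ∃ R ∈ linePartners S C, ⁅A, R⁆ ≠ ⊥ := by
      by_contra hc
      push Not at hc
      obtain ⟨E, hE, hAE⟩ := hp A hA
      apply RankOne.not_commute hAE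
      rw [Subgroup.commutator_eq_bot_iff_le_centralizer, Subgroup.le_centralizer_iff]
      refine le_trans le_top ?_
      rw [← generated_line_partner hS hnd hC hB hCB]
      exact sup_le (iSup₂_le fun X hX => le_centralizer_iff_comm.mpr (hc X hX))
        (le_centralizer_iff_comm.mpr hAB)
    obtain ⟨⟨hRS, hRC, hcCR⟩, hpart⟩ := id hR
    have hrAR : RootCommutatorCase S A R := by
      rcases hS.1.pair A hA R hRS with h | h | h
      · exact absurd h hne
      · exfalso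
        obtain ⟨r, hr, hr1⟩ := exists_ne_one (hS.1.ne_bot R hRS)
        obtain ⟨c, hc, hc1⟩ := exists_ne_one (hS.1.ne_bot C hC)
        obtain ⟨F₁, hF₁, hm⟩ := hpart.2.1 (c * r)
          (mul_mem (Subgroup.mem_sup_left hc) (Subgroup.mem_sup_right hr))
          (fun e => hRC (eq_of_meet hS.1 hC hRS (hp C hC) hc
            (by rw [eq_inv_of_mul_eq_one_left e]; exact inv_mem hr) hc1))
        exact hc1 (eq_one_of_central_shift hS.1 hA (RankOnePair_symm h) hF₁.1 hr hr1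
          (fun x hx => comm_of_commutator_eq_bot hcCR hc hx)
          (fun x hx => (comm_of_commutator_eq_bot hAC hx hc).symm) hm)
      · exact h
    have hL' : ⁅A, R⁆ ∈ linePartners S A := mem_linePartners' hS.1 hA (hp A hA) hrAR
    have hCL := nondegenerate_line_commute hS hnd hA hC hsub hAC hL'
    -- `B` is a translate of `C` fixing `A`
    obtain ⟨x, hx, hxe⟩ := RankOne.exists_swap_left hCB
    have hxA : conjBy A x = A := conjBy_of_comm fun a ha => (comm_sup (z := a)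
      (fun c hc => comm_of_commutator_eq_bot hAC ha hc)
      (fun b hb => comm_of_commutator_eq_bot hAB ha hb) x hx).symm
    have hsubB : ∀ X ∈ S, IsRankOnePair A X → IsRankOnePair B X := by
      intro X hX h
      have h1 := RankOne.conj h x⁻¹
      rw [← conjBy_eq_iff.mp hxA] at h1
      have h2 := RankOne.conj (hsub _ (hS.1.conj_mem X hX _) h1) x
      rwa [conjBy_cancel, hxe] at h2
    have hBL := nondegenerate_line_commute hS hnd hA hB hsubB hAB hL'
    obtain ⟨F, hF, hq, hq', heq, hline, hFC⟩ := line_structure hS.1 hC hB hCB hR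
    -- `⁅a, f⁆` lies in `⁅A, R⁆`
    have hf : ∀ a ∈ A, ∀ f ∈ F, ⁅a, f⁆ ∈ ⁅A, R⁆ := by
      intro a ha f hf
      obtain ⟨c, hc, r, hr, rfl⟩ := sup_mem_of_comm
        (fun c hc r hr => comm_of_commutator_eq_bot hcCR hc hr)
        (show f ∈ C ⊔ R by rw [hline]; exact Subgroup.mem_sup_right hf)
      have : ⁅a, c * r⁆ = c * ⁅a, r⁆ * c⁻¹ := by
        calc ⁅a, c * r⁆ = a * c * r * a⁻¹ * r⁻¹ * c⁻¹ := by simp [commutatorElement_def, mul_assoc]
          _ = c * ⁅a, r⁆ * c⁻¹ := by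
            rw [comm_of_commutator_eq_bot hAC ha hc]; simp [commutatorElement_def, mul_assoc]
      rw [this, comm_of_commutator_eq_bot hCL hc (Subgroup.commutator_mem_commutator ha hr),
        mul_inv_cancel_right]
      exact Subgroup.commutator_mem_commutator ha hr
    -- `A` centralizes `⁅F, B⁆`
    have hD : ∀ d ∈ ⁅F, B⁆, ∀ a ∈ A, a * d = d * a := by
      intro d hd a ha
      have hsub' : ⁅F, B⁆ ≤ Subgroup.centralizer ({a} : Set G) := by
        rw [Subgroup.commutator_le]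
        intro f hf' β hβ
        refine Subgroup.mem_centralizer_iff.mpr fun w hw => ?_
        rw [Set.mem_singleton_iff.mp hw]
        have hl := hf a ha f hf'
        have hlR : ∀ r ∈ R, ⁅a, f⁆ * r = r * ⁅a, f⁆ := fun r hr =>
          hrAR.2.1 _ hl r (Subgroup.mem_sup_right hr)
        have hlf : ⁅a, f⁆ * f = f * ⁅a, f⁆ := comm_sup
          (fun c hc => (comm_of_commutator_eq_bot hCL hc hl).symm) hlR f
          (by rw [hline]; exact Subgroup.mem_sup_right hf')
        have hlβ : ⁅a, f⁆ * β = β * ⁅a, f⁆ := (comm_of_commutator_eq_bot hBL hβ hl).symm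
        have haβ : a * β = β * a := comm_of_commutator_eq_bot hAB ha hβ
        have hlfβ : ⁅a, f⁆ * ⁅f, β⁆ = ⁅f, β⁆ * ⁅a, f⁆ :=
          (((Commute.mul_right hlf hlβ).mul_right (Commute.inv_right hlf)).mul_right
            (Commute.inv_right hlβ)).eq
        have haf : a * f * a⁻¹ = ⁅a, f⁆ * f := by simp [commutatorElement_def, mul_assoc]
        calc a * ⁅f, β⁆ = a * f * (β * f⁻¹ * β⁻¹) := by simp [commutatorElement_def, mul_assoc]
          _ = (⁅a, f⁆ * f) * a * (β * f⁻¹ * β⁻¹) := by rw [← haf]; group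
          _ = ⁅a, f⁆ * f * β * (⁅a, f⁆ * f)⁻¹ * (a * β⁻¹) := by
            rw [← haf, mul_assoc (a * f * a⁻¹) β, show a * f * a⁻¹ * a * (β * f⁻¹ * β⁻¹) =
              a * f * a⁻¹ * (a * β) * f⁻¹ * β⁻¹ by group, haβ]
            group
          _ = ⁅a, f⁆ * f * β * (⁅a, f⁆ * f)⁻¹ * (β⁻¹ * a) := by
            rw [(Commute.inv_right haβ).eq]
          _ = ⁅a, f⁆ * f * (β * f⁻¹) * (⁅a, f⁆⁻¹ * β⁻¹) * a := by group
          _ = ⁅a, f⁆ * f * (β * f⁻¹) * (β⁻¹ * ⁅a, f⁆⁻¹) * a := by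
            rw [((Commute.inv_left hlβ).inv_right).eq]
          _ = ⁅a, f⁆ * ⁅f, β⁆ * ⁅a, f⁆⁻¹ * a := by simp [commutatorElement_def, mul_assoc]
          _ = ⁅f, β⁆ * a := by rw [hlfβ]; group
      exact Subgroup.mem_centralizer_iff.mp (hsub' hd) a rfl
    apply hne
    refine commutator_eq_bot_of_comm fun a ha r hr => ?_
    have h1 : C ⊔ R ≤ Subgroup.centralizer ({a} : Set G) := by
      rw [hline]
      have hCa : C ≤ Subgroup.centralizer ({a} : Set G) := fun c hc =>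
        Subgroup.mem_centralizer_iff.mpr fun w hw => by
          rw [Set.mem_singleton_iff.mp hw]; exact comm_of_commutator_eq_bot hAC ha hc
      refine sup_le hCa ?_
      rw [← heq]
      exact (Subgroup.commutator_le_sup _ _).trans (sup_le hCa fun d hd =>
        Subgroup.mem_centralizer_iff.mpr fun w hw => by
          rw [Set.mem_singleton_iff.mp hw]; exact hD d hd a ha)
    exact Subgroup.mem_centralizer_iff.mp (h1 (Subgroup.mem_sup_right hr)) a rfl
  · exact hAB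
  · exfalso
    refine no_partner_of_commutator hS.1 hA hB hC (RankOnePair_symm hCB) (rcc_symm hAB) ?_
    rw [Subgroup.commutator_comm B A, commutator_comm_eq_bot]
    exact nondegenerate_line_commute hS hnd hA hC hsub hAC
      (mem_linePartners' hS.1 hA (hp A hA) hAB)

end Cfsg.Agent.Lib.RootSubgroups.Root
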