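import Cfsg.Agent.Lib.RootSubgroups.Basic

/-! The rank one group induced on a line (Timmesfeld, II.2.6). -/

namespace Cfsg.Agent.Lib.RootSubgroups.Root

open Cfsg
open scoped commutatorElement

variable {G : Type*} [Group G] {S : Set (Subgroup G)} {A B D : Subgroup G}

theorem inf_commutator_eq_bot (hS : IsRootSubgroupSet S) (h : RootCommutatorCase S A B) :
    A ⊓ ⁅A, B⁆ = ⊥ := by
  refine (Subgroup.eq_bot_iff_forall _).mpr fun x hx => by_contra fun hx1 => ?_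
  apply hS.ne_bot _ h.1
  rw [← h.2.2.1 x hx.1 hx1, Subgroup.closure_eq_bot_iff]
  rintro _ ⟨b, hb, rfl⟩
  have := h.2.1 x hx.2 b (Subgroup.mem_sup_right hb)
  simp [this]

/-- Two movers of the two base points of a line form a rank one pair. -/
theorem movers_rankOne (hS : IsRootSubgroupSet S) (hA : A ∈ S) (hB : B ∈ S) (hC : ⁅A, B⁆ ∈ S)
    (hD : D ∈ S) (hDC : ⁅D, ⁅A, B⁆⁆ = A) : IsRankOnePair B D := by
  have hr := rcc_of_commutator_mem hS hA hB hC
  have hq := rcc_of_commutator_mem hS hD hC (by rw [hDC]; exact hA)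
  have hfixA : ∀ d ∈ D, ∀ a ∈ A, d * a = a * d := fun d hd a ha =>
    (hq.2.1 a (by rw [hDC]; exact ha) d (Subgroup.mem_sup_left hd)).symm
  have hfixC : ∀ b ∈ B, ∀ c ∈ ⁅A, B⁆, b * c = c * b := fun b hb c hc =>
    (hr.2.1 c hc b (Subgroup.mem_sup_right hb)).symm
  have hAC := comm_left_commutator hr
  -- if every `b` and `d` have `b d b⁻¹` commuting with `d` we get a contradiction
  have key : (∀ b ∈ B, ∀ d ∈ D, b * d * b⁻¹ * d = d * (b * d * b⁻¹)) → False := by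
    intro hX
    obtain ⟨b, hb, hb1⟩ := exists_ne_one (hS.ne_bot B hB)
    obtain ⟨d, hd, hd1⟩ := exists_ne_one (hS.ne_bot D hD)
    have main : ∀ c ∈ ⁅A, B⁆, ⁅d, ⁅b, ⁅d, c⁆⁆⁆ = 1 := by
      intro c hc
      obtain ⟨a, ha, he⟩ := exists_eq_right hr (inv_mem hb) (by simpa using hb1) (inv_mem hc)
      have he2 : ⁅b⁻¹, a⁆ = c := by rw [← commutatorElement_inv, he, inv_inv]
      have a1m : ⁅d, c⁆ ∈ A := by
        rw [← hDC]; exact Subgroup.commutator_mem_commutator hd hc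
      have c2m : ⁅b, ⁅d, c⁆⁆ ∈ ⁅A, B⁆ := by
        rw [Subgroup.commutator_comm]; exact Subgroup.commutator_mem_commutator hb a1m
      have h1 : b⁻¹ * a * b = c * a := by rw [← he2]; simp [commutatorElement_def, mul_assoc]
      have h2 : b * a * b⁻¹ = c⁻¹ * a := by
        calc b * a * b⁻¹ = c⁻¹ * (c * b) * a * b⁻¹ := by group
          _ = c⁻¹ * (b * (c * a) * b⁻¹) := by rw [← hfixC b hb c hc]; group
          _ = c⁻¹ * a := by rw [← h1]; group
      have h3 : b * d * b⁻¹ * a * (b * d * b⁻¹)⁻¹ = ⁅b, ⁅d, c⁆⁆ * ⁅d, c⁆ * a := by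
        calc b * d * b⁻¹ * a * (b * d * b⁻¹)⁻¹ = b * d * (b⁻¹ * a * b) * d⁻¹ * b⁻¹ := by group
          _ = b * (d * c * d⁻¹) * (d * a) * d⁻¹ * b⁻¹ := by rw [h1]; group
          _ = b * (⁅d, c⁆ * c) * a * b⁻¹ := by
            rw [hfixA d hd a ha]; simp [commutatorElement_def, mul_assoc]
          _ = ⁅b, ⁅d, c⁆⁆ * ⁅d, c⁆ * (b * c * b⁻¹) * (b * a * b⁻¹) := by
            simp [commutatorElement_def, mul_assoc]
          _ = ⁅b, ⁅d, c⁆⁆ * ⁅d, c⁆ * a := by rw [h2, hfixC b hb c hc]; group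
      have h4 : d * (b * d * b⁻¹ * a * (b * d * b⁻¹)⁻¹) * d⁻¹ =
          b * d * b⁻¹ * a * (b * d * b⁻¹)⁻¹ := by
        calc d * (b * d * b⁻¹ * a * (b * d * b⁻¹)⁻¹) * d⁻¹
            = (d * (b * d * b⁻¹)) * a * (d * (b * d * b⁻¹))⁻¹ := by group
          _ = (b * d * b⁻¹ * d) * a * (b * d * b⁻¹ * d)⁻¹ := by rw [← hX b hb d hd]
          _ = b * d * b⁻¹ * (d * a) * d⁻¹ * (b * d * b⁻¹)⁻¹ := by group
          _ = b * d * b⁻¹ * a * (b * d * b⁻¹)⁻¹ := by rw [hfixA d hd a ha]; group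
      rw [h3] at h4
      have h5 : d * (⁅d, c⁆ * a) = ⁅d, c⁆ * a * d := hfixA d hd _ (mul_mem a1m ha)
      rw [commutatorElement_eq_one_iff_mul_comm]
      calc d * ⁅b, ⁅d, c⁆⁆ = d * (⁅b, ⁅d, c⁆⁆ * ⁅d, c⁆ * a) * d⁻¹ * d * (⁅d, c⁆ * a)⁻¹ := by group
        _ = ⁅b, ⁅d, c⁆⁆ * (⁅d, c⁆ * a) * d * (⁅d, c⁆ * a)⁻¹ := by rw [h4]; group
        _ = ⁅b, ⁅d, c⁆⁆ * d := by rw [mul_assoc _ _ d, ← h5]; group
    obtain ⟨u, hu, hu1⟩ := exists_ne_one (hS.ne_bot A hA)
    obtain ⟨cs, hcs, ecs⟩ := exists_eq_left hq hd hd1 (c := u) (by rw [hDC]; exact hu)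
    obtain ⟨a, ha, ea⟩ := exists_eq_right hr hb hb1 (inv_mem hcs)
    obtain ⟨c, hc, ec⟩ := exists_eq_left hq hd hd1 (c := a) (by rw [hDC]; exact ha)
    have h1 := main c hc
    rw [ec, show ⁅b, a⁆ = cs by rw [← commutatorElement_inv, ea, inv_inv], ecs] at h1
    exact hu1 h1
  rcases hS.pair B hB D hD with hc | hr' | hr'
  · refine absurd (fun b hb d hd => ?_) key
    rw [show b * d * b⁻¹ = d by rw [comm_of_commutator_eq_bot hc hb hd]; group]
  · exact hr'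
  · refine absurd (fun b hb d hd => ?_) key
    rw [show b * d * b⁻¹ = ⁅b, d⁆ * d by simp [commutatorElement_def], ← mul_assoc d,
      ← hr'.2.1 _ (Subgroup.commutator_mem_commutator hb hd) d (Subgroup.mem_sup_right hd)]

/-- The orbit of `A` under the line group. -/
theorem movers_orbit (hS : IsRootSubgroupSet S) (hA : A ∈ S) (hB : B ∈ S) (hC : ⁅A, B⁆ ∈ S)
    (hD : D ∈ S) (hDC : ⁅D, ⁅A, B⁆⁆ = A) {b d : G} (hb : b ∈ B) (hd : d ∈ D) (hb1 : b ≠ 1)
    (e : conjBy B d = conjBy D b) : conjBy ⁅A, B⁆ d = conjBy A b := by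
  have hr := rcc_of_commutator_mem hS hA hB hC
  have hq := rcc_of_commutator_mem hS hD hC (by rw [hDC]; exact hA)
  have hfixA : ∀ d ∈ D, ∀ a ∈ A, d * a = a * d := fun d hd a ha =>
    (hq.2.1 a (by rw [hDC]; exact ha) d (Subgroup.mem_sup_left hd)).symm
  have h1 : ⁅conjBy A b⁻¹, D⁆ = A := by
    apply le_antisymm
    · rw [Subgroup.commutator_le]
      intro y hy d' hd'
      have hy' := conjBy_le_line hr (inv_mem hb) hy
      obtain ⟨a, ha, c, hc, rfl⟩ := sup_mem_of_comm (comm_left_commutator hr) hy'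
      have hm : ⁅c, d'⁆ ∈ A := by
        rw [← hDC, Subgroup.commutator_comm]
        exact Subgroup.commutator_mem_commutator hc hd'
      have : ⁅a * c, d'⁆ = ⁅c, d'⁆ := by
        calc ⁅a * c, d'⁆ = a * ⁅c, d'⁆ * (d' * a⁻¹) * d'⁻¹ := by
              simp [commutatorElement_def, mul_assoc]
          _ = a * ⁅c, d'⁆ * a⁻¹ := by rw [hfixA d' hd' a⁻¹ (inv_mem ha)]; group
          _ = ⁅c, d'⁆ := by rw [comm_self hS hA ha hm]; group
      rwa [this]
    · intro u hu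
      obtain ⟨a₀, ha₀, ha₀1⟩ := exists_ne_one (hS.ne_bot A hA)
      obtain ⟨c, hc, hc1⟩ := exists_ne_one (hS.ne_bot _ hC)
      obtain ⟨a, ha, ec⟩ := exists_eq_right hr (inv_mem hb) (by simpa using hb1) (inv_mem hc)
      obtain ⟨d', hd', eu⟩ := exists_eq_right hq hc hc1 (c := u⁻¹)
        (by rw [hDC]; exact inv_mem hu)
      have h2 : b⁻¹ * a * b = c * a := by
        rw [← inv_inv c, ← ec]; simp [commutatorElement_def, mul_assoc]
      have h3 : ⁅c * a, d'⁆ = u := by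
        calc ⁅c * a, d'⁆ = c * (a * d') * a⁻¹ * c⁻¹ * d'⁻¹ := by
              simp [commutatorElement_def, mul_assoc]
          _ = c * (d' * a) * a⁻¹ * c⁻¹ * d'⁻¹ := by rw [hfixA d' hd' a ha]
          _ = u := by rw [← inv_inv u, ← eu]; simp [commutatorElement_def, mul_assoc]
      rw [← h3]
      refine Subgroup.commutator_mem_commutator ?_ hd'
      rw [← h2, mem_conjBy, inv_inv]
      simpa [mul_assoc] using ha
  calc conjBy ⁅A, B⁆ d = ⁅conjBy A d, conjBy B d⁆ := conjBy_commutator _ _ _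
    _ = conjBy ⁅conjBy A b⁻¹, D⁆ b := by
      rw [conjBy_of_comm (hfixA d hd), e, conjBy_commutator, conjBy_cancel]
    _ = conjBy A b := by rw [h1]

end Cfsg.Agent.Lib.RootSubgroups.Root
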