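import Cfsg.Agent.Lib.RootSubgroups.Basic

/-! Movers and the structure of lines (Timmesfeld, II.2.7 ff.). -/

namespace Cfsg.Agent.Lib.RootSubgroups.Root

open Cfsg
open scoped commutatorElement

variable {G : Type*} [Group G] {S : Set (Subgroup G)} {A B C D E F : Subgroup G}

/-- If `F` is in the commutator case with the partner `E` of `A` and lies on a line with `A`, then
`D = ⁅F, E⁆` is in the commutator case with `A` and `⁅A, D⁆ = F`. -/
theorem mover (hS : IsRootSubgroupSet S) (hA : A ∈ S) (hE : E ∈ S) (hF : F ∈ S)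
    (hAE : IsRankOnePair A E) (hcomm : ⁅A, F⁆ = ⊥) (hr : RootCommutatorCase S F E)
    (hroot : ∀ a ∈ A, a ≠ 1 → ∀ f ∈ F, ∃ F₁ ∈ S, a * f ∈ F₁ ∧ ∀ x ∈ F₁, a * x = x * a) :
    RootCommutatorCase S A ⁅F, E⁆ ∧ ⁅A, ⁅F, E⁆⁆ = F := by
  have hD : ⁅F, E⁆ ∈ S := hr.1
  have hFA : ∀ f ∈ F, ∀ a ∈ A, f * a = a * f :=
    fun f hf a ha => (comm_of_commutator_eq_bot hcomm ha hf).symm
  have hFD : ∀ f ∈ F, ∀ d ∈ ⁅F, E⁆, f * d = d * f :=
    fun f hf d hd => (hr.2.1 d hd f (Subgroup.mem_sup_left hf)).symm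
  have hED : ∀ e ∈ E, ∀ d ∈ ⁅F, E⁆, e * d = d * e :=
    fun e he d hd => (hr.2.1 d hd e (Subgroup.mem_sup_right he)).symm
  have hEA := RankOnePair_symm hAE
  obtain ⟨a, ha, ha1⟩ := exists_ne_one (RankOne.left_ne_bot hAE)
  obtain ⟨f₀, hf₀, hf₀1⟩ := exists_ne_one (hS.ne_bot F hF)
  obtain ⟨β, hβ, hβ1, hrel⟩ := hAE.cond_left a ha ha1
  have hpE : HasPartner S E := ⟨A, hA, hEA⟩
  have hpA : HasPartner S A := ⟨E, hE, hAE⟩
  have hr' : RootCommutatorCase S A ⁅F, E⁆ := by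
    rcases hS.pair A hA _ hD with hc | hrk | hrc
    · exfalso
      have h1 : ∀ f ∈ F, ∀ x ∈ A, (β⁻¹ * f * β) * x = x * (β⁻¹ * f * β) := by
        intro f hf x hx
        have hd : ⁅β⁻¹, f⁆ ∈ ⁅F, E⁆ := by
          rw [Subgroup.commutator_comm]; exact Subgroup.commutator_mem_commutator (inv_mem hβ) hf
        rw [show β⁻¹ * f * β = ⁅β⁻¹, f⁆ * f by simp [commutatorElement_def, mul_assoc]]
        exact ((Commute.mul_left (comm_of_commutator_eq_bot hc hx hd).symm (hFA f hf x hx))).eq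
      -- hence `F` centralizes `A^(β)`, which is a translate of `E`
      obtain ⟨a', ha', e'⟩ := RankOne.eq_translate hAE
        (RankOne.conjBy_mem_unipotent (Subgroup.mem_sup_right hβ) (RankOne.left_mem A E))
        (fun e => hβ1 (RankOne.eq_one_of_normalizes hEA hβ e))
      refine hS.ne_bot _ hD (commutator_eq_bot_of_comm fun f hf e he => ?_)
      obtain ⟨x, hx, hxe⟩ : a' * e * a'⁻¹ ∈ conjBy A β := by rw [e']; exact conj_mem_conjBy he
      have h2 : f * (β * x * β⁻¹) = β * x * β⁻¹ * f := by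
        calc f * (β * x * β⁻¹) = β * ((β⁻¹ * f * β) * x) * β⁻¹ := by group
          _ = β * (x * (β⁻¹ * f * β)) * β⁻¹ := by rw [h1 f hf x hx]
          _ = β * x * β⁻¹ * f := by group
      have hxe' : β * x * β⁻¹ = a' * e * a'⁻¹ := hxe
      rw [hxe'] at h2
      calc f * e = a'⁻¹ * (a' * f * a'⁻¹) * (a' * e * a'⁻¹) * a' := by group
        _ = a'⁻¹ * (f * (a' * e * a'⁻¹)) * a' := by rw [← hFA f hf a' ha']; group
        _ = a'⁻¹ * (a' * e * a'⁻¹ * f) * a' := by rw [h2]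
        _ = e * (a'⁻¹ * (f * a')) := by group
        _ = e * f := by rw [hFA f hf a' ha']; group
    · exfalso
      refine hf₀1 ?_
      obtain ⟨F₁, hF₁, hm, -⟩ := hroot a ha ha1 f₀ hf₀
      exact eq_one_of_central_shift hS hD hrk hF₁ ha ha1 (hFA f₀ hf₀) (hFD f₀ hf₀)
        (by rw [hFA f₀ hf₀ a ha]; exact hm)
    · exact hrc
  refine ⟨hr', ?_⟩
  have hE1F : ∀ u ∈ ⁅A, ⁅F, E⁆⁆, ∀ f ∈ F, f * u = u * f := by
    intro u hu f hf
    have hle : A ⊔ ⁅F, E⁆ ≤ Subgroup.centralizer ({f} : Set G) := by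
      refine sup_le (fun x hx => ?_) (fun x hx => ?_) <;>
        refine Subgroup.mem_centralizer_iff.mpr fun w hw => ?_ <;>
        rw [Set.mem_singleton_iff.mp hw]
      · exact hFA f hf x hx
      · exact hFD f hf x hx
    exact Subgroup.mem_centralizer_iff.mp
      (hle (Subgroup.commutator_le_sup _ _ hu)) f rfl
  -- the map `f ↦ e(f)` and the central shift `f * e(f)`
  let d : G → G := fun f => f⁻¹ * β⁻¹ * f * β
  have hd : ∀ f ∈ F, d f ∈ ⁅F, E⁆ := fun f hf => by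
    have : d f = ⁅f⁻¹, β⁻¹⁆ := by simp [d, commutatorElement_def, mul_assoc]
    rw [this]; exact Subgroup.commutator_mem_commutator (inv_mem hf) (inv_mem hβ)
  have hsurj : ∀ u ∈ ⁅F, E⁆, ∃ f ∈ F, d f = u := by
    intro u hu
    obtain ⟨f, hf, e⟩ := exists_eq_right hr (inv_mem hβ) (by simpa using hβ1) hu
    exact ⟨f⁻¹, inv_mem hf, by rw [← e]; simp [d, commutatorElement_def, mul_assoc]⟩
  have hd1 : ∀ f ∈ F, f ≠ 1 → d f ≠ 1 := by
    intro f hf hf1 e
    refine commutatorElement_ne_one hS hE hpE (rcc_symm hr) (inv_mem hβ) (by simpa using hβ1)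
      hf hf1 ?_
    rw [commutatorElement_eq_one_iff_mul_comm]
    calc β⁻¹ * f = f * (f⁻¹ * β⁻¹ * f * β) * β⁻¹ := by group
      _ = f * β⁻¹ := by rw [show f⁻¹ * β⁻¹ * f * β = 1 from e, mul_one]
  have hu : ∀ f ∈ F, ⁅a, d f⁆ ∈ ⁅A, ⁅F, E⁆⁆ :=
    fun f hf => Subgroup.commutator_mem_commutator ha (hd f hf)
  have hx : ∀ f ∈ F, ∀ y ∈ A ⊔ E, f * ⁅a, d f⁆ * y = y * (f * ⁅a, d f⁆) := by
    intro f hf
    apply comm_sup
    · intro x hx
      exact (Commute.mul_left (hFA f hf x hx)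
        (hr'.2.1 _ (hu f hf) x (Subgroup.mem_sup_left hx))).eq
    · intro x hx
      have hz : a⁻¹ * x * a ∈ conjBy A β⁻¹ := by
        rw [hrel, mem_conjBy]; simpa [mul_assoc] using hx
      obtain ⟨x', hx', he⟩ := hz
      have he' : β⁻¹ * x' * β = a⁻¹ * x * a := by simpa using he
      have key : a * (β⁻¹ * f * β) * a⁻¹ = f * ⁅a, d f⁆ * d f := by
        calc a * (β⁻¹ * f * β) * a⁻¹ = a * f * d f * a⁻¹ := by simp [d, mul_assoc]
          _ = f * ⁅a, d f⁆ * d f := by rw [← hFA f hf a ha]; simp [commutatorElement_def, mul_assoc]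
      have h1 : a * (β⁻¹ * f * β) * a⁻¹ * x = x * (a * (β⁻¹ * f * β) * a⁻¹) := by
        calc a * (β⁻¹ * f * β) * a⁻¹ * x = a * (β⁻¹ * f * β) * (a⁻¹ * x * a) * a⁻¹ := by group
          _ = a * β⁻¹ * (f * x') * β * a⁻¹ := by rw [← he']; group
          _ = a * (β⁻¹ * x' * β) * β⁻¹ * f * β * a⁻¹ := by rw [hFA f hf x' hx']; group
          _ = x * (a * (β⁻¹ * f * β) * a⁻¹) := by rw [he']; group
      rw [key] at h1
      have h2 := hED x hx _ (hd f hf)
      rw [mul_assoc (f * _) (d f) x, ← h2, ← mul_assoc, ← mul_assoc x] at h1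
      exact mul_right_cancel h1
  have hfixE : ∀ y, (∀ z ∈ E, y * z = z * y) → conjBy E y = E := fun y hy => conjBy_of_comm hy
  suffices h : ∀ f ∈ F, f * ⁅a, d f⁆ = 1 by
    apply le_antisymm
    · intro u hu'
      obtain ⟨v, hv, rfl⟩ := exists_eq_left hr' ha ha1 hu'
      obtain ⟨f, hf, rfl⟩ := hsurj v hv
      rw [eq_inv_of_mul_eq_one_right (h f hf)]
      exact inv_mem hf
    · intro f hf
      rw [eq_inv_of_mul_eq_one_left (h f hf)]
      exact inv_mem (hu f hf)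
  intro f hf
  by_cases hf1 : f = 1
  · simp [hf1, d]
  let u := ⁅a, d f⁆
  let x := f * u
  have hfu : f * u = u * f := hE1F u (hu f hf) f hf
  have hconj : conjBy E f = conjBy E u⁻¹ := by
    rw [show f = u⁻¹ * x by simp [x, hfu], ← conjBy_conjBy,
      hfixE x fun z hz => hx f hf z (Subgroup.mem_sup_right hz)]
  have hau : a * u = u * a := (hr'.2.1 _ (hu f hf) a (Subgroup.mem_sup_left ha)).symm
  -- the two members
  obtain ⟨F₁, hF₁, hg, hF₁a⟩ := hroot a ha ha1 f hf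
  have hu' : u ∈ ⁅A, ⁅F, E⁆⁆ := hu f hf
  obtain ⟨F₂, hF₂, hg'⟩ := (partition_line hS hA hpA hr').2.1 (a * u⁻¹)
    (mul_mem (Subgroup.mem_sup_left ha) (Subgroup.mem_sup_right (inv_mem hu')))
    (fun e => by
      have h1 : a = u := mul_inv_eq_one.mp e
      exact commutator_ne_left hS hr' (eq_of_meet hS hA hr'.1 hpA ha (h1 ▸ hu') ha1))
  have hF₂a : ∀ y ∈ F₂, a * y = y * a := fun y hy =>
    (comm_sup (z := a) (fun p hp => comm_self hS hA ha hp)
      (fun p hp => comm_left_commutator hr' a ha p hp) y (hF₂.2 hy))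
  have hF₁E : IsRankOnePair F₁ E :=
    rankOne_of_shift hS hE hAE hF₁ (hFA f hf) (rcc_conj_commute hS hE hr hf) ha ha1 hg
  have hF₂E : IsRankOnePair F₂ E :=
    rankOne_of_shift hS hE hAE hF₂.1 (c := u⁻¹)
      (fun y hy => (Commute.inv_left (hr'.2.1 u hu' y (Subgroup.mem_sup_left hy))).eq)
      (by rw [← hconj]; exact rcc_conj_commute hS hE hr hf) ha ha1 hg'
  have hP : conjBy E (a * f) = conjBy E (a * u⁻¹) := by
    rw [← conjBy_conjBy, hconj, conjBy_conjBy]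
  have hgne : a * f ≠ 1 := by
    intro e
    refine ha1 (RankOne.eq_one_of_normalizes hAE ha (by_contra fun hne => ?_))
    rw [eq_inv_of_mul_eq_one_left e] at hne
    exact RankOne.not_commute
      (RankOne.pair_of_mem hAE (RankOne.right_mem hAE)
        (RankOne.conjBy_mem_unipotent (Subgroup.mem_sup_left
          (eq_inv_of_mul_eq_one_left e ▸ ha)) (RankOne.right_mem hAE))
        (Ne.symm hne)).1 (rcc_conj_commute hS hE hr (inv_mem hf))
  have hPne : conjBy E (a * f) ≠ E := fun e => hgne (RankOne.eq_one_of_normalizes hF₁E hg e)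
  obtain ⟨ε₁, hε₁, e₁⟩ := RankOne.eq_translate (RankOnePair_symm hF₁E)
    (by rw [RankOne.unipotent_symm hF₁E]
        exact RankOne.conjBy_mem_unipotent (Subgroup.mem_sup_left hg) (RankOne.right_mem hF₁E))
    hPne
  obtain ⟨ε₂, hε₂, e₂⟩ := RankOne.eq_translate (RankOnePair_symm hF₂E)
    (by rw [RankOne.unipotent_symm hF₂E, hP]
        exact RankOne.conjBy_mem_unipotent (Subgroup.mem_sup_left hg') (RankOne.right_mem hF₂E))
    hPne
  let γ := ε₂⁻¹ * ε₁
  have hγ : γ ∈ E := mul_mem (inv_mem hε₂) hε₁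
  have hF₂eq : F₂ = conjBy F₁ γ := by rw [← conjBy_conjBy, ← e₁, e₂, conjBy_inv_cancel]
  let d' := f⁻¹ * γ * f * γ⁻¹
  have hd' : d' ∈ ⁅F, E⁆ := by
    have : d' = ⁅f⁻¹, γ⁆ := by simp [d', commutatorElement_def]
    rw [this]; exact Subgroup.commutator_mem_commutator (inv_mem hf) hγ
  obtain ⟨f', hf', hf'e⟩ := hsurj d' hd'
  let aγ := γ * a * γ⁻¹
  have hgg : γ * (a * f) * γ⁻¹ = aγ * f * d' := by simp [aγ, d', mul_assoc]
  have hcg := hF₂a (γ * (a * f) * γ⁻¹) (by rw [hF₂eq]; exact conj_mem_conjBy hg)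
  rw [hgg] at hcg
  have he'1 : ⁅a, d'⁆ = a * aγ⁻¹ * a⁻¹ * aγ := by
    have h1 : f * ⁅a, d'⁆ = a * aγ⁻¹ * a⁻¹ * aγ * f := by
      calc f * ⁅a, d'⁆ = a * aγ⁻¹ * a⁻¹ * (a * (aγ * f * d')) * a⁻¹ * d'⁻¹ := by
            rw [commutatorElement_def]
            calc f * (a * d' * a⁻¹ * d'⁻¹) = (f * a) * d' * a⁻¹ * d'⁻¹ := by group
              _ = a * aγ⁻¹ * a⁻¹ * (a * (aγ * f * d')) * a⁻¹ * d'⁻¹ := by
                rw [hFA f hf a ha]; group
        _ = a * aγ⁻¹ * a⁻¹ * (aγ * f * d' * a) * a⁻¹ * d'⁻¹ := by rw [hcg]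
        _ = a * aγ⁻¹ * a⁻¹ * aγ * f := by group
    rw [hE1F _ (Subgroup.commutator_mem_commutator ha hd') f hf] at h1
    exact mul_right_cancel h1
  have he'Y : ⁅a, d'⁆ ∈ A ⊔ E := by
    rw [he'1]
    have h1 : aγ ∈ A ⊔ E := mul_mem (mul_mem (Subgroup.mem_sup_right hγ)
      (Subgroup.mem_sup_left ha)) (Subgroup.mem_sup_right (inv_mem hγ))
    exact mul_mem (mul_mem (mul_mem (Subgroup.mem_sup_left ha) (inv_mem h1))
      (Subgroup.mem_sup_left (inv_mem ha))) h1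
  have hd'1 : d' = 1 := by
    have hu'' : f' * ⁅a, d'⁆ = ⁅a, d'⁆ * f' :=
      hE1F _ (Subgroup.commutator_mem_commutator ha hd') f' hf'
    have hconj' : conjBy E ⁅a, d'⁆ = conjBy E f'⁻¹ := by
      rw [show ⁅a, d'⁆ = f'⁻¹ * (f' * ⁅a, d'⁆) by group, ← conjBy_conjBy, ← hf'e,
        hfixE _ fun z hz => hx f' hf' z (Subgroup.mem_sup_right hz)]
    have hfix : conjBy E f'⁻¹ = E := by
      by_contra hne
      exact RankOne.not_commute (RankOne.pair_of_mem hAE (RankOne.right_mem hAE)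
        (RankOne.conjBy_mem_unipotent he'Y (RankOne.right_mem hAE))
        (by rw [hconj']; exact Ne.symm hne)).1
        (by rw [hconj']; exact rcc_conj_commute hS hE hr (inv_mem hf'))
    have hmemE : d' ∈ E := by
      rw [← hf'e]
      have h1 := conj_mem_conjBy (g := f'⁻¹) (inv_mem hβ)
      rw [hfix, inv_inv] at h1
      exact mul_mem h1 hβ
    have hinf := conjBy_inf_commutator hS hE hpE (rcc_symm hr) (one_mem F)
    rw [conjBy_one, Subgroup.commutator_comm] at hinf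
    exact (Subgroup.eq_bot_iff_forall _).mp hinf d' ⟨hmemE, hd'⟩
  have hcomm' : a * aγ * a⁻¹ = aγ := by
    rw [hd'1, commutatorElement_one_right] at he'1
    calc a * aγ * a⁻¹ = a * aγ * a⁻¹ * (a * aγ⁻¹ * a⁻¹ * aγ) := by rw [← he'1, mul_one]
      _ = aγ := by group
  have hγ1 : γ = 1 := by
    refine RankOne.eq_one_of_normalizes hEA hγ (by_contra fun hne => ha1 ?_)
    have hP' : conjBy A γ ∈ unipotentSubgroups A E :=
      RankOne.conjBy_mem_unipotent (Subgroup.mem_sup_right hγ) (RankOne.left_mem A E)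
    refine RankOne.eq_one_of_fix_point hAE (RankOne.left_mem A E) hP' (Ne.symm hne) ha ?_
    exact RankOne.eq_of_mem_both hAE
      (RankOne.conjBy_mem_unipotent (Subgroup.mem_sup_left ha) hP') hP' (x := aγ)
      (by rw [← hcomm']; exact conj_mem_conjBy (conj_mem_conjBy ha)) (conj_mem_conjBy ha)
      (fun e => ha1 (by simpa [aγ] using e))
  rw [hγ1, conjBy_one] at hF₂eq
  rw [hF₂eq] at hg'
  refine RankOne.eq_one_of_centralizes hF₁E ?_
    (fun z hz => hx f hf z (Subgroup.mem_sup_right hz))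
  have hm := mul_mem (inv_mem hg') hg
  rwa [show (a * u⁻¹)⁻¹ * (a * f) = u * f by group, ← hfu] at hm

/-- Every line through `A` is the line of a commutator pair `(A, D)`. -/
theorem line_structure (hS : IsRootSubgroupSet S) (hA : A ∈ S) (hE : E ∈ S)
    (hAE : IsRankOnePair A E) (hB : B ∈ linePartners S A) :
    ∃ F ∈ S, RootCommutatorCase S F E ∧ RootCommutatorCase S A ⁅F, E⁆ ∧
      ⁅A, ⁅F, E⁆⁆ = F ∧ A ⊔ B = A ⊔ F ∧ F ≠ A := by
  obtain ⟨⟨hBS, hne, hcomm⟩, hpart⟩ := hB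
  obtain ⟨c, hc, hc1⟩ := exists_ne_one (hS.ne_bot B hBS)
  obtain ⟨F, ⟨hF, hFle⟩, hr, hform⟩ := exists_commutator_member hS hA hBS hE hAE hne hcomm
    (fun x hx hx1 => hpart.2.1 x hx hx1) hc hc1
  have hFA : F ≠ A := fun e => not_commutatorCase hS hE hAE (e ▸ hr)
  have hcA : ∀ a ∈ A, ∀ y ∈ A ⊔ B, a * y = y * a := fun a ha =>
    comm_sup (fun a' ha' => comm_self hS hA ha ha')
      (fun b hb => comm_of_commutator_eq_bot hcomm ha hb)
  have hcommF : ⁅A, F⁆ = ⊥ :=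
    commutator_eq_bot_of_comm fun a ha f hf => hcA a ha f (hFle hf)
  have hroot : ∀ a ∈ A, a ≠ 1 → ∀ f ∈ F,
      ∃ F₁ ∈ S, a * f ∈ F₁ ∧ ∀ x ∈ F₁, a * x = x * a := by
    intro a ha ha1 f hf
    have hne1 : a * f ≠ 1 := fun e => hFA (eq_of_meet hS hA hF ⟨E, hE, hAE⟩ ha
      (by rw [eq_inv_of_mul_eq_one_left e]; exact inv_mem hf) ha1)
    obtain ⟨F₁, hF₁, hm⟩ := hpart.2.1 (a * f)
      (mul_mem (Subgroup.mem_sup_left ha) (hFle hf)) hne1
    exact ⟨F₁, hF₁.1, hm, fun x hx => hcA a ha x (hF₁.2 hx)⟩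
  obtain ⟨hr', heq⟩ := mover hS hA hE hF hAE hcommF hr hroot
  refine ⟨F, hF, hr, hr', heq, le_antisymm ?_ (sup_le le_sup_left hFle), hFA⟩
  refine sup_le le_sup_left ?_
  rcases hform with rfl | ⟨a', ha', ha'1, hm⟩
  · exact le_sup_right
  · have hcm : c ∈ A ⊔ ⁅A, ⁅F, E⁆⁆ := by
      rw [heq, show c = a' * (a'⁻¹ * c) by group]
      exact mul_mem (Subgroup.mem_sup_left ha') (Subgroup.mem_sup_right hm)
    have hcF : c ∉ ⁅A, ⁅F, E⁆⁆ := by
      rw [heq]
      intro hcF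
      exact hFA (eq_of_meet hS hA hF ⟨E, hE, hAE⟩ ha'
        (by have := mul_mem hcF (inv_mem hm); simpa using this) ha'1)
    obtain ⟨d, hd, hcd⟩ := line_cover hr' hcm hcF
    rw [eq_of_meet hS (hS.conj_mem A hA d) hBS (hasPartner_conjBy hS ⟨E, hE, hAE⟩ d) hcd hc hc1]
    exact (conjBy_le_line hr' hd).trans (by rw [heq])

/-- All members of such a line except the commutator one are partners of `E`. -/
theorem line_member_rankOne (hAE : IsRankOnePair A E) (hr : RootCommutatorCase S F E) {d : G}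
    (hd : d ∈ ⁅F, E⁆) : IsRankOnePair (conjBy A d) E := by
  have h := RankOne.conj hAE d
  rwa [conjBy_of_comm fun e he => hr.2.1 d hd e (Subgroup.mem_sup_right he)] at h

end Cfsg.Agent.Lib.RootSubgroups.Root
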