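import Cfsg.Agent.Lib.RootSubgroups.Lines
import Cfsg.Agent.Lib.RootSubgroups.LineGroup
import Cfsg.Agent.Lib.RootSubgroups.Components
import Cfsg.Agent.Lib.RootSubgroups.Special

/-! Non-degenerate classes of abstract root subgroups (Timmesfeld, II.3). -/

namespace Cfsg.Agent.Lib.RootSubgroups.Root

open Cfsg
open scoped commutatorElement

variable {G : Type*} [Group G] {S : Set (Subgroup G)} {A B C D E F : Subgroup G}

theorem membersIn_conj (hS : IsRootSubgroupSet S) (U : Subgroup G) (g : G) :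
    membersIn S (conjBy U g) = (fun X : Subgroup G => conjBy X g) '' membersIn S U := by
  ext X
  constructor
  · rintro ⟨hX, hle⟩
    refine ⟨conjBy X g⁻¹, ⟨hS.conj_mem X hX g⁻¹, ?_⟩, conjBy_cancel X g⟩
    have := conjBy_mono g⁻¹ hle
    rwa [conjBy_inv_cancel] at this
  · rintro ⟨Y, ⟨hY, hle⟩, rfl⟩
    exact ⟨hS.conj_mem Y hY g, conjBy_mono g hle⟩

theorem linePartners_conj (hS : IsRootSubgroupSet S) (g : G) (h : B ∈ linePartners S A) :
    conjBy B g ∈ linePartners S (conjBy A g) := by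
  obtain ⟨⟨hB, hne, hc⟩, hp1, hp2, hp3⟩ := h
  refine ⟨⟨hS.conj_mem B hB g, fun e => hne (conjBy_inj e), ?_⟩, ?_⟩
  · rw [← conjBy_commutator, hc, conjBy_bot]
  · rw [← conjBy_sup]
    refine ⟨fun X hX => hX.2, fun x hx hx1 => ?_, fun X hX Y hY hne' => ?_⟩
    · obtain ⟨X, hX, hm⟩ := hp2 (g⁻¹ * x * g) (mem_conjBy.mp hx) (by
        intro e; exact hx1 (by simpa [mul_assoc, eq_inv_mul_iff_mul_eq] using congrArg (fun y => g * y * g⁻¹) e))
      exact ⟨conjBy X g, by rw [membersIn_conj hS]; exact ⟨X, hX, rfl⟩, mem_conjBy.mpr hm⟩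
    · rw [membersIn_conj hS] at hX hY
      obtain ⟨X', hX', rfl⟩ := hX
      obtain ⟨Y', hY', rfl⟩ := hY
      show conjBy X' g ⊓ conjBy Y' g = ⊥
      rw [← conjBy_inf, hp3 X' hX' Y' hY' (fun e => hne' (by rw [e])), conjBy_bot]

theorem linePartners_symm (hA : A ∈ S) (h : B ∈ linePartners S A) : A ∈ linePartners S B := by
  obtain ⟨⟨hB, hne, hc⟩, hp⟩ := h
  exact ⟨⟨hA, hne.symm, commutator_comm_eq_bot.mp hc⟩, by rw [sup_comm]; exact hp⟩

/-- Two members of a commutator line generate it. -/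
theorem sup_translate (h : RootCommutatorCase S A D) {d : G} (hd : d ∈ D)
    (hd1 : d ≠ 1) : A ⊔ conjBy A d = A ⊔ ⁅A, D⁆ := by
  refine le_antisymm (sup_le le_sup_left (conjBy_le_line h hd)) (sup_le le_sup_left fun c hc => ?_)
  obtain ⟨a, ha, rfl⟩ := exists_eq_right h hd hd1 hc
  rw [show ⁅a, d⁆ = a * (d * a⁻¹ * d⁻¹) by simp [commutatorElement_def, mul_assoc]]
  exact mul_mem (Subgroup.mem_sup_left ha) (Subgroup.mem_sup_right (conj_mem_conjBy (inv_mem ha)))

theorem conjBy_ne_self (hS : IsRootSubgroupSet S) (hA : A ∈ S) (hp : HasPartner S A)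
    (h : RootCommutatorCase S A D) {d : G} (hd : d ∈ D) (hd1 : d ≠ 1) : conjBy A d ≠ A := by
  intro e
  obtain ⟨a, ha, ha1⟩ := exists_ne_one (hS.ne_bot A hA)
  have hm : ⁅a, d⁆ ∈ A := by
    rw [show ⁅a, d⁆ = a * (d * a⁻¹ * d⁻¹) by simp [commutatorElement_def, mul_assoc]]
    refine mul_mem ha ?_
    have := conj_mem_conjBy (g := d) (inv_mem ha)
    rwa [e] at this
  exact commutatorElement_ne_one hS hA hp h ha ha1 hd hd1
    ((Subgroup.eq_bot_iff_forall _).mp (inf_eq_bot hS hA h.1 hp (commutator_ne_left hS h)) _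
      ⟨hm, Subgroup.commutator_mem_commutator ha hd⟩)

theorem translate_mem_linePartners (hS : IsRootSubgroupSet S) (hA : A ∈ S) (hp : HasPartner S A)
    (h : RootCommutatorCase S A D) {d : G} (hd : d ∈ D) (hd1 : d ≠ 1) :
    conjBy A d ∈ linePartners S A := by
  refine ⟨⟨hS.conj_mem A hA d, conjBy_ne_self hS hA hp h hd hd1, ?_⟩, ?_⟩
  · exact commutator_eq_bot_of_comm fun a ha y hy =>
      comm_sup (fun a' ha' => comm_self hS hA ha ha')
        (fun c hc => comm_left_commutator h a ha c hc) y (conjBy_le_line h hd hy)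
  · rw [sup_translate h hd hd1]; exact partition_line hS hA hp h

/-- On a commutator line there is a mover with any prescribed centre. -/
theorem exists_centre_mover (hS : IsRootSubgroupSet S) (hA : A ∈ S) (hpA : HasPartner S A)
    (h : RootCommutatorCase S A D) (hpC : HasPartner S ⁅A, D⁆) :
    ∃ T ∈ S, RootCommutatorCase S ⁅A, D⁆ T ∧ ⁅⁅A, D⁆, T⁆ = A := by
  obtain ⟨P, hP, hCP⟩ := hpC
  obtain ⟨F, hF, hr, hr', heq, hline, hne⟩ :=
    line_structure hS h.1 hP hCP (mem_linePartners hS hA hpA h)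
  have hFm : F ∈ membersIn S (A ⊔ ⁅A, D⁆) := ⟨hF, by rw [sup_comm, hline]; exact le_sup_right⟩
  rw [membersIn_line hS hA hpA h] at hFm
  obtain ⟨d, hd, rfl⟩ := hFm.resolve_right fun e => hne (Set.mem_singleton_iff.mp e)
  have e : ⁅⁅A, D⁆, conjBy ⁅conjBy A d, P⁆ d⁻¹⁆ = A := by
    have h1 : conjBy ⁅A, D⁆ d⁻¹ = ⁅A, D⁆ := conjBy_of_comm fun c hc =>
      (h.2.1 c hc d⁻¹ (Subgroup.mem_sup_right (inv_mem hd))).symm
    conv_lhs => rw [← h1]
    rw [← conjBy_commutator, heq, conjBy_inv_cancel]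
  have hT := hS.conj_mem _ hr.1 d⁻¹
  exact ⟨_, hT, rcc_of_commutator_mem hS h.1 hT (by rw [e]; exact hA), e⟩

section Class

variable (hS : IsRootSubgroupClass S) (hnd : IsNondegenerateRootSet S)

theorem hasPartner_of_class (hS : IsRootSubgroupClass S) (hnd : IsNondegenerateRootSet S)
    (hA : A ∈ S) : HasPartner S A := by
  obtain ⟨A₀, hA₀, B₀, hB₀, h⟩ := hnd.2.1
  obtain ⟨g, rfl⟩ := hS.2.2 A₀ hA₀ A hA
  exact hasPartner_conjBy hS.1 ⟨B₀, hB₀, h⟩ g

theorem exists_linePartner (hS : IsRootSubgroupClass S) (hnd : IsNondegenerateRootSet S)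
    (hA : A ∈ S) : ∃ B, B ∈ linePartners S A := by
  obtain ⟨A₀, hA₀, B₀, -, h⟩ := hnd.2.2
  obtain ⟨g, rfl⟩ := hS.2.2 A₀ hA₀ A hA
  exact ⟨_, linePartners_conj hS.1 g
    (mem_linePartners' hS.1 hA₀ (hasPartner_of_class hS hnd hA₀) h)⟩

theorem exists_line_commutator (hS : IsRootSubgroupClass S) (hnd : IsNondegenerateRootSet S)
    (hA : A ∈ S) (hE : E ∈ S) (hAE : IsRankOnePair A E) :
    ∃ F ∈ S, F ∈ linePartners S A ∧ RootCommutatorCase S F E ∧
      RootCommutatorCase S A ⁅F, E⁆ ∧ ⁅A, ⁅F, E⁆⁆ = F := by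
  obtain ⟨B, hB⟩ := exists_linePartner hS hnd hA
  obtain ⟨F, hF, hr, hr', heq, -, -⟩ := line_structure hS.1 hA hE hAE hB
  refine ⟨F, hF, ?_, hr, hr', heq⟩
  have := mem_linePartners' hS.1 hA ⟨E, hE, hAE⟩ hr'
  rwa [heq] at this

theorem special_of_class (hS : IsRootSubgroupClass S) (hnd : IsNondegenerateRootSet S)
    (hA : A ∈ S) (hE : E ∈ S) (hAE : IsRankOnePair A E) : IsSpecialRankOnePair A E := by
  obtain ⟨F, hF, -, hr, hr', heq⟩ := exists_line_commutator hS hnd hA hE hAE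
  have hD := hr.1
  set D := ⁅F, E⁆ with hDdef
  set Y := A ⊔ E with hY
  set N₀ := F ⊔ D with hN₀
  have hFD : ∀ f ∈ F, ∀ d ∈ D, f * d = d * f := comm_left_commutator hr
  have hcN : ∀ x ∈ N₀, ∀ y ∈ N₀, x * y = y * x := by
    intro x hx
    apply comm_sup
    · intro f hf
      exact (comm_sup (z := f) (fun f' hf' => comm_self hS.1 hF hf hf')
        (fun d hd => hFD f hf d hd) x hx).symm
    · intro d hd
      exact (comm_sup (z := d) (fun f' hf' => (hFD f' hf' d hd).symm)
        (fun d' hd' => comm_self hS.1 hD hd hd') x hx).symm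
  -- how the two root subgroups move `F` and `D`
  have hAF : ∀ a ∈ A, ∀ f ∈ F, a * f = f * a := fun a ha f hf =>
    comm_left_commutator hr' a ha f (by rw [heq]; exact hf)
  have hED : ∀ e ∈ E, ∀ d ∈ D, e * d = d * e := fun e he d hd =>
    (hr.2.1 d hd e (Subgroup.mem_sup_right he)).symm
  have hAD : ∀ a ∈ A, ∀ d ∈ D, a * d * a⁻¹ * d⁻¹ ∈ F := fun a ha d hd => by
    rw [← heq]; exact Subgroup.commutator_mem_commutator ha hd
  have hEF : ∀ e ∈ E, ∀ f ∈ F, e * f * e⁻¹ * f⁻¹ ∈ D := fun e he f hf => by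
    rw [hDdef, Subgroup.commutator_comm]; exact Subgroup.commutator_mem_commutator he hf
  have hnorm : Y ≤ Subgroup.normalizer (N₀ : Set G) := by
    have key : ∀ g : G, conjBy N₀ g ≤ N₀ → conjBy N₀ g⁻¹ ≤ N₀ →
        g ∈ Subgroup.normalizer (N₀ : Set G) := fun g h1 h2 => by
      refine conjBy_eq_self_iff.mp (le_antisymm h1 ?_)
      have := conjBy_mono g h2
      rwa [conjBy_cancel] at this
    have hA' : ∀ a ∈ A, conjBy N₀ a ≤ N₀ := by
      intro a ha
      rw [hN₀, conjBy_sup, conjBy_of_comm (hAF a ha)]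
      refine sup_le le_sup_left ?_
      rintro _ ⟨d, hd, rfl⟩
      show a * d * a⁻¹ ∈ F ⊔ D
      rw [show a * d * a⁻¹ = a * d * a⁻¹ * d⁻¹ * d by group]
      exact mul_mem (Subgroup.mem_sup_left (hAD a ha d hd)) (Subgroup.mem_sup_right hd)
    have hE' : ∀ e ∈ E, conjBy N₀ e ≤ N₀ := by
      intro e he
      rw [hN₀, conjBy_sup, conjBy_of_comm (hED e he)]
      refine sup_le ?_ le_sup_right
      rintro _ ⟨f, hf, rfl⟩
      show e * f * e⁻¹ ∈ F ⊔ D
      rw [show e * f * e⁻¹ = e * f * e⁻¹ * f⁻¹ * f by group]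
      exact mul_mem (Subgroup.mem_sup_right (hEF e he f hf)) (Subgroup.mem_sup_left hf)
    exact sup_le (fun a ha => key a (hA' a ha) (hA' _ (inv_mem ha)))
      (fun e he => key e (hE' e he) (hE' _ (inv_mem he)))
  letI : CommGroup ↥N₀ :=
    { (inferInstance : Group ↥N₀) with mul_comm := fun x y => Subtype.ext (hcN x x.2 y y.2) }
  letI : DistribMulAction ↥Y (Additive ↥N₀) :=
    { smul := fun y n => Additive.ofMul
        ⟨(y : G) * ((Additive.toMul n : ↥N₀) : G) * (y : G)⁻¹, by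
          have := (Subgroup.mem_normalizer_iff.mp (hnorm y.2) _).mp (Additive.toMul n).2
          exact this⟩
      one_smul := fun n => by
        apply Additive.toMul.injective; apply Subtype.ext
        show ((1 : ↥Y) : G) * _ * ((1 : ↥Y) : G)⁻¹ = _
        simp
      mul_smul := fun y z n => by
        apply Additive.toMul.injective; apply Subtype.ext
        show ((y * z : ↥Y) : G) * _ * ((y * z : ↥Y) : G)⁻¹ =
          (y : G) * ((z : G) * _ * (z : G)⁻¹) * (y : G)⁻¹
        simp [mul_assoc]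
      smul_zero := fun y => by
        apply Additive.toMul.injective; apply Subtype.ext
        show (y : G) * ((1 : ↥N₀) : G) * (y : G)⁻¹ = ((1 : ↥N₀) : G)
        simp
      smul_add := fun y m n => by
        apply Additive.toMul.injective; apply Subtype.ext
        show (y : G) * (((Additive.toMul m : ↥N₀) : G) * ((Additive.toMul n : ↥N₀) : G)) * (y : G)⁻¹ =
          ((y : G) * _ * (y : G)⁻¹) * ((y : G) * _ * (y : G)⁻¹)
        simp [mul_assoc] }
  have hgen : A.subgroupOf Y ⊔ E.subgroupOf Y = ⊤ := (RankOne.isRankOneGroup_self hAE).1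
  have hpair := (RankOne.isRankOneGroup_self hAE).2
  have hq : ∀ a ∈ A.subgroupOf Y, ∀ a' ∈ A.subgroupOf Y, ∀ n : Additive ↥N₀,
      a' • (a • n - n) = a • n - n := by
    intro a ha a' ha' n
    apply Additive.toMul.injective
    apply Subtype.ext
    show (a' : G) * ((a : G) * ((Additive.toMul n : ↥N₀) : G) * (a : G)⁻¹ /
        ((Additive.toMul n : ↥N₀) : G)) * (a' : G)⁻¹ =
      (a : G) * ((Additive.toMul n : ↥N₀) : G) * (a : G)⁻¹ / ((Additive.toMul n : ↥N₀) : G)
    have hm : (a : G) * ((Additive.toMul n : ↥N₀) : G) * (a : G)⁻¹ /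
        ((Additive.toMul n : ↥N₀) : G) ∈ F := by
      have ha₀ : (a : G) ∈ A := ha
      obtain ⟨f, hf, d, hd, e⟩ := sup_mem_of_comm hFD (Additive.toMul n : ↥N₀).2
      rw [e, div_eq_mul_inv]
      have h1 := hAF _ ha₀ f hf
      rw [show (a : G) * (f * d) * (a : G)⁻¹ * (f * d)⁻¹ =
        ((a : G) * f) * d * (a : G)⁻¹ * d⁻¹ * f⁻¹ by group, h1]
      have := mul_mem (mul_mem hf (hAD _ ha₀ d hd)) (inv_mem hf)
      simpa [mul_assoc] using this
    rw [hAF (a' : G) (show (a' : G) ∈ A from ha') _ hm, mul_inv_cancel_right]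
  obtain ⟨a, ha, ha1⟩ := exists_ne_one (RankOne.left_ne_bot hAE)
  obtain ⟨d, hd, hd1⟩ := exists_ne_one (hS.1.ne_bot D hD)
  have hu1 : ⁅a, d⁆ ≠ 1 := commutatorElement_ne_one hS.1 hA ⟨E, hE, hAE⟩ hr' ha ha1 hd hd1
  obtain ⟨e, he, he1⟩ := exists_ne_one (RankOne.right_ne_bot hAE)
  have huF : ⁅a, d⁆ ∈ F := by rw [← heq]; exact Subgroup.commutator_mem_commutator ha hd
  have hX : ∃ x y : ↥Y, ∃ n : Additive ↥N₀, y • (x • n - n) ≠ x • n - n := by
    refine ⟨⟨a, Subgroup.mem_sup_left ha⟩, ⟨e, Subgroup.mem_sup_right he⟩,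
      Additive.ofMul ⟨d, Subgroup.mem_sup_right hd⟩, fun h => ?_⟩
    have h' : e * (a * d * a⁻¹ / d) * e⁻¹ = a * d * a⁻¹ / d :=
      congrArg Subtype.val (congrArg Additive.toMul h)
    rw [div_eq_mul_inv] at h'
    refine commutatorElement_ne_one hS.1 hE ⟨A, hA, RankOnePair_symm hAE⟩ (rcc_symm hr) he he1
      huF hu1 ?_
    rw [commutatorElement_eq_one_iff_mul_comm]
    exact mul_inv_eq_iff_eq_mul.mp h'
  have := RankOne.special_of_quadratic hgen hpair hq hX
  have h2 := RankOne.special_map_of_injective Y.subtype Y.subtype_injective this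
  rwa [Subgroup.map_subgroupOf_eq_of_le (show A ≤ Y from le_sup_left),
    Subgroup.map_subgroupOf_eq_of_le (show E ≤ Y from le_sup_right)] at h2

/-- A relation on members which is stable under generators connects conjugate members. -/
theorem reach_linePartners (hS : IsRootSubgroupClass S) (hnd : IsNondegenerateRootSet S)
    (hA : A ∈ S) (hB : B ∈ S) : Relation.ReflTransGen (EAdj S S) A B := by
  have hp : ∀ X ∈ S, HasPartner S X := fun X hX => hasPartner_of_class hS hnd hX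
  have symm : ∀ X Y, EAdj S S X Y → EAdj S S Y X := fun X Y h =>
    ⟨h.2.1, h.1, linePartners_symm h.1 h.2.2⟩
  have rsymm : ∀ X Y, Relation.ReflTransGen (EAdj S S) X Y →
      Relation.ReflTransGen (EAdj S S) Y X := by
    intro X Y h
    induction h with
    | refl => exact Relation.ReflTransGen.refl
    | tail _ hxy ih => exact (Relation.ReflTransGen.single (symm _ _ hxy)).trans ih
  have rconj : ∀ (g : G) X Y, Relation.ReflTransGen (EAdj S S) X Y →
      Relation.ReflTransGen (EAdj S S) (conjBy X g) (conjBy Y g) := by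
    intro g X Y h
    induction h with
    | refl => exact Relation.ReflTransGen.refl
    | tail _ hxy ih => exact ih.tail ⟨hS.1.conj_mem _ hxy.1 g, hS.1.conj_mem _ hxy.2.1 g,
        linePartners_conj hS.1 g hxy.2.2⟩
  have gen : ∀ E ∈ S, ∀ e ∈ E, ∀ X ∈ S, Relation.ReflTransGen (EAdj S S) X (conjBy X e) := by
    intro E hE e he X hX
    rcases hS.1.pair X hX E hE with hc | hr | hr
    · rw [conjBy_of_comm fun x hx => (comm_of_commutator_eq_bot hc hx he).symm]
    · obtain ⟨F, hF, hFl, hq, -, -⟩ := exists_line_commutator hS hnd hX hE hr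
      have hXE : Relation.ReflTransGen (EAdj S S) X E := by
        refine ((Relation.ReflTransGen.single ⟨hX, hF, hFl⟩).tail
          ⟨hF, hq.1, mem_linePartners' hS.1 hF (hp F hF) hq⟩).tail ⟨hq.1, hE, ?_⟩
        have := mem_linePartners hS.1 hE (hp E hE) (rcc_symm hq)
        rwa [Subgroup.commutator_comm E F] at this
      have := rconj e X E hXE
      rw [conjBy_of_mem he] at this
      exact hXE.trans (rsymm _ _ this)
    · have hL := mem_linePartners' hS.1 hX (hp X hX) hr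
      have hX' := hS.1.conj_mem X hX e
      have hL' := linePartners_conj hS.1 e hL
      rw [conjBy_of_comm fun c hc => (hr.2.1 c hc e (Subgroup.mem_sup_right he)).symm] at hL'
      exact (Relation.ReflTransGen.single ⟨hX, hr.1, hL⟩).tail
        (symm _ _ ⟨hX', hr.1, hL'⟩)
  obtain ⟨g, rfl⟩ := hS.2.2 A hA B hB
  have hg : g ∈ (⊤ : Subgroup G) := trivial
  rw [← hS.1.generates] at hg
  clear hB
  induction hg using Subgroup.iSup_induction' generalizing A with
  | hp E x hx =>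
    by_cases hE : E ∈ S
    · rw [iSup_pos hE] at hx; exact gen E hE x hx A hA
    · rw [iSup_neg hE, Subgroup.mem_bot] at hx
      rw [hx, conjBy_one]
  | h1 => rw [conjBy_one]
  | hmul x y _ _ ihx ihy =>
    rw [← conjBy_conjBy]
    exact (ihy hA).trans (ihx (hS.1.conj_mem A hA y))

/-- `G = ⟨Λ_A, B⟩`. -/
theorem generated_line_partner (hS : IsRootSubgroupClass S) (hnd : IsNondegenerateRootSet S)
    (hA : A ∈ S) (hE : E ∈ S) (hAE : IsRankOnePair A E) :
    (⨆ X ∈ linePartners S A, X) ⊔ E = ⊤ := by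
  set U := (⨆ X ∈ linePartners S A, X) with hU
  set H₀ := U ⊔ E
  have hp : ∀ X ∈ S, HasPartner S X := fun X hX => hasPartner_of_class hS hnd hX
  have hle : ∀ X ∈ linePartners S A, X ≤ H₀ := fun X hX =>
    (le_biSup (fun X => X) hX).trans le_sup_left
  -- `A` and the orbit closure
  have step : ∀ X ∈ linePartners S A, ∃ h ∈ H₀, X = conjBy A h := by
    intro X hX
    obtain ⟨F, hF, hr, hr', heq, hline, hne⟩ := line_structure hS.1 hA hE hAE hX
    have hFl : F ∈ linePartners S A := by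
      have := mem_linePartners' hS.1 hA (hp A hA) hr'
      rwa [heq] at this
    have hDle : ⁅F, E⁆ ≤ H₀ := (Subgroup.commutator_le_sup F E).trans
      (sup_le (hle F hFl) le_sup_right)
    have hXm : X ∈ membersIn S (A ⊔ ⁅A, ⁅F, E⁆⁆) :=
      ⟨hX.1.1, by rw [heq, ← hline]; exact le_sup_right⟩
    rw [membersIn_line hS.1 hA (hp A hA) hr'] at hXm
    rcases hXm with ⟨d, hd, rfl⟩ | hXF
    · exact ⟨d, hDle hd, rfl⟩
    · rw [Set.mem_singleton_iff, heq] at hXF
      subst hXF
      obtain ⟨T, hT, hrT, hTe⟩ :=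
        exists_centre_mover hS.1 hA (hp A hA) hr' (by rw [heq]; exact hp X hF)
      rw [heq] at hrT hTe
      have hTl : T ∈ linePartners S A := by
        have h2 := mem_linePartners hS.1 hT (hp T hT) (rcc_symm hrT)
        rwa [Subgroup.commutator_comm, hTe] at h2
      obtain ⟨t, ht, ht1⟩ := exists_ne_one (hS.1.ne_bot T hT)
      have hmem : conjBy X t ∈ membersIn S (A ⊔ ⁅A, ⁅X, E⁆⁆) := by
        refine ⟨hS.1.conj_mem X hF t, ?_⟩
        rw [heq]
        have := conjBy_le_line hrT ht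
        rw [hTe, sup_comm] at this
        exact this
      rw [membersIn_line hS.1 hA (hp A hA) hr', heq] at hmem
      obtain ⟨d, hd, e⟩ := hmem.resolve_right fun e =>
        conjBy_ne_self hS.1 hF (hp X hF) hrT ht ht1 (Set.mem_singleton_iff.mp e)
      refine ⟨t⁻¹ * d, mul_mem (inv_mem (hle T hTl ht)) (hDle hd), ?_⟩
      simp only at e
      rw [← conjBy_conjBy, e, conjBy_inv_cancel]
  have hAle : A ≤ H₀ := by
    obtain ⟨F, -, hFl, hr, hr', heq⟩ := exists_line_commutator hS hnd hA hE hAE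
    obtain ⟨d, hd, hd1⟩ := exists_ne_one (hS.1.ne_bot _ hr.1)
    have h1 := hle _ (translate_mem_linePartners hS.1 hA (hp A hA) hr' hd hd1)
    have hdH : d ∈ H₀ := (Subgroup.commutator_le_sup F E).trans
      (sup_le (hle F hFl) le_sup_right) hd
    have := conjBy_mono d⁻¹ h1
    rwa [conjBy_inv_cancel, conjBy_of_mem (inv_mem hdH)] at this
  have orbit : ∀ X ∈ S, ∃ h ∈ H₀, X = conjBy A h := by
    intro X hX
    induction reach_linePartners hS hnd hA hX with
    | refl => exact ⟨1, one_mem _, (conjBy_one A).symm⟩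
    | tail hAY hYX ih =>
      obtain ⟨h, hh, rfl⟩ := ih hYX.1
      have hl := linePartners_conj hS.1 h⁻¹ hYX.2.2
      rw [conjBy_inv_cancel] at hl
      obtain ⟨k, hk, e⟩ := step _ hl
      exact ⟨h * k, mul_mem hh hk, by rw [← conjBy_conjBy, ← e, conjBy_cancel]⟩
  rw [eq_top_iff, ← hS.1.generates]
  refine iSup₂_le fun X hX => ?_
  obtain ⟨h, hh, rfl⟩ := orbit X hX
  exact conjBy_le_of_mem hAle hh

end Class

end Cfsg.Agent.Lib.RootSubgroups.Root
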