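import Cfsg.Agent.Lib.RootSubgroups.Conj

/-! Basic theory of rank one pairs (Timmesfeld, I.1–I.2). -/

namespace Cfsg.Agent.Lib.RootSubgroups

open Cfsg

variable {G H : Type*} [Group G] [Group H] {A B C D : Subgroup G}

/-- `a` and `b` correspond to each other in the pair `(A, B)`: `b = b(a)`. -/
structure Rel (A B : Subgroup G) (a b : G) : Prop where
  memA : a ∈ A
  neA : a ≠ 1
  memB : b ∈ B
  neB : b ≠ 1
  eq : conjBy A b⁻¹ = conjBy B a⁻¹

theorem Rel.symm {a b : G} (r : Rel A B a b) : Rel B A b a :=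
  ⟨r.memB, r.neB, r.memA, r.neA, r.eq.symm⟩

namespace RankOne

theorem exists_rel (h : IsRankOnePair A B) {a : G} (ha : a ∈ A) (ha1 : a ≠ 1) :
    ∃ b, Rel A B a b := by
  obtain ⟨b, hb, hb1, e⟩ := h.cond_left a ha ha1
  exact ⟨b, ha, ha1, hb, hb1, e⟩

theorem exists_rel' (h : IsRankOnePair A B) {b : G} (hb : b ∈ B) (hb1 : b ≠ 1) :
    ∃ a, Rel A B a b := by
  obtain ⟨a, r⟩ := exists_rel (RankOnePair_symm h) hb hb1
  exact ⟨a, r.symm⟩

theorem left_ne_bot (h : IsRankOnePair A B) : A ≠ ⊥ := by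
  intro hA
  apply h.ne
  rw [hA]
  by_contra hB
  obtain ⟨b, hb, hb1⟩ := exists_ne_one (Ne.symm hB)
  obtain ⟨a, r⟩ := exists_rel' h hb hb1
  exact r.neA (by simpa [hA] using r.memA)

theorem right_ne_bot (h : IsRankOnePair A B) : B ≠ ⊥ := left_ne_bot (RankOnePair_symm h)

theorem eq_one_of_normalizes (h : IsRankOnePair A B) {a : G} (ha : a ∈ A)
    (hn : conjBy B a = B) : a = 1 := by
  by_contra ha1
  obtain ⟨b, r⟩ := exists_rel h ha ha1
  have e := r.eq
  rw [show conjBy B a⁻¹ = B from (conjBy_eq_iff.mp hn).symm] at e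
  apply h.ne
  rw [conjBy_eq_iff.mp e, inv_inv, conjBy_of_mem r.memB]

theorem eq_one_of_normalizes' (h : IsRankOnePair A B) {b : G} (hb : b ∈ B)
    (hn : conjBy A b = A) : b = 1 := eq_one_of_normalizes (RankOnePair_symm h) hb hn

theorem inf_normalizer (h : IsRankOnePair A B) :
    A ⊓ Subgroup.normalizer (B : Set G) = ⊥ :=
  (Subgroup.eq_bot_iff_forall _).mpr fun _ hx =>
    eq_one_of_normalizes h hx.1 (conjBy_eq_self_iff.mpr hx.2)

theorem eq_one_of_mem_both (h : IsRankOnePair A B) {x : G} (hA : x ∈ A) (hB : x ∈ B) : x = 1 :=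
  eq_one_of_normalizes h hA (conjBy_of_mem hB)

theorem eq_one_of_centralizes (h : IsRankOnePair A B) {a : G} (ha : a ∈ A)
    (hc : ∀ b ∈ B, a * b = b * a) : a = 1 :=
  eq_one_of_normalizes h ha (conjBy_of_comm hc)

theorem not_commute (h : IsRankOnePair A B) : ⁅A, B⁆ ≠ ⊥ := by
  intro hc
  obtain ⟨a, ha, ha1⟩ := exists_ne_one (left_ne_bot h)
  exact ha1 (eq_one_of_centralizes h ha fun b hb => comm_of_commutator_eq_bot hc ha hb)

theorem translate_inj (h : IsRankOnePair A B) {a a' : G} (ha : a ∈ A) (ha' : a' ∈ A)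
    (e : conjBy B a = conjBy B a') : a = a' := by
  have h1 : conjBy B (a'⁻¹ * a) = B := by rw [← conjBy_conjBy, e, conjBy_inv_cancel]
  exact (inv_mul_eq_one.mp (eq_one_of_normalizes h (mul_mem (inv_mem ha') ha) h1)).symm

theorem translate_ne (h : IsRankOnePair A B) {a : G} (ha : a ∈ A) : conjBy B a ≠ A := by
  intro e
  exact h.ne (by rw [conjBy_eq_iff.mp e, conjBy_of_mem (inv_mem ha)])

theorem rel_unique_right (h : IsRankOnePair A B) {a b b' : G} (r : Rel A B a b)
    (r' : Rel A B a b') : b = b' :=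
  inv_injective (translate_inj (RankOnePair_symm h) (inv_mem r.memB) (inv_mem r'.memB)
    (r.eq.trans r'.eq.symm))

theorem rel_unique_left (h : IsRankOnePair A B) {a a' b : G} (r : Rel A B a b)
    (r' : Rel A B a' b) : a = a' :=
  rel_unique_right (RankOnePair_symm h) r.symm r'.symm

/-- The two descriptions `A`, `B^A` of the points. -/
def points (A B : Subgroup G) : Set (Subgroup G) := {C | C = A ∨ ∃ a ∈ A, C = conjBy B a}

theorem conjBy_points_left {g : G} (hg : g ∈ A) (hC : C ∈ points A B) :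
    conjBy C g ∈ points A B := by
  rcases hC with rfl | ⟨a, ha, rfl⟩
  · exact Or.inl (conjBy_of_mem hg)
  · exact Or.inr ⟨g * a, mul_mem hg ha, conjBy_conjBy _ _ _⟩

theorem conjBy_points_right (h : IsRankOnePair A B) {g : G} (hg : g ∈ B)
    (hC : C ∈ points A B) : conjBy C g ∈ points A B := by
  have key : ∀ b ∈ B, conjBy A b ∈ points A B := by
    intro b hb
    by_cases hb1 : b = 1
    · exact Or.inl (by rw [hb1, conjBy_one])
    · obtain ⟨a, r⟩ := exists_rel' h (inv_mem hb) (by simpa using hb1)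
      exact Or.inr ⟨a⁻¹, inv_mem r.memA, by simpa using r.eq⟩
  rcases hC with rfl | ⟨a, ha, rfl⟩
  · exact key g hg
  · by_cases ha1 : a = 1
    · exact Or.inr ⟨1, one_mem _, by rw [ha1, conjBy_one, conjBy_of_mem hg]⟩
    · obtain ⟨b, r⟩ := exists_rel h (inv_mem ha) (by simpa using ha1)
      have e : conjBy B a = conjBy A b⁻¹ := by simpa using r.eq.symm
      rw [e, conjBy_conjBy]
      exact key _ (mul_mem hg (inv_mem r.memB))

theorem conjBy_points (h : IsRankOnePair A B) {x : G} (hx : x ∈ A ⊔ B) :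
    ∀ C ∈ points A B, conjBy C x ∈ points A B ∧ conjBy C x⁻¹ ∈ points A B := by
  rw [Subgroup.sup_eq_closure] at hx
  induction hx using Subgroup.closure_induction with
  | mem g hg =>
    intro C hC
    rcases hg with hg | hg
    · exact ⟨conjBy_points_left hg hC, conjBy_points_left (inv_mem hg) hC⟩
    · exact ⟨conjBy_points_right h hg hC, conjBy_points_right h (inv_mem hg) hC⟩
  | one => intro C hC; simp [hC]
  | mul g k _ _ ihg ihk =>
    intro C hC
    constructor
    · rw [← conjBy_conjBy]; exact (ihg _ (ihk C hC).1).1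
    · rw [mul_inv_rev, ← conjBy_conjBy]; exact (ihk _ (ihg C hC).2).2
  | inv g _ ih =>
    intro C hC
    rw [inv_inv]
    exact ⟨(ih C hC).2, (ih C hC).1⟩

theorem left_mem (A B : Subgroup G) : A ∈ unipotentSubgroups A B :=
  ⟨1, one_mem _, (conjBy_one A).symm⟩

theorem exists_swap_left (h : IsRankOnePair A B) : ∃ x ∈ A ⊔ B, conjBy A x = B := by
  obtain ⟨a, ha, ha1⟩ := exists_ne_one (left_ne_bot h)
  obtain ⟨b, r⟩ := exists_rel h ha ha1
  refine ⟨a * b⁻¹, mul_mem (Subgroup.mem_sup_left ha) (Subgroup.mem_sup_right (inv_mem r.memB)), ?_⟩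
  rw [← conjBy_conjBy, r.eq, conjBy_cancel]

theorem right_mem (h : IsRankOnePair A B) : B ∈ unipotentSubgroups A B := by
  obtain ⟨x, hx, e⟩ := exists_swap_left h
  exact ⟨x, hx, e.symm⟩

theorem conjBy_mem_unipotent {x : G} (hx : x ∈ A ⊔ B) (hC : C ∈ unipotentSubgroups A B) :
    conjBy C x ∈ unipotentSubgroups A B := by
  obtain ⟨y, hy, rfl⟩ := hC
  exact ⟨x * y, mul_mem hx hy, conjBy_conjBy _ _ _⟩

theorem unipotent_eq_points (h : IsRankOnePair A B) :
    unipotentSubgroups A B = points A B := by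
  ext C
  constructor
  · rintro ⟨x, hx, rfl⟩
    exact (conjBy_points h hx A (Or.inl rfl)).1
  · rintro (rfl | ⟨a, ha, rfl⟩)
    · exact left_mem _ _
    · exact conjBy_mem_unipotent (Subgroup.mem_sup_left ha) (right_mem h)

theorem mem_iff (h : IsRankOnePair A B) :
    C ∈ unipotentSubgroups A B ↔ C = A ∨ ∃ a ∈ A, C = conjBy B a := by
  rw [unipotent_eq_points h]; rfl

theorem eq_translate (h : IsRankOnePair A B) (hC : C ∈ unipotentSubgroups A B) (hne : C ≠ A) :
    ∃ a ∈ A, C = conjBy B a :=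
  ((mem_iff h).mp hC).resolve_left hne

theorem le_of_mem (hC : C ∈ unipotentSubgroups A B) : C ≤ A ⊔ B := by
  obtain ⟨x, hx, rfl⟩ := hC
  exact conjBy_le_of_mem le_sup_left hx

theorem transitive_pairs (h : IsRankOnePair A B) (hC : C ∈ unipotentSubgroups A B)
    (hD : D ∈ unipotentSubgroups A B) (hne : C ≠ D) :
    ∃ x ∈ A ⊔ B, conjBy A x = C ∧ conjBy B x = D := by
  obtain ⟨x, hx, rfl⟩ := hC
  have hne' : conjBy D x⁻¹ ≠ A := fun e => hne (by rw [← e, conjBy_cancel])
  obtain ⟨a, ha, e⟩ := eq_translate h (conjBy_mem_unipotent (inv_mem hx) hD) hne'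
  refine ⟨x * a, mul_mem hx (Subgroup.mem_sup_left ha), ?_, ?_⟩
  · rw [← conjBy_conjBy, conjBy_of_mem ha]
  · rw [← conjBy_conjBy, ← e, conjBy_cancel]

/-- Rank one pairs are preserved by homomorphisms which are injective on both members and
separate them. -/
theorem map (f : G →* H) (h : IsRankOnePair A B) (hA : ∀ a ∈ A, f a = 1 → a = 1)
    (hB : ∀ b ∈ B, f b = 1 → b = 1) (hne : A.map f ≠ B.map f) :
    IsRankOnePair (A.map f) (B.map f) := by
  have nil : ∀ A : Subgroup G, Group.IsNilpotent A → Group.IsNilpotent (A.map f) := by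
    intro A hA
    exact Group.nilpotent_of_surjective (f.subgroupMap A) (f.subgroupMap_surjective A)
  have cond : ∀ A B : Subgroup G, (∀ b ∈ B, f b = 1 → b = 1) → RankOneCondition A B →
      RankOneCondition (A.map f) (B.map f) := by
    rintro A B hB hc _ ⟨a, ha, rfl⟩ ha1
    obtain ⟨b, hb, hb1, e⟩ := hc a ha fun e => ha1 (by rw [e, map_one])
    refine ⟨f b, ⟨b, hb, rfl⟩, fun e => hb1 (hB b hb e), ?_⟩
    rw [← map_inv, ← map_inv, ← map_conjBy, ← map_conjBy, e]
  exact ⟨hne, nil A h.nilpotent_left, nil B h.nilpotent_right, cond A B hB h.cond_left,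
    cond B A hA h.cond_right⟩

theorem map_of_injective (f : G →* H) (hf : Function.Injective f) (h : IsRankOnePair A B) :
    IsRankOnePair (A.map f) (B.map f) :=
  map f h (fun _ _ e => hf (e.trans (map_one f).symm)) (fun _ _ e => hf (e.trans (map_one f).symm))
    fun e => h.ne (Subgroup.map_injective hf e)

theorem conj (h : IsRankOnePair A B) (g : G) : IsRankOnePair (conjBy A g) (conjBy B g) :=
  map_of_injective _ (MulAut.conj g).injective h

theorem pair_of_mem (h : IsRankOnePair A B) (hC : C ∈ unipotentSubgroups A B)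
    (hD : D ∈ unipotentSubgroups A B) (hne : C ≠ D) : IsRankOnePair C D ∧ C ⊔ D = A ⊔ B := by
  obtain ⟨x, hx, rfl, rfl⟩ := transitive_pairs h hC hD hne
  exact ⟨conj h x, by rw [← conjBy_sup, conjBy_of_mem hx]⟩

theorem eq_of_mem_both (h : IsRankOnePair A B) (hC : C ∈ unipotentSubgroups A B)
    (hD : D ∈ unipotentSubgroups A B) {x : G} (hxC : x ∈ C) (hxD : x ∈ D) (hx : x ≠ 1) :
    C = D := by
  by_contra hne
  exact hx (eq_one_of_mem_both (pair_of_mem h hC hD hne).1 hxC hxD)

theorem unipotent_symm (h : IsRankOnePair A B) :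
    unipotentSubgroups B A = unipotentSubgroups A B := by
  obtain ⟨x, hx, e⟩ := exists_swap_left h
  ext C
  constructor
  · rintro ⟨y, hy, rfl⟩
    rw [sup_comm] at hy
    exact conjBy_mem_unipotent hy (right_mem h)
  · rintro ⟨y, hy, rfl⟩
    refine ⟨y * x⁻¹, by rw [sup_comm]; exact mul_mem hy (inv_mem hx), ?_⟩
    rw [← conjBy_conjBy, ← e, conjBy_inv_cancel]

/-- An element fixing every point centralizes the rank one group. -/
theorem comm_of_fixes (h : IsRankOnePair A B) {n : G}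
    (hn : ∀ C ∈ unipotentSubgroups A B, conjBy C n = C) : ∀ y ∈ A ⊔ B, n * y = y * n := by
  have key : ∀ A B : Subgroup G, IsRankOnePair A B →
      (∀ C ∈ unipotentSubgroups A B, conjBy C n = C) → ∀ a ∈ A, n * a = a * n := by
    intro A B h hn a ha
    have hm : n * a * n⁻¹ ∈ A := by
      have := conj_mem_conjBy (g := n) ha
      rwa [hn A (left_mem A B)] at this
    have h1 : conjBy B (n * a * n⁻¹) = conjBy B a := by
      rw [← conjBy_conjBy, ← conjBy_eq_iff.mp (hn B (right_mem h)), ← conjBy_conjBy,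
        hn _ (conjBy_mem_unipotent (Subgroup.mem_sup_left ha) (right_mem h))]
    exact mul_inv_eq_iff_eq_mul.mp (translate_inj h hm ha h1)
  apply comm_sup (key A B h hn)
  refine key B A (RankOnePair_symm h) ?_
  rw [unipotent_symm h]
  exact hn

/-- A central element of the rank one group in a point is trivial; more generally an element of
the normalizer of one point in a different point is trivial. -/
theorem eq_one_of_fix_point (h : IsRankOnePair A B) (hC : C ∈ unipotentSubgroups A B)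
    (hD : D ∈ unipotentSubgroups A B) (hne : C ≠ D) {c : G} (hc : c ∈ C)
    (hn : conjBy D c = D) : c = 1 :=
  eq_one_of_normalizes (pair_of_mem h hC hD hne).1 hc hn

/-- A subgroup of `⟨A,B⟩` normalized by it is central or supplements `A`. -/
theorem central_or_supplement (h : IsRankOnePair A B) {N : Subgroup G} (hN : N ≤ A ⊔ B)
    (hnorm : ∀ y ∈ A ⊔ B, ∀ n ∈ N, y * n * y⁻¹ ∈ N) :
    (∀ n ∈ N, ∀ y ∈ A ⊔ B, n * y = y * n) ∨ N ⊔ A = A ⊔ B := by
  by_cases hfix : ∀ n ∈ N, ∀ C ∈ unipotentSubgroups A B, conjBy C n = C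
  · exact Or.inl fun n hn => comm_of_fixes h (hfix n hn)
  · right
    push Not at hfix
    obtain ⟨n, hn, C, ⟨x, hx, rfl⟩, hne⟩ := hfix
    have hn' : x⁻¹ * n * x ∈ N := by simpa using hnorm x⁻¹ (inv_mem hx) n hn
    have hmove : conjBy A (x⁻¹ * n * x) ≠ A := by
      intro e
      apply hne
      apply conjBy_inj (g := x⁻¹)
      simpa [conjBy_conjBy, mul_assoc] using e
    obtain ⟨a, ha, e⟩ := eq_translate h
      (conjBy_mem_unipotent (hN hn') (left_mem A B)) hmove
    refine le_antisymm (sup_le hN le_sup_left) (sup_le le_sup_right ?_)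
    have hB : B = conjBy A (a⁻¹ * (x⁻¹ * n * x)) := by
      rw [← conjBy_conjBy, e, conjBy_inv_cancel]
    rw [hB]
    exact conjBy_le_of_mem le_sup_right
      (mul_mem (Subgroup.mem_sup_right (inv_mem ha)) (Subgroup.mem_sup_left hn'))

/-- Elements which are central modulo the centralizer of a rank one group centralize it. -/
theorem comm_of_comm_mod (h : IsRankOnePair A B) {z : G} (hz : z ∈ A ⊔ B)
    (hc : ∀ y ∈ A ⊔ B, ∀ u ∈ A ⊔ B, z * y * z⁻¹ * y⁻¹ * u = u * (z * y * z⁻¹ * y⁻¹)) :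
    ∀ y ∈ A ⊔ B, z * y = y * z := by
  apply comm_of_fixes h
  intro C hC
  by_contra hne
  have hC' := conjBy_mem_unipotent hz hC
  obtain ⟨c, hcC, hc1⟩ := exists_ne_one (left_ne_bot (pair_of_mem h hC hC' (Ne.symm hne)).1)
  have hw := hc c (le_of_mem hC hcC)
  apply hc1
  have key : z * c * z⁻¹ = 1 := by
    refine eq_one_of_fix_point h hC' hC hne (conj_mem_conjBy hcC) ?_
    rw [show z * c * z⁻¹ = z * c * z⁻¹ * c⁻¹ * c by group, ← conjBy_conjBy, conjBy_of_mem hcC]
    exact conjBy_of_comm fun u hu => hw u (le_of_mem hC hu)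
  simpa using key

theorem not_isNilpotent (h : IsRankOnePair A B) : ¬ Group.IsNilpotent ↥(A ⊔ B) := by
  intro hn
  obtain ⟨n, hn⟩ := (Group.isNilpotent_iff ↥(A ⊔ B)).mp hn
  have key : ∀ m, ∀ z ∈ Subgroup.upperCentralSeries ↥(A ⊔ B) m, ∀ y : ↥(A ⊔ B), z * y = y * z := by
    intro m
    induction m with
    | zero =>
      intro z hz y
      rw [Subgroup.upperCentralSeries_zero, Subgroup.mem_bot] at hz
      simp [hz]
    | succ m ih =>
      intro z hz y
      apply Subtype.ext
      refine comm_of_comm_mod h z.2 (fun y hy u hu => ?_) y y.2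
      exact congrArg Subtype.val
        (ih _ (Subgroup.mem_upperCentralSeries_succ_iff.mp hz ⟨y, hy⟩) ⟨u, hu⟩)
  obtain ⟨x, hx, e⟩ := exists_swap_left h
  apply h.ne
  rw [← e, conjBy_of_comm fun a ha => ?_]
  exact congrArg Subtype.val
    (key n ⟨x, hx⟩ (by rw [hn]; trivial) ⟨a, Subgroup.mem_sup_left ha⟩)

end RankOne

end Cfsg.Agent.Lib.RootSubgroups
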