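import Cfsg.Agent.Lib.RootSubgroups.Special
import Cfsg.Agent.Lib.RootSubgroups.SL2

/-! A special rank one group generated by two elements of prime order is an image of `SL₂(p)`. -/

namespace Cfsg.Agent.Lib.RootSubgroups.SL2Prime

open Cfsg
open scoped MatrixGroups Matrix

variable {G : Type*} [Group G] {p : ℕ} [Fact p.Prime]

/-- Powers with exponent in `ZMod p`. -/
def pw (a : G) (t : ZMod p) : G := a ^ t.val

theorem pw_zero (a : G) : pw a (0 : ZMod p) = 1 := by simp [pw]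

theorem pw_one (a : G) : pw a (1 : ZMod p) = a := by simp [pw, ZMod.val_one]

theorem pw_add {a : G} (ha : a ^ p = 1) (s t : ZMod p) : pw a (s + t) = pw a s * pw a t := by
  simp only [pw, ZMod.val_add, ← pow_add]
  exact (pow_eq_pow_mod _ ha).symm

theorem pw_mul {a : G} (ha : a ^ p = 1) (s t : ZMod p) : pw (pw a s) t = pw a (s * t) := by
  simp only [pw, ← pow_mul, ZMod.val_mul]
  exact pow_eq_pow_mod _ ha

theorem pw_neg {a : G} (ha : a ^ p = 1) (t : ZMod p) : pw a (-t) = (pw a t)⁻¹ := by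
  apply eq_inv_of_mul_eq_one_left
  rw [← pw_add ha, neg_add_cancel, pw_zero]

theorem pw_pow {a : G} (ha : a ^ p = 1) (t : ZMod p) : (pw a t) ^ p = 1 := by
  rw [pw, ← pow_mul, mul_comm, pow_mul, ha, one_pow]

theorem conj_pw (x a : G) (t : ZMod p) : x * pw a t * x⁻¹ = pw (x * a * x⁻¹) t :=
  conj_pow.symm

/-- The data used to map `SL₂(p)` onto `⟨a, b⟩`. -/
structure Frame (p : ℕ) [Fact p.Prime] (a b : G) : Prop where
  hap : a ^ p = 1
  hbp : b ^ p = 1
  disj : ∀ s t : ZMod p, pw a s = pw b t → s = 0 ∧ t = 0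
  braid : ∀ u : ZMod p, u ≠ 0 →
    pw a u * pw b (-u⁻¹) * pw a u = pw b (-u⁻¹) * pw a u * pw b (-u⁻¹)

/-- The Weyl element. -/
def M (a b : G) (u : ZMod p) : G := pw a u * pw b (-u⁻¹) * pw a u

/-- The torus element. -/
def hh (a b : G) (u : ZMod p) : G := M a b u * (M a b (1 : ZMod p))⁻¹

namespace Frame

variable {a b : G} (F : Frame p a b)
include F

theorem M_neg (u : ZMod p) : M a b (-u) = (M a b u)⁻¹ := by
  simp only [M, inv_neg, neg_neg]
  rw [pw_neg F.hap, mul_inv_rev, mul_inv_rev, pw_neg F.hbp u⁻¹, inv_inv, mul_assoc]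

theorem M_base_a {u : ZMod p} (hu : u ≠ 0) :
    M a b u * pw a u * (M a b u)⁻¹ = pw b (-u⁻¹) := by
  have e := F.braid u hu
  calc M a b u * pw a u * (M a b u)⁻¹
      = pw a u * pw b (-u⁻¹) * pw a u * ((pw b (-u⁻¹))⁻¹ * (pw a u)⁻¹) := by unfold M; group
    _ = pw b (-u⁻¹) * pw a u * pw b (-u⁻¹) * ((pw b (-u⁻¹))⁻¹ * (pw a u)⁻¹) := by rw [e]
    _ = pw b (-u⁻¹) := by group

theorem M_base_b {u : ZMod p} (hu : u ≠ 0) :
    M a b u * pw b (-u⁻¹) * (M a b u)⁻¹ = pw a u := by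
  have e := F.braid u hu
  calc M a b u * pw b (-u⁻¹) * (M a b u)⁻¹
      = pw a u * pw b (-u⁻¹) * pw a u * pw b (-u⁻¹) * (M a b u)⁻¹ := by unfold M; group
    _ = pw a u * (pw b (-u⁻¹) * pw a u * pw b (-u⁻¹)) * (M a b u)⁻¹ := by group
    _ = pw a u * (pw a u * pw b (-u⁻¹) * pw a u) * (M a b u)⁻¹ := by rw [e]
    _ = pw a u := by unfold M; group

theorem M_conj_a {u : ZMod p} (hu : u ≠ 0) (t : ZMod p) :
    M a b u * pw a t * (M a b u)⁻¹ = pw b (-(t / u ^ 2)) := by
  have e : pw a t = pw (pw a u) (t / u) := by rw [pw_mul F.hap, mul_div_cancel₀ t hu]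
  rw [e, conj_pw, M_base_a F hu, pw_mul F.hbp]
  congr 1
  field_simp

theorem M_conj_b {u : ZMod p} (hu : u ≠ 0) (t : ZMod p) :
    M a b u * pw b t * (M a b u)⁻¹ = pw a (-(t * u ^ 2)) := by
  have e : pw b t = pw (pw b (-u⁻¹)) (-(t * u)) := by
    rw [pw_mul F.hbp]; congr 1; field_simp
  rw [e, conj_pw, M_base_b F hu, pw_mul F.hap]
  congr 1
  ring

theorem M_conj_M {u v : ZMod p} (hu : u ≠ 0) (hv : v ≠ 0) :
    M a b u * M a b v * (M a b u)⁻¹ = M a b (u ^ 2 / v) := by
  have hw : u ^ 2 / v ≠ 0 := div_ne_zero (pow_ne_zero 2 hu) hv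
  calc M a b u * M a b v * (M a b u)⁻¹
      = M a b u * (pw a v * pw b (-v⁻¹) * pw a v) * (M a b u)⁻¹ := rfl
    _ = (M a b u * pw a v * (M a b u)⁻¹) * (M a b u * pw b (-v⁻¹) * (M a b u)⁻¹) *
        (M a b u * pw a v * (M a b u)⁻¹) := by group
    _ = pw b (-(u ^ 2 / v)⁻¹) * pw a (u ^ 2 / v) * pw b (-(u ^ 2 / v)⁻¹) := by
        rw [M_conj_a F hu, M_conj_b F hu, inv_div, show -(-v⁻¹ * u ^ 2) = u ^ 2 / v by
          rw [div_eq_mul_inv]; ring]
    _ = _ := (F.braid _ hw).symm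

theorem hh_conj_a {u : ZMod p} (hu : u ≠ 0) (t : ZMod p) :
    hh a b u * pw a t * (hh a b u)⁻¹ = pw a (t * u ^ 2) := by
  have h1 : (-1 : ZMod p) ≠ 0 := neg_ne_zero.mpr one_ne_zero
  have : hh a b u = M a b u * M a b (-1 : ZMod p) := by rw [hh, M_neg F]
  rw [this]
  calc M a b u * M a b (-1 : ZMod p) * pw a t * (M a b u * M a b (-1 : ZMod p))⁻¹
      = M a b u * (M a b (-1 : ZMod p) * pw a t * (M a b (-1 : ZMod p))⁻¹) * (M a b u)⁻¹ := by group
    _ = pw a (t * u ^ 2) := by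
      rw [M_conj_a F h1, M_conj_b F hu]; congr 1; simp

theorem hh_conj_b {u : ZMod p} (hu : u ≠ 0) (t : ZMod p) :
    hh a b u * pw b t * (hh a b u)⁻¹ = pw b (t / u ^ 2) := by
  have h1 : (-1 : ZMod p) ≠ 0 := neg_ne_zero.mpr one_ne_zero
  have : hh a b u = M a b u * M a b (-1 : ZMod p) := by rw [hh, M_neg F]
  rw [this]
  calc M a b u * M a b (-1 : ZMod p) * pw b t * (M a b u * M a b (-1 : ZMod p))⁻¹
      = M a b u * (M a b (-1 : ZMod p) * pw b t * (M a b (-1 : ZMod p))⁻¹) * (M a b u)⁻¹ := by group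
    _ = pw b (t / u ^ 2) := by
      rw [M_conj_b F h1, M_conj_a F hu]; congr 1; simp [neg_div]

omit F in
theorem mem_fst : a ∈ Subgroup.closure ({a, b} : Set G) :=
  Subgroup.subset_closure (Set.mem_insert a {b})

omit F in
theorem mem_snd : b ∈ Subgroup.closure ({a, b} : Set G) :=
  Subgroup.subset_closure (Set.mem_insert_of_mem a rfl)

omit F in
theorem M_mem (u : ZMod p) : M a b u ∈ Subgroup.closure ({a, b} : Set G) :=
  mul_mem (mul_mem (pow_mem mem_fst _) (pow_mem mem_snd _)) (pow_mem mem_fst _)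

omit F in
theorem hh_mem (u : ZMod p) : hh a b u ∈ Subgroup.closure ({a, b} : Set G) :=
  mul_mem (M_mem u) (inv_mem (M_mem 1))

theorem hh_comm {u v : ZMod p} (hu : u ≠ 0) (hv : v ≠ 0) : Commute (hh a b u) (hh a b v) := by
  obtain ⟨g, hg⟩ := IsCyclic.exists_generator (α := (ZMod p)ˣ)
  have key : ∀ w : ZMod p, w ≠ 0 → ∃ (n : ℕ) (z : G), hh a b w = hh a b (g : ZMod p) ^ n * z ∧
      ∀ x ∈ Subgroup.closure ({a, b} : Set G), Commute z x := by
    intro w hw
    obtain ⟨n, hn⟩ : ∃ n : ℕ, g ^ n = Units.mk0 w hw :=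
      Submonoid.mem_powers_iff _ _ |>.mp (mem_powers_iff_mem_zpowers.mpr (hg _))
    have sc : ∀ m : ℕ, (∀ t, hh a b (g : ZMod p) ^ m * pw a t * (hh a b (g : ZMod p) ^ m)⁻¹ =
          pw a (t * ((g : ZMod p) ^ m) ^ 2)) ∧
        (∀ t, hh a b (g : ZMod p) ^ m * pw b t * (hh a b (g : ZMod p) ^ m)⁻¹ =
          pw b (t / ((g : ZMod p) ^ m) ^ 2)) := by
      intro m
      induction m with
      | zero => simp
      | succ m ih =>
        constructor <;> intro t
        · rw [pow_succ' (hh a b _), mul_inv_rev]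
          calc _ = hh a b (g : ZMod p) * (hh a b (g : ZMod p) ^ m * pw a t *
                (hh a b (g : ZMod p) ^ m)⁻¹) * (hh a b (g : ZMod p))⁻¹ := by group
            _ = _ := by rw [ih.1, hh_conj_a F g.ne_zero]; congr 1; ring
        · rw [pow_succ' (hh a b _), mul_inv_rev]
          calc _ = hh a b (g : ZMod p) * (hh a b (g : ZMod p) ^ m * pw b t *
                (hh a b (g : ZMod p) ^ m)⁻¹) * (hh a b (g : ZMod p))⁻¹ := by group
            _ = _ := by rw [ih.2, hh_conj_b F g.ne_zero, div_div]; congr 1; ring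
    have hn' : (g : ZMod p) ^ n = w := by
      rw [← Units.val_pow_eq_pow_val, hn, Units.val_mk0]
    refine ⟨n, (hh a b (g : ZMod p) ^ n)⁻¹ * hh a b w, (mul_inv_cancel_left _ _).symm, ?_⟩
    have comm : ∀ x : G, hh a b w * x * (hh a b w)⁻¹ =
        hh a b (g : ZMod p) ^ n * x * (hh a b (g : ZMod p) ^ n)⁻¹ →
        Commute ((hh a b (g : ZMod p) ^ n)⁻¹ * hh a b w) x := by
      intro x e
      show _ = _
      calc (hh a b (g : ZMod p) ^ n)⁻¹ * hh a b w * x
          = (hh a b (g : ZMod p) ^ n)⁻¹ * (hh a b w * x * (hh a b w)⁻¹) * hh a b w := by group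
        _ = _ := by rw [e]; group
    intro x hx
    induction hx using Subgroup.closure_induction with
    | mem x hx =>
      rcases hx with rfl | rfl
      · apply comm
        have h1 := hh_conj_a F hw 1
        have h2 := (sc n).1 1
        rw [hn'] at h2
        rw [pw_one] at h1 h2
        rw [h1, h2]
      · apply comm
        have h1 := hh_conj_b F hw 1
        have h2 := (sc n).2 1
        rw [hn'] at h2
        rw [pw_one] at h1 h2
        rw [h1, h2]
    | one => exact Commute.one_right _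
    | mul x y _ _ hx hy => exact hx.mul_right hy
    | inv x _ hx => exact hx.inv_right
  obtain ⟨n, z, e, hz⟩ := key u hu
  obtain ⟨m, z', e', hz'⟩ := key v hv
  have hg' := hh_mem (a := a) (b := b) (g : ZMod p)
  have hz'm : z' ∈ Subgroup.closure ({a, b} : Set G) := by
    have := hh_mem (a := a) (b := b) v
    rw [e'] at this
    simpa using mul_mem (inv_mem (pow_mem hg' m)) this
  rw [e, e']
  refine Commute.mul_left (Commute.mul_right (Commute.pow_pow (Commute.refl _) n m) ?_)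
    (Commute.mul_right (hz _ (pow_mem hg' m)) (hz _ hz'm))
  exact (hz' _ (pow_mem hg' n)).symm

theorem hh_square {c u : ZMod p} (hc : c ≠ 0) (hu : u ≠ 0) :
    hh a b (c ^ 2 * u) = hh a b (c ^ 2) * hh a b u := by
  have h1 : (1 : ZMod p) ≠ 0 := one_ne_zero
  have hm1 : (-1 : ZMod p) ≠ 0 := neg_ne_zero.mpr h1
  have cj : ∀ w : ZMod p, w ≠ 0 → hh a b c * M a b w * (hh a b c)⁻¹ = M a b (c ^ 2 * w) := by
    intro w hw
    have : hh a b c = M a b c * M a b (-1 : ZMod p) := by rw [hh, M_neg F]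
    rw [this]
    calc M a b c * M a b (-1 : ZMod p) * M a b w * (M a b c * M a b (-1 : ZMod p))⁻¹
        = M a b c * (M a b (-1 : ZMod p) * M a b w * (M a b (-1 : ZMod p))⁻¹) * (M a b c)⁻¹ := by
          group
      _ = _ := by
        rw [M_conj_M F hm1 hw, M_conj_M F hc (div_ne_zero (pow_ne_zero 2 hm1) hw), neg_one_sq,
          div_div_eq_mul_div, div_one]
  have sw : (M a b (1 : ZMod p))⁻¹ * M a b u = hh a b u⁻¹ := by
    have h2 : M a b u⁻¹ = (M a b (1 : ZMod p))⁻¹ * M a b u * (M a b (1 : ZMod p)) := by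
      have := M_conj_M F hm1 hu
      rw [M_neg F, inv_inv, neg_one_sq, one_div] at this
      exact this.symm
    rw [hh, h2]; group
  have hcm := (hh_comm F hc (inv_ne_zero hu)).inv_left
  have e1 : hh a b (c ^ 2 * u) = hh a b c * M a b u * (hh a b c)⁻¹ * (M a b (1 : ZMod p))⁻¹ := by
    rw [cj u hu]; rfl
  have e2 : hh a b (c ^ 2) = hh a b c * M a b (1 : ZMod p) * (hh a b c)⁻¹ *
      (M a b (1 : ZMod p))⁻¹ := by
    rw [cj 1 h1, mul_one]; rfl
  rw [e1, e2]
  calc hh a b c * M a b u * (hh a b c)⁻¹ * (M a b (1 : ZMod p))⁻¹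
      = hh a b c * M a b (1 : ZMod p) * (((M a b (1 : ZMod p))⁻¹ * M a b u) * (hh a b c)⁻¹) *
          (M a b (1 : ZMod p))⁻¹ := by group
    _ = hh a b c * M a b (1 : ZMod p) * ((hh a b c)⁻¹ * ((M a b (1 : ZMod p))⁻¹ * M a b u)) *
          (M a b (1 : ZMod p))⁻¹ := by rw [sw, hcm.eq]
    _ = _ := by unfold hh; group

theorem hh_sum {u v : ZMod p} (hu : u ≠ 0) (hv : v ≠ 0) (huv : u + v = 1) :
    hh a b (u * v) = hh a b u * hh a b v := by
  have h1 : (1 : ZMod p) ≠ 0 := one_ne_zero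
  have hy : pw b (-(u * v)⁻¹) = pw b (-u⁻¹) * pw b (-v⁻¹) := by
    rw [← pw_add F.hbp]; congr 1; field_simp; linear_combination huv
  have A1 : pw a (-u ^ 2) * M a b u = M a b u * pw b (1 : ZMod p) := by
    have := M_conj_b F hu 1
    rw [one_mul] at this
    rw [← this]; group
  have A2 : M a b v * pw a (-v ^ 2) = pw b (1 : ZMod p) * M a b v := by
    have := M_conj_a F hv (-v ^ 2)
    rw [neg_div, div_self (pow_ne_zero 2 hv), neg_neg] at this
    rw [← this]; group
  have B1 : pw b (1 : ZMod p) * pw a (-1 : ZMod p) * pw b (1 : ZMod p) =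
      (M a b (1 : ZMod p))⁻¹ := by
    have := F.braid (-1) (neg_ne_zero.mpr h1)
    rw [inv_neg, inv_one, neg_neg] at this
    rw [← this, ← M_neg F]
    simp only [M, inv_neg, inv_one, neg_neg]
  have hM : M a b (u * v) = M a b u * (M a b (1 : ZMod p))⁻¹ * M a b v := by
    calc M a b (u * v) = pw a (u * v) * (pw b (-u⁻¹) * pw b (-v⁻¹)) * pw a (u * v) := by
          rw [M, hy]
      _ = (pw a (u * v) * (pw a u)⁻¹) * M a b u * ((pw a u)⁻¹ * (pw a v)⁻¹) * M a b v *
          ((pw a v)⁻¹ * pw a (u * v)) := by unfold M; group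
      _ = pw a (-u ^ 2) * M a b u * pw a (-1 : ZMod p) * M a b v * pw a (-v ^ 2) := by
          rw [← pw_neg F.hap, ← pw_neg F.hap, ← pw_add F.hap, ← pw_add F.hap, ← pw_add F.hap]
          congr 2
          · congr 2
            · congr 1
              linear_combination u * huv
            · congr 1
              linear_combination -huv
          · congr 1
            linear_combination v * huv
      _ = M a b u * pw b (1 : ZMod p) * pw a (-1 : ZMod p) * (pw b (1 : ZMod p) * M a b v) := by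
          rw [A1, ← A2]; group
      _ = M a b u * (pw b (1 : ZMod p) * pw a (-1 : ZMod p) * pw b (1 : ZMod p)) * M a b v := by
          group
      _ = _ := by rw [B1]
  rw [hh, hM]; unfold hh; group

theorem hh_mul {u v : ZMod p} (hu : u ≠ 0) (hv : v ≠ 0) :
    hh a b (u * v) = hh a b u * hh a b v := by
  have hsqm : ∀ u v : ZMod p, u ≠ 0 → v ≠ 0 → IsSquare u → hh a b (u * v) = hh a b u * hh a b v := by
    rintro u v hu hv ⟨c, rfl⟩
    rw [← sq, hh_square F (left_ne_zero_of_mul hu) hv]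
  by_cases h1 : IsSquare u
  · exact hsqm u v hu hv h1
  by_cases h2 : IsSquare v
  · rw [mul_comm, hsqm v u hv hu h2, (hh_comm F hv hu).eq]
  have huv : IsSquare (u * v) := by
    obtain ⟨g, hg⟩ := IsCyclic.exists_generator (α := (ZMod p)ˣ)
    have par : ∀ w : ZMod p, w ≠ 0 → ¬ IsSquare w → ∃ n : ℕ, Odd n ∧ (g : ZMod p) ^ n = w := by
      intro w hw hns
      obtain ⟨n, hn⟩ : ∃ n : ℕ, g ^ n = Units.mk0 w hw :=
        Submonoid.mem_powers_iff _ _ |>.mp (mem_powers_iff_mem_zpowers.mpr (hg _))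
      have hn' : (g : ZMod p) ^ n = w := by
        rw [← Units.val_pow_eq_pow_val, hn, Units.val_mk0]
      exact ⟨n, (Nat.even_or_odd n).resolve_left fun he => hns (hn' ▸ he.isSquare_pow _), hn'⟩
    obtain ⟨n, hn, rfl⟩ := par u hu h1
    obtain ⟨m, hm, rfl⟩ := par v hv h2
    rw [← pow_add]
    exact (hn.add_odd hm).isSquare_pow _
  obtain ⟨r, hr⟩ : IsSquare (v / u) := by
    obtain ⟨e, he⟩ := huv
    exact ⟨e / u, by field_simp; linear_combination he⟩
  have hr0 : r ≠ 0 := by rintro rfl; simp [hu, hv] at hr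
  have hvr : v = u * r ^ 2 := by rw [sq, ← hr]; field_simp
  obtain ⟨α, γ, hαγ⟩ := ZMod.sq_add_sq p u⁻¹
  have hns : ¬ IsSquare u⁻¹ := fun h => h1 (by simpa using h.inv)
  have hα : α ≠ 0 := by
    rintro rfl; exact hns ⟨γ, by rw [← hαγ]; ring⟩
  have hγ : γ ≠ 0 := by
    rintro rfl; exact hns ⟨α, by rw [← hαγ]; ring⟩
  have hβ : γ / r ≠ 0 := div_ne_zero hγ hr0
  have hA : α ^ 2 * u ≠ 0 := mul_ne_zero (pow_ne_zero 2 hα) hu
  have hB : (γ / r) ^ 2 * v ≠ 0 := mul_ne_zero (pow_ne_zero 2 hβ) hv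
  have hsum : α ^ 2 * u + (γ / r) ^ 2 * v = 1 := by
    rw [hvr]
    field_simp
    have : (α ^ 2 + γ ^ 2) * u = 1 := by rw [hαγ, inv_mul_cancel₀ hu]
    linear_combination this
  have h := hh_sum F hA hB hsum
  rw [hh_square F hα hu, hh_square F hβ hv,
    show α ^ 2 * u * ((γ / r) ^ 2 * v) = α ^ 2 * ((γ / r) ^ 2 * (u * v)) by ring,
    hh_square F hα (mul_ne_zero (pow_ne_zero 2 hβ) (mul_ne_zero hu hv)),
    hh_square F hβ (mul_ne_zero hu hv), mul_assoc, ← mul_assoc (hh a b u),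
    (hh_comm F hu (pow_ne_zero 2 hβ)).eq, mul_assoc] at h
  exact mul_left_cancel (mul_left_cancel h)

omit F in
theorem hh_one : hh a b (1 : ZMod p) = 1 := by simp [hh]

theorem M_mul_M {u v : ZMod p} (hu : u ≠ 0) (hv : v ≠ 0) :
    M a b u * M a b v = hh a b (-u / v) := by
  have h1 : (1 : ZMod p) ≠ 0 := one_ne_zero
  have hm1 : (-1 : ZMod p) ≠ 0 := neg_ne_zero.mpr h1
  have hsq : M a b (1 : ZMod p) * M a b (1 : ZMod p) = hh a b (-1 : ZMod p) := by
    have hm : hh a b (-1 : ZMod p) = (M a b (1 : ZMod p) * M a b (1 : ZMod p))⁻¹ := by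
      rw [hh, M_neg F, mul_inv_rev]
    have : hh a b (-1 : ZMod p) * hh a b (-1 : ZMod p) = 1 := by
      rw [← hh_mul F hm1 hm1, neg_one_mul, neg_neg, hh_one]
    rw [eq_comm, ← inv_inj, eq_inv_of_mul_eq_one_left this |>.symm, hm]
  have hv' : M a b (1 : ZMod p) * M a b v * (M a b (1 : ZMod p))⁻¹ = M a b v⁻¹ := by
    rw [M_conj_M F h1 hv, one_pow, one_div]
  calc M a b u * M a b v
      = hh a b u * ((M a b (1 : ZMod p) * M a b v * (M a b (1 : ZMod p))⁻¹) *
          (M a b (1 : ZMod p))⁻¹) * (M a b (1 : ZMod p) * M a b (1 : ZMod p)) := by unfold hh; group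
    _ = hh a b u * hh a b v⁻¹ * hh a b (-1 : ZMod p) := by rw [hv', hsq]; rfl
    _ = hh a b (-u / v) := by
      rw [← hh_mul F hu (inv_ne_zero hv), ← hh_mul F (mul_ne_zero hu (inv_ne_zero hv)) hm1]
      congr 1; rw [div_eq_mul_inv]; ring

theorem hh_mul_M {u v : ZMod p} (hu : u ≠ 0) (hv : v ≠ 0) :
    hh a b u * M a b v = M a b (u * v) := by
  have h := hh_mul F hu hv
  calc hh a b u * M a b v = (hh a b u * hh a b v) * M a b (1 : ZMod p) := by unfold hh; group
    _ = M a b (u * v) := by rw [← h]; unfold hh; group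

end Frame

/-- The map, through the Bruhat decomposition. -/
def phi (a b : G) (g : SL(2, ZMod p)) : G :=
  if g 1 0 = 0 then hh a b (g 0 0) * pw a (g 0 1 / g 0 0)
  else pw a (g 0 0 / g 1 0) * M a b (-(g 1 0)⁻¹) * pw a (g 1 1 / g 1 0)

/-- The Weyl element of `SL₂`. -/
def wv (v : ZMod p) : SL(2, ZMod p) := SL2.up v * SL2.low (-v⁻¹) * SL2.up v

theorem det_eq (g : SL(2, ZMod p)) : g 0 0 * g 1 1 - g 0 1 * g 1 0 = 1 := by
  have := g.2; rwa [Matrix.det_fin_two] at this

theorem wv_entries {v : ZMod p} (hv : v ≠ 0) :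
    ((wv v : SL(2, ZMod p)) : Matrix (Fin 2) (Fin 2) (ZMod p)) = !![0, v; -v⁻¹, 0] := by
  simp [wv, Matrix.mul_fin_two, hv]

namespace Frame

variable {a b : G} (F : Frame p a b)
include F

theorem phi_up (g : SL(2, ZMod p)) (t : ZMod p) :
    phi a b (g * SL2.up t) = phi a b g * pw a t := by
  have e00 : (g * SL2.up t) 0 0 = g 0 0 := by simp [Matrix.mul_apply, Fin.sum_univ_two]
  have e01 : (g * SL2.up t) 0 1 = g 0 0 * t + g 0 1 := by
    simp [Matrix.mul_apply, Fin.sum_univ_two]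
  have e10 : (g * SL2.up t) 1 0 = g 1 0 := by simp [Matrix.mul_apply, Fin.sum_univ_two]
  have e11 : (g * SL2.up t) 1 1 = g 1 0 * t + g 1 1 := by
    simp [Matrix.mul_apply, Fin.sum_univ_two]
  simp only [phi, e00, e01, e10, e11]
  split_ifs with hc
  · have h := det_eq g
    rw [hc, mul_zero, sub_zero] at h
    have ha : g 0 0 ≠ 0 := left_ne_zero_of_mul_eq_one h
    rw [mul_assoc, ← pw_add F.hap]
    congr 2
    field_simp; ring
  · rw [mul_assoc (pw a _ * M a b _), ← pw_add F.hap]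
    congr 2
    field_simp; ring

theorem phi_wv (g : SL(2, ZMod p)) {v : ZMod p} (hv : v ≠ 0) :
    phi a b (g * wv v) = phi a b g * M a b v := by
  have e00 : (g * wv v) 0 0 = -(g 0 1 / v) := by
    simp [Matrix.mul_apply, Fin.sum_univ_two, wv_entries hv, div_eq_mul_inv]
  have e01 : (g * wv v) 0 1 = g 0 0 * v := by
    simp [Matrix.mul_apply, Fin.sum_univ_two, wv_entries hv]
  have e10 : (g * wv v) 1 0 = -(g 1 1 / v) := by
    simp [Matrix.mul_apply, Fin.sum_univ_two, wv_entries hv, div_eq_mul_inv]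
  have e11 : (g * wv v) 1 1 = g 1 0 * v := by
    simp [Matrix.mul_apply, Fin.sum_univ_two, wv_entries hv]
  have hdet := det_eq g
  simp only [phi, e00, e01, e10, e11]
  by_cases hc : g 1 0 = 0
  · rw [hc, mul_zero, sub_zero] at hdet
    have ha : g 0 0 ≠ 0 := left_ne_zero_of_mul_eq_one hdet
    have hd : g 1 1 ≠ 0 := right_ne_zero_of_mul_eq_one hdet
    rw [if_neg (neg_ne_zero.mpr (div_ne_zero hd hv)), if_pos hc, hc, zero_mul, zero_div, pw_zero,
      mul_one]
    have hu : -(-(g 1 1 / v))⁻¹ = g 0 0 * v := by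
      field_simp; linear_combination -hdet
    have hal : -(g 0 1 / v) / -(g 1 1 / v) = g 0 0 * g 0 1 := by
      field_simp; linear_combination -g 0 1 * hdet
    rw [hu, hal, ← hh_mul_M F ha hv, ← mul_assoc]
    congr 1
    have := hh_conj_a F ha (g 0 1 / g 0 0)
    rw [show g 0 1 / g 0 0 * g 0 0 ^ 2 = g 0 0 * g 0 1 by field_simp] at this
    rw [← this]; group
  · rw [if_neg hc]
    have hu : -(g 1 0)⁻¹ ≠ 0 := neg_ne_zero.mpr (inv_ne_zero hc)
    by_cases hd : g 1 1 = 0
    · rw [hd, mul_zero, zero_sub] at hdet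
      rw [if_pos (by simp [hd]), hd, zero_div, pw_zero, mul_one, mul_assoc, M_mul_M F hu hv]
      have hb : g 0 1 ≠ 0 := by intro h; simp [h] at hdet
      have hw : -(g 0 1 / v) = -(-(g 1 0)⁻¹) / v := by
        field_simp; linear_combination hdet
      have hw0 : -(-(g 1 0)⁻¹) / v ≠ 0 := div_ne_zero (neg_ne_zero.mpr hu) hv
      rw [hw]
      have := hh_conj_a F hw0 (g 0 0 * v / (-(-(g 1 0)⁻¹) / v))
      rw [show g 0 0 * v / (-(-(g 1 0)⁻¹) / v) * (-(-(g 1 0)⁻¹) / v) ^ 2 = g 0 0 / g 1 0 by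
        field_simp] at this
      rw [← this]; group
    · rw [if_neg (neg_ne_zero.mpr (div_ne_zero hd hv))]
      set u := -(g 1 0)⁻¹ with hudef
      set t := g 1 1 / g 1 0 with htdef
      have ht : t ≠ 0 := div_ne_zero hd hc
      have hX : pw a t = pw b t⁻¹ * M a b t * pw b t⁻¹ := by
        rw [M, F.braid t ht, pw_neg F.hbp]; group
      have hY1 : M a b u * pw b t⁻¹ = pw a (-(t⁻¹ * u ^ 2)) * M a b u := by
        rw [← M_conj_b F hu t⁻¹]; group
      have hY2 : pw b t⁻¹ * M a b v = M a b v * pw a (-(t⁻¹ * v ^ 2)) := by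
        have := M_conj_a F hv (-(t⁻¹ * v ^ 2))
        rw [neg_div, neg_neg, mul_div_assoc, div_self (pow_ne_zero 2 hv), mul_one] at this
        rw [← this]; group
      have hmid : M a b u * M a b t * M a b v = M a b (-u / t * v) := by
        rw [M_mul_M F hu ht, hh_mul_M F (div_ne_zero (neg_ne_zero.mpr hu) ht) hv]
      calc _ = pw a (g 0 0 / g 1 0) * pw a (-(t⁻¹ * u ^ 2)) * M a b (-u / t * v) *
            pw a (-(t⁻¹ * v ^ 2)) := by
              rw [← pw_add F.hap]
              have i1 : -(g 0 1 / v) / -(g 1 1 / v) = g 0 0 / g 1 0 + -(t⁻¹ * u ^ 2) := by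
                rw [hudef, htdef]; field_simp; linear_combination -hdet
              have i2 : -(-(g 1 1 / v))⁻¹ = -u / t * v := by
                rw [hudef, htdef]; field_simp
              have i3 : g 1 0 * v / -(g 1 1 / v) = -(t⁻¹ * v ^ 2) := by
                rw [htdef]; field_simp
              rw [i1, i2, i3]
        _ = pw a (g 0 0 / g 1 0) * ((pw a (-(t⁻¹ * u ^ 2)) * M a b u) * M a b t *
            (M a b v * pw a (-(t⁻¹ * v ^ 2)))) := by rw [← hmid]; group
        _ = pw a (g 0 0 / g 1 0) * (M a b u * (pw b t⁻¹ * M a b t * pw b t⁻¹) * M a b v) := by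
            rw [← hY1, ← hY2]; group
        _ = _ := by rw [← hX]; group

omit F in
theorem phi_one : phi a b (1 : SL(2, ZMod p)) = 1 := by
  simp [phi, pw_zero, hh]

theorem phi_mul (g g' : SL(2, ZMod p)) : phi a b (g * g') = phi a b g * phi a b g' := by
  let P : SL(2, ZMod p) → Prop := fun x => ∀ y, phi a b (y * x) = phi a b y * phi a b x
  have Pup : ∀ t, P (SL2.up t) := fun t y => by
    have h := phi_up F 1 t
    rw [one_mul, phi_one, one_mul] at h
    rw [phi_up F y t, h]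
  have Pwv : ∀ v, v ≠ 0 → P (wv v) := fun v hv y => by
    have h := phi_wv F 1 hv
    rw [one_mul, phi_one, one_mul] at h
    rw [phi_wv F y hv, h]
  have Pmul : ∀ x x', P x → P x' → P (x * x') := fun x x' hx hx' y => by
    rw [← mul_assoc, hx', hx, hx' x, mul_assoc]
  revert g
  show P g'
  have hdet := det_eq g'
  by_cases hc : g' 1 0 = 0
  · rw [hc, mul_zero, sub_zero] at hdet
    have ha : g' 0 0 ≠ 0 := left_ne_zero_of_mul_eq_one hdet
    have hm1 : (-1 : ZMod p) ≠ 0 := neg_ne_zero.mpr one_ne_zero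
    have : g' = wv (g' 0 0) * wv (-1) * SL2.up (g' 0 1 / g' 0 0) := by
      ext i j
      have hd : g' 1 1 = (g' 0 0)⁻¹ := eq_inv_of_mul_eq_one_right hdet
      fin_cases i <;> fin_cases j <;>
        simp [wv_entries ha, wv_entries hm1, Matrix.mul_fin_two, hc, hd] <;> field_simp
    rw [this]
    exact Pmul _ _ (Pmul _ _ (Pwv _ ha) (Pwv _ hm1)) (Pup _)
  · have hu : -(g' 1 0)⁻¹ ≠ 0 := neg_ne_zero.mpr (inv_ne_zero hc)
    have : g' = SL2.up (g' 0 0 / g' 1 0) * wv (-(g' 1 0)⁻¹) * SL2.up (g' 1 1 / g' 1 0) := by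
      ext i j
      fin_cases i <;> fin_cases j <;> simp [wv_entries hu, Matrix.mul_fin_two] <;> field_simp <;>
        linear_combination -hdet
    rw [this]
    exact Pmul _ _ (Pmul _ _ (Pup _) (Pwv _ hu)) (Pup _)

theorem exists_hom : ∃ φ : SL(2, ZMod p) →* G,
    φ.range = Subgroup.closure ({a, b} : Set G) ∧ φ (SL2.up 1) = a ∧ φ (SL2.low 1) = b ∧
      φ.ker ≤ Subgroup.center SL(2, ZMod p) := by
  let φ : SL(2, ZMod p) →* G :=
    { toFun := phi a b, map_one' := phi_one, map_mul' := phi_mul F }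
  have hup : φ (SL2.up 1) = a := by
    show phi a b _ = a
    simp [phi, hh_one, pw_one]
  have hlow : φ (SL2.low 1) = b := by
    show phi a b _ = b
    simp only [phi, SL2.coe_low, Matrix.of_apply, Matrix.cons_val', Matrix.cons_val_zero,
      Matrix.cons_val_one, Matrix.cons_val_fin_one, one_ne_zero, if_false, inv_one, div_one]
    simp only [M, inv_neg, inv_one, neg_neg, pw_neg F.hap, pw_one]
    group
  refine ⟨φ, le_antisymm ?_ ?_, hup, hlow, ?_⟩
  · rintro _ ⟨g, rfl⟩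
    have hx : ∀ t : ZMod p, pw a t ∈ Subgroup.closure ({a, b} : Set G) := fun t =>
      pow_mem mem_fst _
    show phi a b g ∈ _
    simp only [phi]
    split_ifs
    · exact mul_mem (hh_mem _) (hx _)
    · exact mul_mem (mul_mem (hx _) (M_mem _)) (hx _)
  · rw [Subgroup.closure_le]
    rintro x (rfl | rfl)
    exacts [⟨_, hup⟩, ⟨_, hlow⟩]
  · intro g hg
    have hg' : phi a b g = 1 := hg
    have hdet := det_eq g
    simp only [phi] at hg'
    split_ifs at hg' with hc
    · rw [hc, mul_zero, sub_zero] at hdet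
      have ha : g 0 0 ≠ 0 := left_ne_zero_of_mul_eq_one hdet
      set t := g 0 1 / g 0 0 with htdef
      have hh' : hh a b (g 0 0) = (pw a t)⁻¹ := eq_inv_of_mul_eq_one_left hg'
      have e1 := hh_conj_a F ha 1
      rw [hh', inv_inv, one_mul, ← pw_neg F.hap, ← pw_add F.hap, ← pw_add F.hap,
        neg_add_cancel_comm] at e1
      have hsq : g 0 0 ^ 2 = 1 := by
        have h1 : pw a (g 0 0 ^ 2 - 1) = pw b (0 : ZMod p) := by
          rw [sub_eq_add_neg, pw_add F.hap, ← e1, ← pw_add F.hap, add_neg_cancel, pw_zero, pw_zero]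
        exact sub_eq_zero.mp (F.disj _ _ h1).1
      have ht : t = 0 := by
        by_contra ht
        have e2 := hh_conj_b F ha (-(-t)⁻¹)
        rw [hh', inv_inv, hsq, div_one, ← pw_neg F.hap] at e2
        have hc2 : pw a (-t) * pw b (-(-t)⁻¹) = pw b (-(-t)⁻¹) * pw a (-t) := by
          have : pw a t = (pw a (-t))⁻¹ := by rw [pw_neg F.hap, inv_inv]
          rw [this] at e2
          calc _ = pw a (-t) * pw b (-(-t)⁻¹) * (pw a (-t))⁻¹ * pw a (-t) := by group
            _ = _ := by rw [e2]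
        have hb := F.braid (-t) (neg_ne_zero.mpr ht)
        rw [hc2] at hb
        exact ht (neg_eq_zero.mp (F.disj _ _ (mul_left_cancel hb)).1)
      have h01 : g 0 1 = 0 := (div_eq_zero_iff.mp ht).resolve_right ha
      refine Matrix.SpecialLinearGroup.mem_center_iff.mpr ⟨g 0 0, by simpa using hsq, ?_⟩
      have hd : g 1 1 = g 0 0 := mul_left_cancel₀ ha (by rw [hdet, ← sq, hsq])
      ext i j
      fin_cases i <;> fin_cases j <;> simp [hc, h01, hd]
    · exfalso
      set u := -(g 1 0)⁻¹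
      have hu : u ≠ 0 := neg_ne_zero.mpr (inv_ne_zero hc)
      have hM : M a b u = pw a (-(g 0 0 / g 1 0) + -(g 1 1 / g 1 0)) := by
        rw [pw_add F.hap, pw_neg F.hap, pw_neg F.hap]
        have : pw a (g 0 0 / g 1 0) * M a b u = (pw a (g 1 1 / g 1 0))⁻¹ :=
          eq_inv_of_mul_eq_one_left hg'
        rw [← this]; group
      have e1 := M_conj_a F hu 1
      rw [hM, ← pw_neg F.hap, ← pw_add F.hap, ← pw_add F.hap, add_neg_cancel_comm] at e1
      exact one_ne_zero (F.disj _ _ e1).1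

end Frame

end Cfsg.Agent.Lib.RootSubgroups.SL2Prime
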