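import Cfsg.Agent.Lib.RootSubgroups.SL2Prime

/-! Two related elements of a special rank one pair of exponent `p` generate `SL₂(p)` or `PSL₂(p)`. -/

namespace Cfsg.Agent.Lib.RootSubgroups.SL2Prime

open Cfsg
open scoped MatrixGroups

variable {G : Type*} [Group G] {A B : Subgroup G} {p : ℕ} [Fact p.Prime] {a b : G}

theorem frame_of_special (h : IsSpecialRankOnePair A B) (r : Rel A B a b) (hap : a ^ p = 1) :
    Frame p a b := by
  have hbp : b ^ p = 1 := (RankOne.pow_eq_one_iff h r p).mpr hap
  have inj : ∀ c : G, c ≠ 1 → c ^ p = 1 → ∀ s : ZMod p, pw c s = 1 → s = 0 := by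
    intro c hc1 hcp s hs
    by_contra hs0
    apply hc1
    rw [← pw_one (p := p) c, ← mul_inv_cancel₀ hs0, ← pw_mul hcp, hs, pw, one_pow]
  refine ⟨hap, hbp, fun s t e => ?_, fun u hu => ?_⟩
  · have h1 : pw a s = 1 :=
      RankOne.eq_one_of_mem_both h.1 (pow_mem r.memA _) (by rw [e]; exact pow_mem r.memB _)
    exact ⟨inj a r.neA hap s h1, inj b r.neB hbp t (by rw [← e, h1])⟩
  · obtain ⟨d, rd⟩ := RankOne.exists_rel h.1 (pow_mem r.memA u.val)
      (fun e => hu (inj a r.neA hap u e))
    have hdn : pw d u = b := RankOne.pow_partner h r rd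
    have hdp : d ^ p = 1 := (RankOne.pow_eq_one_iff h rd p).mpr (pw_pow hap u)
    have hd : d = pw b u⁻¹ := by
      rw [← hdn, pw_mul hdp, mul_inv_cancel₀ hu, pw_one]
    have := RankOne.braid h rd
    rw [hd, ← pw_neg hbp] at this
    exact this

theorem nonempty_mulEquiv (h : IsSpecialRankOnePair A B) (r : Rel A B a b) (hap : a ^ p = 1) :
    Nonempty (↥(Subgroup.closure ({a, b} : Set G)) ≃* SL(2, ZMod p)) ∨
    Nonempty (↥(Subgroup.closure ({a, b} : Set G)) ≃*
      Matrix.ProjectiveSpecialLinearGroup (Fin 2) (ZMod p)) := by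
  obtain ⟨φ, hr, -, -, hk⟩ := (frame_of_special h r hap).exists_hom
  by_cases hbot : φ.ker = ⊥
  · left
    exact ⟨((MulEquiv.subgroupCongr hr.symm).trans
      (MonoidHom.ofInjective ((MonoidHom.ker_eq_bot_iff φ).mp hbot)).symm)⟩
  · right
    have hker : φ.ker = Subgroup.center SL(2, ZMod p) := by
      refine le_antisymm hk fun z hz => ?_
      obtain ⟨w, hw, hw1⟩ := exists_ne_one hbot
      have key : ∀ y ∈ Subgroup.center SL(2, ZMod p), y ≠ 1 →
          ((y : SL(2, ZMod p)) : Matrix (Fin 2) (Fin 2) (ZMod p)) =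
            Matrix.scalar (Fin 2) (-1 : ZMod p) := by
        intro y hy hy1
        obtain ⟨c, hc, e⟩ := Matrix.SpecialLinearGroup.mem_center_iff.mp hy
        rcases (show c = 1 ∨ c = -1 by simpa using hc) with rfl | rfl
        · exact absurd (Subtype.ext (e.symm.trans (map_one _))) hy1
        · exact e.symm
      by_cases hz1 : z = 1
      · rw [hz1]; exact one_mem _
      · rw [show z = w from Subtype.ext ((key z hz hz1).trans (key w (hk hw) hw1).symm)]
        exact hw
    exact ⟨((MulEquiv.subgroupCongr hr.symm).trans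
      (QuotientGroup.quotientKerEquivRange φ).symm).trans (QuotientGroup.quotientMulEquivOfEq hker)⟩

end Cfsg.Agent.Lib.RootSubgroups.SL2Prime
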