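import Cfsg.Agent.Lib.RootSubgroups.Special

/-! The derived subgroup of a special rank one group with abelian unipotent subgroups. -/

namespace Cfsg.Agent.Lib.RootSubgroups

open Cfsg
open scoped commutatorElement

variable {G : Type*} [Group G] {A B N : Subgroup G}

/-- A normalized supplement of an abelian subgroup contains all commutators. -/
theorem commutator_le_of_supplement
    (hn : ∀ y ∈ N ⊔ A, ∀ n ∈ N, y * n * y⁻¹ ∈ N)
    (hA : ∀ a ∈ A, ∀ a' ∈ A, a * a' = a' * a) : ⁅N ⊔ A, N ⊔ A⁆ ≤ N := by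
  have hnA : A ≤ Subgroup.normalizer (N : Set G) := fun a ha => by
    rw [Subgroup.mem_normalizer_iff]
    intro n
    refine ⟨hn a (Subgroup.mem_sup_right ha) n, fun h => ?_⟩
    simpa [mul_assoc] using hn a⁻¹ (inv_mem (Subgroup.mem_sup_right ha)) _ h
  have hdec : ∀ y ∈ N ⊔ A, ∃ a ∈ A, ∃ n ∈ N, y = a * n := by
    intro y hy
    rw [sup_comm, ← SetLike.mem_coe,
      Subgroup.coe_mul_of_left_le_normalizer_right A N hnA] at hy
    obtain ⟨a, ha, n, hn, rfl⟩ := hy
    exact ⟨a, ha, n, hn, rfl⟩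
  rw [Subgroup.commutator_le]
  intro y hy z hz
  obtain ⟨a, ha, n, hn', rfl⟩ := hdec y hy
  obtain ⟨a', ha', n', hn'', rfl⟩ := hdec z hz
  have e : ⁅a * n, a' * n'⁆ = (a * n * a⁻¹) * ((a * a') * (n' * n⁻¹) * (a * a')⁻¹) *
      (a' * n'⁻¹ * a'⁻¹) := by
    calc ⁅a * n, a' * n'⁆ = (a * n * a⁻¹) * ((a * a') * (n' * n⁻¹) * (a⁻¹ * a'⁻¹)) *
          (a' * (a * a'⁻¹ * a⁻¹)) * (a' * n'⁻¹ * a'⁻¹) := by
            rw [hA a ha a'⁻¹ (inv_mem ha')]; simp [commutatorElement_def, mul_assoc]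
      _ = _ := by
        rw [hA a ha a'⁻¹ (inv_mem ha'), mul_inv_rev,
          hA a⁻¹ (inv_mem ha) a'⁻¹ (inv_mem ha')]; group
  rw [e]
  exact mul_mem (mul_mem (hn a (Subgroup.mem_sup_right ha) n hn')
    (hn _ (mul_mem (Subgroup.mem_sup_right ha) (Subgroup.mem_sup_right ha')) _
      (mul_mem hn'' (inv_mem hn'))))
    (hn a' (Subgroup.mem_sup_right ha') _ (inv_mem hn''))

namespace RankOne

/-- `⁅A, H⁆` for the diagonal subgroup `H` of `⟨A, B⟩`. -/
def core1 (A B : Subgroup G) : Subgroup G := ⁅A, rankOneDiagonal A B⁆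

theorem diagonal_symm (A B : Subgroup G) : rankOneDiagonal B A = rankOneDiagonal A B := by
  simp only [rankOneDiagonal, sup_comm B A]
  rw [inf_assoc, inf_comm (Subgroup.normalizer (B : Set G)), ← inf_assoc]

theorem conjBy_normalizer (A : Subgroup G) (g : G) :
    conjBy (Subgroup.normalizer (A : Set G)) g = Subgroup.normalizer (conjBy A g : Set G) := by
  ext x
  rw [mem_conjBy, ← conjBy_eq_self_iff, ← conjBy_eq_self_iff, conjBy_conjBy]
  constructor
  · intro h
    calc conjBy A (x * g) = conjBy (conjBy A (g⁻¹ * x * g)) g := by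
          rw [conjBy_conjBy]; congr 1; group
      _ = conjBy A g := by rw [h]
  · intro h
    calc conjBy A (g⁻¹ * x * g) = conjBy (conjBy A (x * g)) g⁻¹ := by
          rw [conjBy_conjBy]; congr 1; group
      _ = A := by rw [h, conjBy_inv_cancel]

theorem conjBy_diagonal {y : G} (hy : y ∈ A ⊔ B) :
    conjBy (rankOneDiagonal A B) y =
      (A ⊔ B) ⊓ Subgroup.normalizer (conjBy A y : Set G) ⊓ Subgroup.normalizer (conjBy B y : Set G) := by
  rw [rankOneDiagonal, conjBy_inf, conjBy_inf, conjBy_of_mem hy, conjBy_normalizer,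
    conjBy_normalizer]

theorem diagonal_le : rankOneDiagonal A B ≤ A ⊔ B := inf_le_left.trans inf_le_left

theorem diagonal_le_normalizer : rankOneDiagonal A B ≤ Subgroup.normalizer (A : Set G) :=
  inf_le_left.trans inf_le_right

theorem diagonal_le_normalizer' : rankOneDiagonal A B ≤ Subgroup.normalizer (B : Set G) :=
  inf_le_right

theorem core1_le : core1 A B ≤ A := by
  rw [core1, Subgroup.commutator_le]
  intro a ha h hh
  rw [show ⁅a, h⁆ = a * (h * a⁻¹ * h⁻¹) by simp [commutatorElement_def, mul_assoc]]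
  exact mul_mem ha ((Subgroup.mem_normalizer_iff.mp (diagonal_le_normalizer hh) _).mp (inv_mem ha))

theorem core1_le_commutator : core1 A B ≤ ⁅A ⊔ B, A ⊔ B⁆ :=
  Subgroup.commutator_mono le_sup_left diagonal_le

theorem conjBy_core1_self (hA : ∀ a ∈ A, ∀ a' ∈ A, a * a' = a' * a) {a : G} (ha : a ∈ A) :
    conjBy (core1 A B) a = core1 A B :=
  conjBy_of_comm fun _ hx => hA a ha _ (core1_le hx)

/-- An element of `⟨A, B⟩` mapping `A` to `B` maps `⁅A, H⁆` to `⁅B, H⁆`. -/
theorem conjBy_core1 (h : IsRankOnePair A B) (hB : ∀ b ∈ B, ∀ b' ∈ B, b * b' = b' * b)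
    {y : G} (hy : y ∈ A ⊔ B) (e : conjBy A y = B) : conjBy (core1 A B) y = core1 B A := by
  have hne : conjBy B y ≠ B := fun e' => h.ne (conjBy_inj (e.trans e'.symm))
  obtain ⟨β, hβ, hβe⟩ := eq_translate (RankOnePair_symm h)
    (by rw [unipotent_symm h]; exact conjBy_mem_unipotent hy (right_mem h)) hne
  have h1 : conjBy A (β⁻¹ * y) = B := by
    rw [← conjBy_conjBy, e, conjBy_of_mem (inv_mem hβ)]
  have h2 : conjBy B (β⁻¹ * y) = A := by rw [← conjBy_conjBy, hβe, conjBy_inv_cancel]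
  have h3 : conjBy (core1 A B) (β⁻¹ * y) = core1 B A := by
    rw [core1, conjBy_commutator, h1,
      conjBy_diagonal (mul_mem (inv_mem (Subgroup.mem_sup_right hβ)) hy), h1, h2, core1,
      diagonal_symm]
    congr 1
    rw [rankOneDiagonal, inf_assoc, inf_comm (Subgroup.normalizer (B : Set G)), ← inf_assoc]
  calc conjBy (core1 A B) y = conjBy (conjBy (core1 A B) (β⁻¹ * y)) β := by
        rw [conjBy_conjBy, mul_inv_cancel_left]
    _ = core1 B A := by rw [h3]; exact conjBy_core1_self hB hβ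

section Abelian

variable (h : IsSpecialRankOnePair A B) (hA : ∀ a ∈ A, ∀ a' ∈ A, a * a' = a' * a)
  (hB : ∀ b ∈ B, ∀ b' ∈ B, b * b' = b' * b)

theorem mu_swap_mem_diagonal (h : IsSpecialRankOnePair A B) {a b x c : G} (r : Rel A B a b)
    (r' : Rel A B x c) : mu a b * (mu x c)⁻¹ ∈ rankOneDiagonal A B := by
  refine Subgroup.mem_inf.mpr ⟨Subgroup.mem_inf.mpr
    ⟨mul_mem (mu_mem r) (inv_mem (mu_mem r')), ?_⟩, ?_⟩
  · exact conjBy_eq_self_iff.mp (by
      rw [← conjBy_conjBy, conjBy_mu_inv_left h r', conjBy_mu_right h r])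
  · exact conjBy_eq_self_iff.mp (by
      rw [← conjBy_conjBy, conjBy_mu_inv_right h r', conjBy_mu_left h r])

theorem conjBy_mu_point (h : IsSpecialRankOnePair A B) {x c : G} (r : Rel A B x c) :
    conjBy (conjBy B x) (mu x c) = conjBy B x⁻¹ := by
  have e := (rel_inv h r).eq
  rw [inv_inv, inv_inv] at e
  rw [← e, conjBy_conjBy, show mu x c * c = c⁻¹ * x by
    rw [mu, braid h r, inv_mul_cancel_right], ← conjBy_conjBy, conjBy_of_mem r.memA]
  exact r.eq

/-- The heart: `⁅A, H⁆` has more than three elements once `A` has. -/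
theorem core1_large (h : IsSpecialRankOnePair A B) (hA : ∀ a ∈ A, ∀ a' ∈ A, a * a' = a' * a)
    (hbig : 3 < ENat.card A) : 3 < ENat.card ↥(core1 A B) := by
  classical
  by_contra hsm
  push Not at hsm
  set E := core1 A B with hE
  obtain ⟨z, hz, hz1⟩ := exists_ne_one (left_ne_bot h.1)
  have key : ∀ a : G, a ∈ A ∧ a ≠ 1 ∧ a ≠ z → ∃ e, e ∈ E ∧ ∃ b, Rel A B a b ∧
      conjBy (conjBy B z) b⁻¹ = conjBy B (z⁻¹ * e) := by
    rintro a ⟨ha, ha1, haz⟩
    have hx : a⁻¹ * z ∈ A := mul_mem (inv_mem ha) hz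
    have hx1 : a⁻¹ * z ≠ 1 := fun e => haz (inv_mul_eq_one.mp e)
    obtain ⟨b, r⟩ := exists_rel h.1 ha ha1
    obtain ⟨c, r'⟩ := exists_rel h.1 hx hx1
    have hd := mu_swap_mem_diagonal h r r'
    set δ := mu a b * (mu (a⁻¹ * z) c)⁻¹ with hδ
    have hδB : conjBy B δ = B := conjBy_eq_self_iff.mpr (diagonal_le_normalizer' hd)
    refine ⟨⁅δ, (a⁻¹ * z)⁻¹⁆, ?_, b, r, ?_⟩
    · rw [hE, core1, Subgroup.commutator_comm]
      exact Subgroup.commutator_mem_commutator hd (inv_mem hx)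
    · have h1 : conjBy (conjBy B (a⁻¹ * z)) (mu a b) =
          conjBy B (δ * (a⁻¹ * z)⁻¹ * δ⁻¹) := by
        rw [show mu a b = δ * mu (a⁻¹ * z) c by rw [hδ]; group, ← conjBy_conjBy,
          conjBy_mu_point h r', conjBy_conjBy]
        calc conjBy B (δ * (a⁻¹ * z)⁻¹)
            = conjBy (conjBy B δ) (δ * (a⁻¹ * z)⁻¹ * δ⁻¹) := by
              rw [conjBy_conjBy]; congr 1; group
          _ = _ := by rw [hδB]
      have hem : ⁅δ, (a⁻¹ * z)⁻¹⁆ ∈ A := by
        apply core1_le (B := B)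
        rw [core1, Subgroup.commutator_comm]
        exact Subgroup.commutator_mem_commutator hd (inv_mem hx)
      calc conjBy (conjBy B z) b⁻¹
          = conjBy (conjBy (conjBy B (a⁻¹ * z)) (mu a b)) a⁻¹ := by
            simp only [conjBy_conjBy, mu]; congr 1; group
        _ = conjBy B (a⁻¹ * (δ * (a⁻¹ * z)⁻¹ * δ⁻¹)) := by rw [h1, conjBy_conjBy]
        _ = conjBy B (z⁻¹ * ⁅δ, (a⁻¹ * z)⁻¹⁆) := by
          congr 1
          rw [show δ * (a⁻¹ * z)⁻¹ * δ⁻¹ = ⁅δ, (a⁻¹ * z)⁻¹⁆ * (a⁻¹ * z)⁻¹ by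
            rw [commutatorElement_def]; group, hA _ hem _ (inv_mem hx), ← mul_assoc, mul_inv_rev,
            inv_inv, hA z⁻¹ (inv_mem hz) a ha, inv_mul_cancel_left]
  choose e he b hr hpoint using key
  have eA : ∀ a ha, e a ha ∈ A := fun a ha => core1_le (he a ha)
  have hinj : ∀ a a' (ha : a ∈ A ∧ a ≠ 1 ∧ a ≠ z) (ha' : a' ∈ A ∧ a' ≠ 1 ∧ a' ≠ z),
      e a ha = e a' ha' → a = a' := by
    intro a a' ha ha' ee
    have h1 := (hpoint a ha).trans (ee ▸ (hpoint a' ha').symm)
    have hBz : conjBy B z ∈ unipotentSubgroups A B :=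
      conjBy_mem_unipotent (Subgroup.mem_sup_left hz) (right_mem h.1)
    have hp := (pair_of_mem h.1 (right_mem h.1) hBz
      fun e' => hz1 (eq_one_of_normalizes h.1 hz e'.symm)).1
    have hb : b a ha = b a' ha' :=
      inv_injective (translate_inj hp (inv_mem (hr a ha).memB) (inv_mem (hr a' ha').memB) h1)
    exact rel_unique_left h.1 (hr a ha) (hb ▸ hr a' ha')
  have hne_one : ∀ a ha, e a ha ≠ z * z := by
    intro a ha ee
    have h1 := hpoint a ha
    rw [ee, inv_mul_cancel_left] at h1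
    exact (hr a ha).neB (inv_eq_one.mp (eq_one_of_normalizes
      (pair_of_mem h.1 (right_mem h.1)
        (conjBy_mem_unipotent (Subgroup.mem_sup_left hz) (right_mem h.1))
        fun e' => hz1 (eq_one_of_normalizes h.1 hz e'.symm)).1 (inv_mem (hr a ha).memB) h1))
  -- counting
  haveI : Finite ↥E := by
    rw [← ENat.card_lt_top]
    exact lt_of_le_of_lt hsm (by exact ENat.coe_lt_top 3)
  let φ : {a : A // (a : G) ≠ 1 ∧ (a : G) ≠ z} → ↥E := fun a =>
    ⟨e a.1.1 ⟨a.1.2, a.2⟩, he a.1.1 ⟨a.1.2, a.2⟩⟩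
  have hφ : Function.Injective φ := fun a a' ee =>
    Subtype.ext (Subtype.ext (hinj _ _ _ _ (congrArg Subtype.val ee)))
  haveI : Finite ↥A := by
    have hs : (Set.univ : Set A) ⊆ {1, ⟨z, hz⟩} ∪ Subtype.val '' (Set.univ : Set {a : A // (a : G) ≠ 1 ∧ (a : G) ≠ z}) := by
      intro a _
      by_cases h1 : (a : G) = 1
      · exact Or.inl (Or.inl (Subtype.ext h1))
      by_cases h2 : (a : G) = z
      · exact Or.inl (Or.inr (Subtype.ext h2))
      exact Or.inr ⟨⟨a, h1, h2⟩, trivial, rfl⟩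
    haveI := Finite.of_injective φ hφ
    exact Set.finite_univ_iff.mp (((Set.toFinite _).union (Set.toFinite _)).subset hs)
  have hEle : Nat.card ↥E ≤ 3 := by
    rw [ENat.card_eq_coe_natCard] at hsm
    exact_mod_cast hsm
  have hA4 : 4 ≤ Nat.card ↥A := by
    rw [ENat.card_eq_coe_natCard] at hbig
    exact_mod_cast hbig
  have hsub : Nat.card {a : A // (a : G) ≠ 1 ∧ (a : G) ≠ z} + 2 = Nat.card ↥A := by
    haveI := Fintype.ofFinite ↥A
    rw [Nat.card_eq_fintype_card, Nat.card_eq_fintype_card, Fintype.card_subtype]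
    have : (Finset.univ.filter fun a : A => (a : G) ≠ 1 ∧ (a : G) ≠ z) =
        Finset.univ \ {1, ⟨z, hz⟩} := by
      ext a
      simp only [Finset.mem_filter, Finset.mem_univ, true_and, Finset.mem_sdiff,
        Finset.mem_insert, Finset.mem_singleton, not_or]
      exact ⟨fun ⟨h1, h2⟩ => ⟨fun e => h1 (congrArg Subtype.val e), fun e => h2 (congrArg Subtype.val e)⟩,
        fun ⟨h1, h2⟩ => ⟨fun e => h1 (Subtype.ext e), fun e => h2 (Subtype.ext e)⟩⟩
    rw [this, Finset.card_sdiff_of_subset (Finset.subset_univ _), Finset.card_univ,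
      Finset.card_pair (fun e' => hz1 (congrArg Subtype.val e').symm)]
    have : 4 ≤ Fintype.card ↥A := by rwa [Nat.card_eq_fintype_card] at hA4
    omega
  have hle := Nat.card_le_card_of_injective φ hφ
  obtain ⟨k, hk⟩ := Subgroup.card_dvd_of_le (show E ≤ A from core1_le)
  have hk2 : 2 ≤ k := by
    rcases k with _ | _ | k
    · simp at hk; omega
    · omega
    · omega
  have h4 : Nat.card ↥A = 4 ∧ Nat.card ↥E = 2 := by
    have := Nat.mul_le_mul_left (Nat.card ↥E) hk2
    constructor <;> nlinarith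
  -- exponent two
  have hexp : z * z = 1 := by
    haveI : IsMulCommutative A := ⟨⟨fun x y => Subtype.ext (hA x x.2 y y.2)⟩⟩
    rcases elementary_or_divisible h inferInstance with ⟨p, hp, -, hpow⟩ | ⟨htf, -⟩
    · have hd : orderOf z ∣ 4 := by
        rw [← h4.1, ← Subgroup.orderOf_mk z hz]; exact orderOf_dvd_natCard _
      have hd' : orderOf z ∣ p := orderOf_dvd_of_pow_eq_one (hpow z hz)
      rcases (Nat.dvd_prime hp).mp hd' with h1 | h1
      · exact absurd (orderOf_eq_one_iff.mp h1) hz1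
      · rw [h1] at hd
        have hp2 : p = 2 := by
          have := Nat.le_of_dvd (by norm_num) hd
          have := hp.two_le
          interval_cases p
          · rfl
          · norm_num at hd
          · norm_num at hp
        rw [← sq, ← hp2]; exact hpow z hz
    · exfalso
      apply htf z hz hz1
      exact A.subtype.isOfFinOrder (isOfFinOrder_of_finite (⟨z, hz⟩ : A))
  have hne1 : ∀ a, φ a ≠ 1 := fun a ee =>
    hne_one _ _ (by rw [hexp]; exact congrArg Subtype.val ee)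
  let ψ : {a : A // (a : G) ≠ 1 ∧ (a : G) ≠ z} → {e : ↥E // e ≠ 1} := fun a => ⟨φ a, hne1 a⟩
  have hψ := Nat.card_le_card_of_injective ψ fun a a' ee => hφ (congrArg Subtype.val ee)
  have hE1 : Nat.card {e : ↥E // e ≠ 1} + 1 = Nat.card ↥E := by
    haveI := Fintype.ofFinite ↥E
    rw [Nat.card_eq_fintype_card, Nat.card_eq_fintype_card, Fintype.card_subtype_compl,
      Fintype.card_subtype_eq]
    have := Fintype.card_pos (α := ↥E)
    omega
  omega

theorem core1_ne_bot (h : IsSpecialRankOnePair A B) (hA : ∀ a ∈ A, ∀ a' ∈ A, a * a' = a' * a)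
    (hbig : 3 < ENat.card A) : core1 A B ≠ ⊥ := by
  intro e
  have := core1_large h hA hbig
  rw [e, ENat.card_eq_coe_natCard] at this
  simp at this

theorem partner_mem_core1 (h : IsSpecialRankOnePair A B)
    (hB : ∀ b ∈ B, ∀ b' ∈ B, b * b' = b' * b) {a b : G} (r : Rel A B a b)
    (ha : a ∈ core1 A B) : b ∈ core1 B A := by
  have h1 := conjBy_core1 h.1 hB (mu_mem r) (conjBy_mu_left h r)
  have h2 := conj_mem_conjBy (g := mu a b) ha
  rw [h1, mu_conj_right h r] at h2
  simpa using inv_mem h2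

/-- `⁅A, H⁆` and `⁅B, H⁆` form a special rank one pair. -/
theorem core1_special (h : IsSpecialRankOnePair A B) (hA : ∀ a ∈ A, ∀ a' ∈ A, a * a' = a' * a)
    (hB : ∀ b ∈ B, ∀ b' ∈ B, b * b' = b' * b) (hne : core1 A B ≠ ⊥) :
    IsSpecialRankOnePair (core1 A B) (core1 B A) := by
  have key : ∀ A B : Subgroup G, IsSpecialRankOnePair A B →
      (∀ b ∈ B, ∀ b' ∈ B, b * b' = b' * b) → ∀ a ∈ core1 A B, a ≠ 1 →
      ∃ b ∈ core1 B A, Rel A B a b ∧ conjBy (core1 A B) b⁻¹ = conjBy (core1 B A) a⁻¹ := by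
    intro A B h hB a ha ha1
    obtain ⟨b, r⟩ := exists_rel h.1 (core1_le ha) ha1
    refine ⟨b, partner_mem_core1 h hB r ha, r, ?_⟩
    rw [← conjBy_core1 h.1 hB (y := a * b⁻¹)
      (mul_mem (Subgroup.mem_sup_left r.memA) (Subgroup.mem_sup_right (inv_mem r.memB)))
      (by rw [← conjBy_conjBy, r.eq, conjBy_cancel]), conjBy_conjBy, inv_mul_cancel_left]
  have hpair : IsRankOnePair (core1 A B) (core1 B A) := by
    refine ⟨fun e => hne ?_, ?_, ?_, ?_, ?_⟩
    · rw [Subgroup.eq_bot_iff_forall]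
      intro x hx
      have hx' : x ∈ core1 B A := by rw [← e]; exact hx
      exact eq_one_of_mem_both h.1 (core1_le hx) (core1_le hx')
    · exact isNilpotent_of_comm ⟨⟨fun x y => Subtype.ext (hA _ (core1_le x.2) _ (core1_le y.2))⟩⟩
    · exact isNilpotent_of_comm ⟨⟨fun x y => Subtype.ext (hB _ (core1_le x.2) _ (core1_le y.2))⟩⟩
    · intro a ha ha1
      obtain ⟨b, hb, r, e⟩ := key A B h hB a ha ha1
      exact ⟨b, hb, r.neB, e⟩
    · intro b hb hb1
      obtain ⟨a, ha, r, e⟩ := key B A (special_symm h) hA b hb hb1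
      exact ⟨a, ha, r.neB, e⟩
  refine ⟨hpair, fun a ha ha1 b hb hb1 e => ?_⟩
  obtain ⟨b', hb', r, e'⟩ := key A B h hB a ha ha1
  rw [rel_unique_right hpair ⟨ha, ha1, hb, hb1, e⟩ ⟨ha, ha1, hb', r.neB, e'⟩]
  exact special_eq h r

/-- A subgroup normalized by the derived rank one group which contains all `⁅c, d⁆` contains a
non-trivial element of `A`. -/
theorem exists_inf_ne_one (h : IsSpecialRankOnePair A B)
    (hA : ∀ a ∈ A, ∀ a' ∈ A, a * a' = a' * a) (hB : ∀ b ∈ B, ∀ b' ∈ B, b * b' = b' * b)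
    (hbig : 3 < ENat.card A) (M : Subgroup G)
    (hM : ∀ c ∈ core1 A B, ∀ d ∈ core1 B A, ⁅c, d⁆ ∈ M)
    (hn : ∀ y ∈ ⁅A ⊔ B, A ⊔ B⁆, ∀ m ∈ M, y * m * y⁻¹ ∈ M) : ∃ x ∈ A, x ∈ M ∧ x ≠ 1 := by
  have hne := core1_ne_bot h hA hbig
  have h1 := core1_special h hA hB hne
  set X := core1 A B ⊔ core1 B A with hX
  have hXle : X ≤ ⁅A ⊔ B, A ⊔ B⁆ := sup_le core1_le_commutator (by
    have := core1_le_commutator (A := B) (B := A)
    rwa [sup_comm] at this)
  have hXM : ⁅X, X⁆ ≤ M := by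
    rw [hX, Subgroup.sup_eq_closure, Subgroup.commutator_def, Subgroup.closure_le]
    rintro _ ⟨x, hx, y, hy, rfl⟩
    induction hx using Subgroup.closure_induction generalizing y with
    | mem x hx' =>
      induction hy using Subgroup.closure_induction with
      | mem y hy' =>
        rcases hx' with hx' | hx' <;> rcases hy' with hy' | hy'
        · rw [commutatorElement_eq_one_iff_mul_comm.mpr (hA _ (core1_le hx') _ (core1_le hy'))]
          exact one_mem M
        · exact hM x hx' y hy'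
        · rw [← commutatorElement_inv]; exact inv_mem (hM y hy' x hx')
        · rw [commutatorElement_eq_one_iff_mul_comm.mpr (hB _ (core1_le hx') _ (core1_le hy'))]
          exact one_mem M
      | one => simp
      | mul y y' hy₁ _ ih ih' =>
        rw [show ⁅x, y * y'⁆ = ⁅x, y⁆ * (y * ⁅x, y'⁆ * y⁻¹) by
          simp [commutatorElement_def, mul_assoc]]
        exact mul_mem ih (hn y (hXle (by rw [hX, Subgroup.sup_eq_closure]; exact hy₁)) _ ih')
      | inv y hy₁ ih =>
        rw [show ⁅x, y⁻¹⁆ = y⁻¹ * ⁅x, y⁆⁻¹ * y by simp [commutatorElement_def, mul_assoc]]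
        have := hn _ (inv_mem (hXle (by rw [hX, Subgroup.sup_eq_closure]; exact hy₁))) _ (inv_mem ih)
        simpa [mul_assoc] using this
    | one => simp
    | mul x x' hx₁ _ ih ih' =>
      rw [show ⁅x * x', y⁆ = x * ⁅x', y⁆ * x⁻¹ * ⁅x, y⁆ by
        simp [commutatorElement_def, mul_assoc]]
      exact mul_mem (hn x (hXle (by rw [hX, Subgroup.sup_eq_closure]; exact hx₁)) _ (ih' y hy))
        (ih y hy)
    | inv x hx₁ ih =>
      rw [show ⁅x⁻¹, y⁆ = x⁻¹ * ⁅x, y⁆⁻¹ * x by simp [commutatorElement_def, mul_assoc]]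
      have := hn _ (inv_mem (hXle (by rw [hX, Subgroup.sup_eq_closure]; exact hx₁))) _
        (inv_mem (ih y hy))
      simpa [mul_assoc] using this
  have hA' : ∀ a ∈ core1 A B, ∀ a' ∈ core1 A B, a * a' = a' * a := fun a ha a' ha' =>
    hA a (core1_le ha) a' (core1_le ha')
  obtain ⟨x, hx, hx1⟩ := exists_ne_one (core1_ne_bot h1 hA' (core1_large h hA hbig))
  exact ⟨x, core1_le (core1_le hx), hXM (core1_le_commutator hx), hx1⟩

/-- The derived group of the rank one group is perfect. -/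
theorem derived_perfect (h : IsSpecialRankOnePair A B) (hA : ∀ a ∈ A, ∀ a' ∈ A, a * a' = a' * a)
    (hB : ∀ b ∈ B, ∀ b' ∈ B, b * b' = b' * b) (hbig : 3 < ENat.card A) :
    ⁅A ⊔ B, A ⊔ B⁆ = ⁅⁅A ⊔ B, A ⊔ B⁆, ⁅A ⊔ B, A ⊔ B⁆⁆ := by
  set P := ⁅A ⊔ B, A ⊔ B⁆ with hP
  have hPle : P ≤ A ⊔ B := (Subgroup.commutator_le_sup _ _).trans (sup_le le_rfl le_rfl)
  have hP2le : ⁅P, P⁆ ≤ P := by
    rw [hP]; exact Subgroup.commutator_mono hPle hPle
  refine le_antisymm ?_ hP2le
  have hnorm : ∀ y ∈ A ⊔ B, ∀ n ∈ ⁅P, P⁆, y * n * y⁻¹ ∈ ⁅P, P⁆ := by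
    intro y hy n hn
    have h1 : conjBy P y = P := by rw [hP, conjBy_commutator, conjBy_of_mem hy]
    have h2 := conj_mem_conjBy (g := y) hn
    rwa [conjBy_commutator, h1] at h2
  rcases central_or_supplement h.1 (hP2le.trans hPle) hnorm with hc | hs
  · exfalso
    obtain ⟨e, he, he1⟩ := exists_ne_one (core1_ne_bot h hA hbig)
    obtain ⟨b, r⟩ := exists_rel h.1 (core1_le he) he1
    have hb1 : b ∈ core1 B A := partner_mem_core1 h hB r he
    have hbP : b ∈ P := by
      have := core1_le_commutator hb1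
      rwa [sup_comm] at this
    have hz := hc _ (Subgroup.commutator_mem_commutator hbP (core1_le_commutator he))
    have hfix : conjBy A (b * e * b⁻¹) = A := by
      rw [show b * e * b⁻¹ = ⁅b, e⁆ * e by simp [commutatorElement_def], ← conjBy_conjBy,
        conjBy_of_mem (core1_le he)]
      exact conjBy_of_comm fun a ha => hz a (Subgroup.mem_sup_left ha)
    apply he1
    have hone : b * e * b⁻¹ = 1 := eq_one_of_fix_point h.1
      (conjBy_mem_unipotent (Subgroup.mem_sup_right r.memB) (left_mem A B)) (left_mem A B)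
      (fun e' => r.neB (eq_one_of_normalizes' h.1 r.memB e')) (conj_mem_conjBy (core1_le he)) hfix
    simpa using hone
  · have := commutator_le_of_supplement (N := ⁅P, P⁆) (A := A) (by rw [hs]; exact hnorm) hA
    rwa [hs] at this

end Abelian

end RankOne

end Cfsg.Agent.Lib.RootSubgroups
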