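import Cfsg.Agent.Lib.RootSubgroups.Basic

/-! Generic facts used for a "square" of root subgroups. -/

namespace Cfsg.Agent.Lib.RootSubgroups

open Cfsg
open scoped commutatorElement

variable {G : Type*} [Group G]

/-- If the commutators of generators are central, then so are all commutators. -/
theorem commutator_closure_le {T : Set G} {Z : Subgroup G}
    (hz : ∀ z ∈ Z, ∀ t ∈ T, z * t = t * z) (h : ∀ s ∈ T, ∀ t ∈ T, ⁅s, t⁆ ∈ Z) :
    ⁅Subgroup.closure T, Subgroup.closure T⁆ ≤ Z := by
  have hzc : ∀ z ∈ Z, ∀ w ∈ Subgroup.closure T, z * w = w * z := by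
    intro z hz' w hw
    have hle : Subgroup.closure T ≤ Subgroup.centralizer ({z} : Set G) := by
      rw [Subgroup.closure_le]
      intro t ht
      exact Subgroup.mem_centralizer_iff.mpr fun u hu => by
        rw [Set.mem_singleton_iff.mp hu]; exact hz z hz' t ht
    exact Subgroup.mem_centralizer_iff.mp (hle hw) z rfl
  have step : ∀ s ∈ Subgroup.closure T, (∀ t ∈ T, ⁅s, t⁆ ∈ Z) →
      ∀ w ∈ Subgroup.closure T, ⁅s, w⁆ ∈ Z := by
    intro s _ hst w hw
    induction hw using Subgroup.closure_induction with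
    | mem t ht => exact hst t ht
    | one => rw [commutatorElement_one_right]; exact one_mem Z
    | mul u v hu _ h1 h2 =>
      have e : ⁅s, u * v⁆ = ⁅s, u⁆ * (u * ⁅s, v⁆ * u⁻¹) := by
        simp only [commutatorElement_def]; group
      rw [e, ← hzc _ h2 u hu, mul_inv_cancel_right]
      exact mul_mem h1 h2
    | inv u hu h1 =>
      have e : ⁅s, u⁻¹⁆ = u⁻¹ * ⁅s, u⁆⁻¹ * u := by
        simp only [commutatorElement_def]; group
      rw [e, ← hzc _ (inv_mem h1) _ (inv_mem hu), inv_mul_cancel_right]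
      exact inv_mem h1
  rw [Subgroup.commutator_le]
  intro v hv w hw
  have hwT : ∀ s ∈ T, ⁅w, s⁆ ∈ Z := fun s hs => by
    rw [← commutatorElement_inv]
    exact inv_mem (step s (Subgroup.subset_closure hs) (h s hs) w hw)
  rw [← commutatorElement_inv]
  exact inv_mem (step w hw hwT v hv)

/-- The upper central series of `R`, seen in `G`. -/
def zseries (R : Subgroup G) (n : ℕ) : Subgroup G :=
  (Subgroup.upperCentralSeries R n).map R.subtype

theorem zseries_le (R : Subgroup G) (n : ℕ) : zseries R n ≤ R := by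
  rintro _ ⟨x, -, rfl⟩
  exact x.2

theorem zseries_conj {R : Subgroup G} {n : ℕ} {z y : G} (hz : z ∈ zseries R n) (hy : y ∈ R) :
    y * z * y⁻¹ ∈ zseries R n := by
  obtain ⟨x, hx, rfl⟩ := hz
  exact ⟨(⟨y, hy⟩ : R) * x * (⟨y, hy⟩ : R)⁻¹,
    (inferInstance : (Subgroup.upperCentralSeries R n).Normal).conj_mem x hx _, rfl⟩

/-- An element central modulo a term of the series on generators lies in the next term. -/
theorem mem_zseries_succ {T : Set G} {n : ℕ} {x : G} (hx : x ∈ Subgroup.closure T)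
    (h : ∀ t ∈ T, ⁅x, t⁆ ∈ zseries (Subgroup.closure T) n) :
    x ∈ zseries (Subgroup.closure T) (n + 1) := by
  refine ⟨⟨x, hx⟩, Subgroup.mem_upperCentralSeries_succ_iff.mpr fun y => ?_, rfl⟩
  have key : ∀ w ∈ Subgroup.closure T, ⁅x, w⁆ ∈ zseries (Subgroup.closure T) n := by
    intro w hw
    induction hw using Subgroup.closure_induction with
    | mem t ht => exact h t ht
    | one => rw [commutatorElement_one_right]; exact one_mem _
    | mul u v hu _ h1 h2 =>
      have e : ⁅x, u * v⁆ = ⁅x, u⁆ * (u * ⁅x, v⁆ * u⁻¹) := by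
        simp only [commutatorElement_def]; group
      rw [e]
      exact mul_mem h1 (zseries_conj h2 hu)
    | inv u hu h1 =>
      have e : ⁅x, u⁻¹⁆ = u⁻¹ * ⁅x, u⁆⁻¹ * u⁻¹⁻¹ := by
        simp only [commutatorElement_def]; group
      rw [e]
      exact zseries_conj (inv_mem h1) (inv_mem hu)
  obtain ⟨z, hz, e⟩ := key y.1 y.2
  have : z = ⁅(⟨x, hx⟩ : Subgroup.closure T), y⁆ := Subtype.ext e
  exact this ▸ hz

/-- If the generators lie in some term of the series then the group is nilpotent. -/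
theorem isNilpotent_of_zseries {T : Set G} {n : ℕ}
    (h : ∀ t ∈ T, t ∈ zseries (Subgroup.closure T) n) :
    Group.IsNilpotent (Subgroup.closure T) := by
  refine ⟨⟨n, eq_top_iff.mpr fun y _ => ?_⟩⟩
  obtain ⟨z, hz, e⟩ := ((Subgroup.closure_le _).mpr h) y.2
  rw [← Subtype.ext e (a2 := y)]
  exact hz

theorem mem_zseries_mono {R : Subgroup G} {m n : ℕ} (h : m ≤ n) {x : G} (hx : x ∈ zseries R m) :
    x ∈ zseries R n :=
  Subgroup.map_mono (Subgroup.upperCentralSeries_mono R h) hx

end Cfsg.Agent.Lib.RootSubgroups
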